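import Cfsg.Agent.Lib.Spor.SuzR.LocalCheck

/-!
Groups of Suzuki sporadic type: the action of the stabiliser of a point on the four-space.
-/

set_option autoImplicit false
set_option maxRecDepth 100000
set_option linter.unusedSectionVars false

namespace Cfsg.Agent.Spor.SuzT.Rad

open Chk Dat

/-- code of a lift -/
def liftC (u : ℕ) : ℕ := 2 * bit u 0 + 8 * bit u 1 + 16 * bit u 2 + 32 * bit u 3

/-- action on the four-space -/
noncomputable def act (g : Ga) (u : ℕ) : ℕ := nv (g • vec (liftC u))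

theorem lift_spec {u : ℕ} (hu : u < 16) : Hyp0 (vec (liftC u)) ∧ nv (vec (liftC u)) = u ∧ liftC u < 64 := by
  have h := List.all_eq_true.mp lift_ok u (List.mem_range.mpr hu)
  simp only [Bool.and_eq_true] at h
  have hlt : liftC u < 64 := Nat.le_of_ble_eq_true h.1.1
  exact ⟨(hyp0_iff _).2 (by rw [enc_vec _ hlt]; exact Nat.eq_of_beq_eq_true h.1.2),
    by rw [nv, enc_vec _ hlt]; exact Nat.eq_of_beq_eq_true h.2, hlt⟩

theorem hyp0_smul {g : Ga} (hg : g • e0 = e0) {v : V} (hv : Hyp0 v) : Hyp0 (g • v) := by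
  have h := smul_pol g e0 v
  rw [hg] at h
  exact h.trans hv

theorem act_spec {g : Ga} (hg : g • e0 = e0) {v : V} (hv : Hyp0 v) : nv (g • v) = act g (nv v) := by
  obtain ⟨h1, h2, -⟩ := lift_spec (nv_lt v)
  have h3 : nv (v + vec (liftC (nv v))) = 0 := by rw [nv_add, h2]; exact Nat.xor_self _
  rcases nv_eq_zero (hyp0_add hv h1) h3 with e | e
  · rw [act, ← eq_neg_of_add_eq_zero_left e |>.trans (ZModModule.neg_eq_self _)]
  · have e' : v = vec (liftC (nv v)) + e0 := by
      rw [← e, add_comm v, ← add_assoc, ZModModule.add_self, zero_add]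
    calc nv (g • v) = nv (g • (vec (liftC (nv v)) + e0)) := by rw [← e']
      _ = _ := by rw [smul_add', hg, nv_add, nv_e0]; exact Nat.xor_zero _

theorem act_lt (g : Ga) (u : ℕ) : act g u < 16 := nv_lt _

theorem act_xor {g : Ga} (hg : g • e0 = e0) {u v : ℕ} (hu : u < 16) (hv : v < 16) :
    act g (Nat.xor u v) = Nat.xor (act g u) (act g v) := by
  obtain ⟨a1, a2, -⟩ := lift_spec hu
  obtain ⟨b1, b2, -⟩ := lift_spec hv
  have h := act_spec hg (hyp0_add a1 b1)
  rw [nv_add, a2, b2] at h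
  rw [← h, smul_add', nv_add]
  rfl

theorem act_zero {g : Ga} : act g 0 = 0 := by
  rw [act, show vec (liftC 0) = (0 : V) from by rw [show liftC 0 = 0 from rfl, ← enc_zero, vec_enc], smul_zero', nv_zero]

theorem act_mul {g h : Ga} (hg : g • e0 = e0) (hh : h • e0 = e0) {u : ℕ} (hu : u < 16) :
    act (g * h) u = act g (act h u) := by
  show nv ((g * h) • vec (liftC u)) = _
  rw [mul_smul, act_spec hg (hyp0_smul hh (lift_spec hu).1)]
  rfl

theorem act_one {u : ℕ} (hu : u < 16) : act 1 u = u := by rw [act, one_smul, (lift_spec hu).2.1]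

theorem act_q4 {g : Ga} (hg : g • e0 = e0) {u : ℕ} (hu : u < 16) : q4 (act g u) = q4 u := by
  obtain ⟨h1, h2, -⟩ := lift_spec hu
  have e : (q4 (act g u) : ZMod 2) = (q4 u : ZMod 2) := by
    rw [act, ← qm_nv (hyp0_smul hg h1), smul_qm, qm_nv h1, h2]
  have := (ZMod.natCast_eq_natCast_iff' _ _ 2).mp e
  have a := q4_lt (act g u)
  have b := q4_lt u
  omega

theorem act_p4 {g : Ga} (hg : g • e0 = e0) {u v : ℕ} (hu : u < 16) (hv : v < 16) :
    p4 (act g u) (act g v) = p4 u v := by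
  rw [p4, ← act_xor hg hu hv, act_q4 hg hu, act_q4 hg hv, act_q4 hg (xor_lt16 hu hv)]
  rfl

theorem act_rad {g : Ga} (hg : RadAt g) {u : ℕ} (hu : u < 16) : act g u = u := by
  obtain ⟨h1, h2, -⟩ := lift_spec hu
  rcases hg.2 _ h1 with e | e <;> rw [act, e]
  · exact h2
  · rw [nv_add, nv_e0, h2]; exact Nat.xor_zero _

theorem act_cols {g : Ga} {L : List ℕ} (h : IsCols (g : OG) L) {u : ℕ} (hu : u < 16) : act g u = act4 L u := by
  rw [act, nv, enc_smul h, enc_vec _ (lift_spec hu).2.2]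
  rfl

theorem smul_e0_cols {g : Ga} {L : List ℕ} (h : IsCols (g : OG) L) (e : app L 1 = 1) : g • e0 = e0 :=
  enc_injective (by rw [enc_smul h, e0_facts.2.2, e])

theorem radAt_of_list {g : Ga} {L : List ℕ} (h : IsCols (g : OG) L) (h1 : app L 1 = 1)
    (hL : (rad.any fun e => e.1 == L) = true) : RadAt g := by
  refine ⟨smul_e0_cols h h1, fun v hv => ?_⟩
  simp only [List.any_eq_true, beq_iff_eq] at hL
  obtain ⟨e, he, rfl⟩ := hL
  have hr := List.all_eq_true.mp radVec_ok e he
  simp only [Bool.and_eq_true, List.all_eq_true, List.mem_range] at hr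
  have hb := hr.2 _ (enc_lt v)
  have hv0 : bit (enc v) 2 = 0 := (hyp0_iff v).1 hv
  rw [hv0, Nat.beq_refl, cond_true] at hb
  have hb' := Nat.eq_of_beq_eq_true hb
  have hp := p4_lt (n4 (enc v)) (thL e.1)
  interval_cases hpe : p4 (n4 (enc v)) (thL e.1)
  · exact Or.inl (enc_injective (by rw [enc_smul h, hb']; exact Nat.xor_zero _))
  · exact Or.inr (enc_injective (by rw [enc_smul h, hb', enc_add, e0_facts.2.2]))

theorem rad_conj {g h : Ga} (hg : RadAt g) (hh : h • e0 = e0) : RadAt (h * g * h⁻¹) := by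
  have hi : h⁻¹ • e0 = e0 := inv_smul_eq_iff.2 hh.symm
  refine ⟨by rw [mul_smul, mul_smul, hi, hg.1, hh], fun v hv => ?_⟩
  rw [mul_smul, mul_smul]
  rcases hg.2 _ (hyp0_smul hi hv) with e | e <;> rw [e]
  · exact Or.inl (smul_inv_smul h v)
  · exact Or.inr (by rw [smul_add', smul_inv_smul, hh])

theorem th_conj {g h : Ga} (hg : RadAt g) (hh : h • e0 = e0) : th (h * g * h⁻¹) = act h (th g) := by
  have hi : h⁻¹ • e0 = e0 := inv_smul_eq_iff.2 hh.symm
  have hf : pol e0 f0 = 1 := by rw [pol_enc, e0_facts.2.2, enc_f0]; rfl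
  have hd : Hyp0 (h⁻¹ • f0 + f0) := by
    have h' := smul_pol h⁻¹ e0 f0
    rw [hi, hf] at h'
    rw [Hyp0, pol_add_right, h', hf, ZModModule.add_self]
  set d := h⁻¹ • f0 + f0 with hd'
  have e1 : h⁻¹ • f0 = f0 + d := by rw [hd', add_comm f0, add_assoc, ZModModule.add_self, add_zero]
  have e2 : (h * g * h⁻¹) • f0 + f0 = h • ((g • f0 + f0) + (g • d + d)) := by
    calc (h * g * h⁻¹) • f0 + f0 = h • (g • h⁻¹ • f0) + h • (h⁻¹ • f0) := by rw [mul_smul, mul_smul, smul_inv_smul]
      _ = h • (g • (f0 + d) + (f0 + d)) := by rw [e1, ← smul_add' h]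
      _ = _ := by congr 1; rw [smul_add' g]; abel
  have hgd := rad_spec hg
  have h3 : Hyp0 (g • d + d) := hyp0_add (hyp0_smul hg.1 hd) hd
  have h4 : nv (g • d + d) = 0 := by
    rw [nv_add, act_spec hg.1 hd, act_rad hg (nv_lt d)]; exact Nat.xor_self _
  rw [th, e2, act_spec hh (hyp0_add hgd.1 h3), nv_add, h4]
  exact congrArg (act h) (Nat.xor_zero _)

theorem cen_spec {g : Ga} (hg : Commute g sC) :
    ∃ L, IsCols (g : OG) L ∧ app L 1 = 1 ∧
      (mulL L L = idL → (rad.any fun e => e.1 == L) = true ∨ (clsA.any fun e => e.1 == L) = false) ∧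
      ∀ u < 16, sixB u = true → (act4 L u = u → (rad.any fun e => e.1 == L) = true) ∧
        (act4 L u = Nat.xor u 4 → ∀ r < 16, perpR u r = true → act4 L r ≠ r) := by
  have hc := cen_ok
  simp only [cenOK, Bool.and_eq_true, List.all_eq_true, decide_eq_true_eq, beq_iff_eq] at hc
  obtain ⟨⟨hlen, hnd⟩, hall⟩ := hc
  let f : Fin cen.length → Subgroup.centralizer ({sC} : Set Ga) := fun k =>
    ⟨we cen[k.1], Subgroup.mem_centralizer_singleton_iff.mpr (by
      obtain ⟨hw, he⟩ := hall _ (List.getElem_mem k.2)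
      exact Subtype.ext (((we_cols hw).mul rep_spec.2.1).ext (he ▸ rep_spec.2.1.mul (we_cols hw))))⟩
  have hinj : Function.Injective f := fun x y e => by
    have e' : we cen[x.1] = we cen[y.1] := congrArg Subtype.val e
    have := (we_cols (hall _ (List.getElem_mem x.2)).1).unique (e'.symm ▸ we_cols (hall _ (List.getElem_mem y.2)).1)
    exact Fin.ext ((List.Nodup.getElem_inj_iff hnd (hi := by simp) (hj := by simp)).mp (by simpa using this))
  have hbij := hinj.bijective_of_nat_card_le (le_of_eq (by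
    rw [card_cents.2, Nat.card_fin, Nat.eq_of_beq_eq_true hlen]))
  obtain ⟨k, hk⟩ := hbij.2 ⟨g, Subgroup.mem_centralizer_singleton_iff.mpr hg.eq⟩
  have hge : we cen[k.1] = g := congrArg Subtype.val hk
  have hcols := we_cols (hall _ (List.getElem_mem k.2)).1
  rw [hge] at hcols
  have h := List.all_eq_true.mp cen_act_ok _ (List.mem_map_of_mem (List.getElem_mem k.2))
  simp only [Bool.and_eq_true, Bool.or_eq_true, Bool.not_eq_true', List.all_eq_true, List.mem_range] at h
  obtain ⟨⟨h1, h2⟩, h3⟩ := h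
  refine ⟨_, hcols, Nat.eq_of_beq_eq_true h1, fun e => ?_, fun u hu hs => ?_⟩
  · rcases h2 with (h2 | h2) | h2
    · rw [beq_iff_eq.2 e] at h2; cases h2
    · exact Or.inl h2
    · exact Or.inr h2
  · rcases h3 u hu with h3 | ⟨h4, h5⟩
    · rw [hs] at h3; cases h3
    refine ⟨fun e => ?_, fun e r hr hp e' => ?_⟩
    · rcases h4 with h4 | h4
      · rw [e, Nat.beq_refl] at h4; cases h4
      · exact h4
    · rcases h5 with h5 | h5
      · rw [e, Nat.beq_refl] at h5; cases h5
      · rcases h5 r hr with h6 | h6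
        · rw [hp] at h6; cases h6
        · rw [e', Nat.beq_refl] at h6; cases h6

end Cfsg.Agent.Spor.SuzT.Rad
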