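import Cfsg.Agent.Lib.Spor.SuzR.Fus
import Cfsg.Agent.Lib.Solv.CIT.Basic

/-!
Groups of Suzuki sporadic type: the centraliser of the four-group modulo the four-group.
-/

set_option autoImplicit false
set_option maxRecDepth 100000
set_option linter.unusedSectionVars false
set_option linter.style.haveILetI false

namespace Cfsg.Agent.Spor.SuzT.Rad

open Chk Dat

universe u

variable {G : Type u} [Group G] [Finite G] {z : G} {Q : Subgroup G} {C : Ctx z Q} (L : Cfg C)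

theorem Cfg.Hv_le : L.Hv ≤ L.H := inf_le_left

theorem Cfg.Hv_V {g w : G} (hg : g ∈ L.Hv) (hw : w ∈ L.V) : Commute g w := by
  obtain ⟨h1, h2⟩ := L.mem_Hv.1 hg
  rcases hw with rfl | rfl | rfl | rfl
  exacts [Commute.one_right _, h1, h2, h1.mul_right h2]

/-- the four-group inside its centraliser -/
noncomputable def Cfg.VH : Subgroup L.Hv := L.V.subgroupOf L.Hv

instance Cfg.VH_normal : L.VH.Normal := ⟨fun a ha b => by
  rw [Cfg.VH, Subgroup.mem_subgroupOf] at ha ⊢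
  show (b : G) * a * (b : G)⁻¹ ∈ L.V
  rwa [(L.Hv_V b.2 ha).eq, mul_inv_cancel_right]⟩

/-- the quotient -/
abbrev Cfg.MQ : Type u := L.Hv ⧸ L.VH

/-- the projection -/
noncomputable def Cfg.bar {g : G} (hg : g ∈ L.Hv) : L.MQ := QuotientGroup.mk' L.VH ⟨g, hg⟩

theorem Cfg.bar_eq {a b : G} (ha : a ∈ L.Hv) (hb : b ∈ L.Hv) : L.bar ha = L.bar hb ↔ a⁻¹ * b ∈ L.V := by
  rw [Cfg.bar, Cfg.bar, QuotientGroup.mk'_apply, QuotientGroup.mk'_apply, QuotientGroup.eq]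
  exact Iff.rfl

theorem Cfg.bar_one_iff {a : G} (ha : a ∈ L.Hv) : L.bar ha = 1 ↔ a ∈ L.V := by
  rw [Cfg.bar, QuotientGroup.mk'_apply, QuotientGroup.eq_one_iff]
  exact Iff.rfl

theorem Cfg.bar_mul {a b : G} (ha : a ∈ L.Hv) (hb : b ∈ L.Hv) :
    L.bar (mul_mem ha hb) = L.bar ha * L.bar hb := (QuotientGroup.mk' L.VH).map_mul ⟨a, ha⟩ ⟨b, hb⟩

theorem Cfg.bar_inv {a : G} (ha : a ∈ L.Hv) : L.bar (inv_mem ha) = (L.bar ha)⁻¹ :=
  (QuotientGroup.mk' L.VH).map_inv ⟨a, ha⟩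

theorem Cfg.bar_surj (m : L.MQ) : ∃ (g : G) (hg : g ∈ L.Hv), L.bar hg = m := by
  obtain ⟨⟨g, hg⟩, rfl⟩ := QuotientGroup.mk'_surjective L.VH m
  exact ⟨g, hg, rfl⟩

theorem Cfg.bar_congr {a b : G} (ha : a ∈ L.Hv) (hb : b ∈ L.Hv) (e : a = b) : L.bar ha = L.bar hb := by
  subst e; rfl

theorem Cfg.bar_conj {a b : G} (ha : a ∈ L.Hv) (hb : b ∈ L.Hv) :
    L.bar hb * L.bar ha * (L.bar hb)⁻¹ = L.bar (mul_mem (mul_mem hb ha) (inv_mem hb)) := by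
  rw [L.bar_mul (mul_mem hb ha) (inv_mem hb), L.bar_mul hb ha, L.bar_inv hb]

theorem Cfg.zel_V {i j : ℕ} (hi : i < 2) (hj : j < 2) (h : C.zel i j ∈ L.V) : C.zel i j = 1 := by
  obtain ⟨r, hr⟩ := L.exists_perp
  refine L.E_V hr (Cfg.mem_E.2 ⟨C.A_le (C.zel_mem i j).1, ?_⟩) h
  rw [C.fst_A (C.zel_mem i j).1, C.co_zel hi hj, C.th_zel]
  exact inE_zero r

theorem Cfg.zel_E {r i j : ℕ} (hi : i < 2) (hj : j < 2) : C.zel i j ∈ Cfg.E (C := C) r :=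
  Cfg.mem_E.2 ⟨C.A_le (C.zel_mem i j).1, by
    rw [C.fst_A (C.zel_mem i j).1, C.co_zel hi hj, C.th_zel]; exact inE_zero r⟩

theorem Cfg.z_E {r : ℕ} : z ∈ Cfg.E (C := C) r := by
  simpa [Ctx.zel] using Cfg.zel_E (C := C) (r := r) (i := 1) (j := 0) (by norm_num) (by norm_num)

/-- conjugates of the central involution are transitive under the centraliser of the four-group -/
theorem Cfg.D_trans_Hv {d : G} (hd : Commute d L.t) (hD : IsConj z d) : ∃ g ∈ L.Hv, g * z * g⁻¹ = d := by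
  obtain ⟨g, hg, e⟩ := L.D_trans hd hD
  have hgt := L.mem_H.1 hg
  rcases L.V_normal hg with h | h
  · exact ⟨g, L.mem_Hv.2 ⟨hgt, mul_inv_eq_iff_eq_mul.1 h⟩, e⟩
  · refine ⟨g * L.σ, L.mem_Hv.2 ⟨hgt.mul_left L.σ_t, mul_inv_eq_iff_eq_mul.1 ?_⟩, ?_⟩
    · rw [show g * L.σ * L.v * (g * L.σ)⁻¹ = g * (L.σ * L.v * L.σ⁻¹) * g⁻¹ by group, L.σ_v,
        show g * (L.t * L.v) * g⁻¹ = g * L.t * g⁻¹ * (g * L.v * g⁻¹) by group, hgt.eq, mul_inv_cancel_right, h,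
        ← mul_assoc, L.sq, one_mul]
    · rw [show g * L.σ * z * (g * L.σ)⁻¹ = g * (L.σ * z * L.σ⁻¹) * g⁻¹ by group, L.σ_z.eq,
        mul_inv_cancel_right, e]

theorem Cfg.z_Hv : z ∈ L.Hv := L.S₀_le_Hv L.z_S₀

theorem Cfg.coset_D {d : G} (hD : IsConj z d) {w : G} (hd : d ∈ L.Hv) (hw : w ∈ L.V) (hD' : IsConj z (d * w)) :
    w = 1 := by
  obtain ⟨g, hg, rfl⟩ := L.D_trans_Hv (L.mem_Hv.1 hd).1 hD
  have e : g⁻¹ * (g * z * g⁻¹ * w) * g = z * w := by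
    rw [show g⁻¹ * (g * z * g⁻¹ * w) * g = z * (g⁻¹ * w * g) by group, (L.Hv_V hg hw).inv_left.eq,
      inv_mul_cancel_right]
  have hzw : IsConj z (z * w) := hD'.trans (isConj_iff.2 ⟨g⁻¹, by rw [inv_inv]; exact e⟩)
  obtain ⟨r, hr, hE⟩ := L.D_E (L.S₀_le (mul_mem L.z_S₀ (L.V_le hw))) hzw
  refine L.E_V hr ?_ hw
  have := mul_mem (inv_mem (Cfg.z_E (C := C) (r := r))) hE
  rwa [inv_mul_cancel_left] at this

theorem Cfg.cent_bar {b : G} (hb : b ∈ L.Hv) (hc : Commute (L.bar hb) (L.bar L.z_Hv)) : b ∈ L.S₀ := by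
  have h1 : L.bar (mul_mem (mul_mem hb L.z_Hv) (inv_mem hb)) = L.bar L.z_Hv := by
    rw [← L.bar_conj L.z_Hv hb, hc.eq, mul_inv_cancel_right]
  rw [L.bar_eq] at h1
  have hw := inv_mem h1
  rw [mul_inv_rev, inv_inv] at hw
  have hD : IsConj z (z * (z⁻¹ * (b * z * b⁻¹))) := by
    rw [mul_inv_cancel_left]; exact isConj_iff.2 ⟨b, rfl⟩
  have e := L.coset_D (IsConj.refl z) L.z_Hv hw hD
  obtain ⟨hbt, hbv⟩ := L.mem_Hv.1 hb
  have hS : b ∈ L.S := L.mem_S.2 ⟨hbt, mul_inv_eq_iff_eq_mul.1 (inv_mul_eq_one.1 e).symm⟩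
  by_contra h0
  have h := L.out_v hS h0
  rw [hbv.eq, mul_inv_cancel_right] at h
  exact L.t_v_ne h.symm

theorem Cfg.invol_bar {a : G} (ha : a ∈ L.S₀) (haa : a * a ∈ L.V) : a * a = 1 := by
  rw [C.sq_law (L.mem_S₀.1 ha).1] at haa ⊢
  exact L.zel_V (Nat.mod_lt _ (by norm_num)) (Nat.mod_lt _ (by norm_num)) haa

theorem Cfg.sq_four {g : G} (hg : g ∈ L.Hv) (hgg : g * g ∈ L.V) : Tw.TwoElt g := by
  refine ⟨2, ?_⟩
  rw [show g ^ 2 ^ 2 = (g * g) * (g * g) by rw [← pow_two, ← pow_two, ← pow_mul]; norm_num]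
  rcases hgg with e | e | e | e <;> rw [e]
  · rw [one_mul]
  · exact L.sq
  · exact L.v_sq
  · rw [show L.t * L.v * (L.t * L.v) = L.t * (L.v * L.t) * L.v by group, L.v_t.eq,
      show L.t * (L.t * L.v) * L.v = L.t * L.t * (L.v * L.v) by group, L.sq, L.v_sq, one_mul]

theorem Cfg.invol_image {m : L.MQ} (hm : m * m = 1) (hm1 : m ≠ 1) :
    ∃ (d : G) (hd : d ∈ L.Hv), IsConj z d ∧ L.bar hd = m := by
  obtain ⟨g, hg, rfl⟩ := L.bar_surj m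
  rw [← L.bar_mul hg hg, L.bar_one_iff] at hm
  rw [Ne, L.bar_one_iff] at hm1
  obtain ⟨c, hc, hc'⟩ := L.Hv_syl.conj_elt hg (L.sq_four hg hm)
  set a := c * g * c⁻¹ with ha
  have haa : a * a = 1 := L.invol_bar hc' (by
    rw [ha, conj_mul, (L.Hv_V hc hm).eq, mul_inv_cancel_right]; exact hm)
  obtain ⟨r, hr, hW⟩ := L.invol_W hc' haa
  obtain ⟨e, he, w, hw, hew⟩ := L.W_split hr hW
  have he1 : e ≠ 1 := fun e' => hm1 (by
    rw [e', one_mul] at hew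
    have : g = c⁻¹ * w * c := by rw [← hew, ha]; group
    rw [this, (L.Hv_V hc hw).inv_left.eq, inv_mul_cancel_right]
    exact hw)
  have hD := (L.W_D hr (L.E_le_W hr he) he1).2 he
  have heH : e ∈ L.Hv := L.S₀_le_Hv (L.W_le hr (L.E_le_W hr he))
  refine ⟨c⁻¹ * e * c, mul_mem (mul_mem (inv_mem hc) heH) hc, hD.trans (isConj_iff.2 ⟨c⁻¹, by group⟩),
    (L.bar_eq _ hg).2 ?_⟩
  have hwH : w ∈ L.Hv := L.S₀_le_Hv (L.V_le hw)
  rw [show (c⁻¹ * e * c)⁻¹ * g = c⁻¹ * (e⁻¹ * (c * g * c⁻¹)) * c by group, ← ha, hew, inv_mul_cancel_left,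
    (L.Hv_V hc hw).inv_left.eq, inv_mul_cancel_right]
  exact hw

theorem Cfg.invol_conj {m : L.MQ} (hm : m * m = 1) (hm1 : m ≠ 1) :
    ∃ q : L.MQ, q * L.bar L.z_Hv * q⁻¹ = m := by
  obtain ⟨d, hd, hD, rfl⟩ := L.invol_image hm hm1
  obtain ⟨g, hg, e⟩ := L.D_trans_Hv (L.mem_Hv.1 hd).1 hD
  exact ⟨L.bar hg, by rw [L.bar_conj L.z_Hv hg]; exact L.bar_congr _ _ e⟩

theorem Cfg.z_bar_sq : L.bar L.z_Hv * L.bar L.z_Hv = 1 ∧ L.bar L.z_Hv ≠ 1 := by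
  refine ⟨?_, fun e => L.V_not_D ((L.bar_one_iff _).1 e) (IsConj.refl z)⟩
  rw [← L.bar_mul L.z_Hv L.z_Hv, L.bar_one_iff, zz C.hy]
  exact one_mem _

/-- the Sylow subgroup of the quotient -/
noncomputable def Cfg.U : Subgroup L.MQ := (L.S₀.subgroupOf L.Hv).map (QuotientGroup.mk' L.VH)

theorem Cfg.mem_U {m : L.MQ} : m ∈ L.U ↔ ∃ (g : G) (hg : g ∈ L.S₀), L.bar (L.S₀_le_Hv hg) = m := by
  constructor
  · rintro ⟨⟨g, hg⟩, hg', rfl⟩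
    exact ⟨g, hg', rfl⟩
  · rintro ⟨g, hg, rfl⟩
    exact ⟨⟨g, L.S₀_le_Hv hg⟩, hg, rfl⟩

theorem Cfg.card_U : Nat.card L.U = 64 := by
  let f : L.S₀ →* L.MQ := (QuotientGroup.mk' L.VH).comp (Subgroup.inclusion L.S₀_le_Hv)
  have hr : f.range = L.U := by
    ext m
    rw [MonoidHom.mem_range, L.mem_U]
    exact ⟨fun ⟨g, e⟩ => ⟨g, g.2, e⟩, fun ⟨g, hg, e⟩ => ⟨⟨g, hg⟩, e⟩⟩
  have hk : f.ker = L.V.subgroupOf L.S₀ := by
    ext g
    exact (L.bar_one_iff (L.S₀_le_Hv g.2)).trans Iff.rfl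
  have h := Subgroup.card_eq_card_quotient_mul_card_subgroup f.ker
  rw [Nat.card_congr (QuotientGroup.quotientKerEquivRange f).toEquiv, hr, hk, L.toLoc.card_S₀,
    Nat.card_congr (Subgroup.subgroupOfEquivOfLe L.V_le).toEquiv, L.card_V] at h
  omega

theorem Cfg.z_U : L.bar L.z_Hv ∈ L.U := L.mem_U.2 ⟨z, L.z_S₀, rfl⟩

/-- the Sylow subgroup of the quotient, bundled -/
noncomputable def Cfg.USyl : Sylow 2 L.MQ :=
  L.Hv_syl.sylow.mapSurjective (f := QuotientGroup.mk' L.VH) (QuotientGroup.mk'_surjective _)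

theorem Cfg.USyl_eq : (L.USyl : Subgroup L.MQ) = L.U := rfl

theorem Cfg.card_sylow (P : Sylow 2 L.MQ) : Nat.card (P : Subgroup L.MQ) = 64 := by
  haveI : Fact (Nat.Prime 2) := ⟨Nat.prime_two⟩
  rw [Sylow.card_eq_multiplicity, ← L.USyl.card_eq_multiplicity, L.USyl_eq, L.card_U]

theorem Cfg.cent_z {m : L.MQ} (h : Commute m (L.bar L.z_Hv)) : m ∈ L.U := by
  obtain ⟨b, hb, rfl⟩ := L.bar_surj m
  exact L.mem_U.2 ⟨b, L.cent_bar hb h, rfl⟩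

theorem Cfg.cit : Cfsg.Agent.Solv.CITGroups.CIT L.MQ := by
  intro m hm
  obtain ⟨hm2, hm1⟩ := Cfsg.Agent.Solv.CITGroups.orderOf_two_iff.1 hm
  obtain ⟨q, rfl⟩ := L.invol_conj hm2 hm1
  refine (IsPGroup.of_card (n := 6) L.card_U |>.map (MulAut.conj q).toMonoidHom).to_le (fun c hc => ?_)
  have hc' := (Commute.conj_iff q⁻¹).2 (Subgroup.mem_centralizer_singleton_iff.1 hc :
    Commute c (q * L.bar L.z_Hv * q⁻¹))
  rw [inv_inv, show q⁻¹ * (q * L.bar L.z_Hv * q⁻¹) * q = L.bar L.z_Hv by group] at hc'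
  exact ⟨q⁻¹ * c * q, L.cent_z hc', by
    show q * (q⁻¹ * c * q) * q⁻¹ = c
    group⟩

theorem Cfg.center_U {m : L.MQ} (hm : m ∈ L.U) (hc : ∀ n ∈ L.U, Commute m n) :
    ∃ i j, i < 2 ∧ j < 2 ∧ m = L.bar (L.S₀_le_Hv (L.zel_S₀ i j)) := by
  obtain ⟨g, hg, rfl⟩ := L.mem_U.1 hm
  have hcen : ∀ d ∈ L.S₀, Commute g d := by
    intro d hd
    have h := hc _ (L.mem_U.2 ⟨d, hd, rfl⟩)
    have h1 : L.bar (mul_mem (L.S₀_le_Hv hg) (L.S₀_le_Hv hd)) = L.bar (mul_mem (L.S₀_le_Hv hd) (L.S₀_le_Hv hg)) := by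
      rw [L.bar_mul, L.bar_mul]; exact h.eq
    rw [L.bar_eq] at h1
    have hR : ∀ {a}, a ∈ L.S₀ → a ∈ C.R := fun h => (L.mem_S₀.1 h).1
    obtain ⟨i, j, hi, hj, e⟩ := C.xor_div (mul_mem (hR hg) (hR hd)) (mul_mem (hR hd) (hR hg))
      (by rw [C.fst_hom (hR hg) (hR hd), C.fst_hom (hR hd) (hR hg)]; exact Nat.xor_comm _ _)
      (by rw [C.th_mul (hR hg) (hR hd), C.th_mul (hR hd) (hR hg)]; exact Nat.xor_comm _ _)
    rw [e, inv_mul_cancel_left] at h1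
    rw [L.zel_V hi hj h1, mul_one] at e
    exact e.symm
  obtain ⟨i, j, hi, hj, w, hw, e⟩ := L.center_S₀ hg hcen
  refine ⟨i, j, hi, hj, ((L.bar_eq _ _).2 ?_).symm⟩
  rw [e, inv_mul_cancel_left]
  exact hw

theorem Cfg.not_all_comm : ¬ ∀ m n : L.MQ, m * m = 1 → n * n = 1 → Commute m n := by
  intro hall
  obtain ⟨r, hr⟩ := L.exists_perp
  obtain ⟨hs, hne, -, -⟩ := L.sw_perp hr
  obtain ⟨hr16, hr0, -⟩ := perp_spec hr
  obtain ⟨hs16, hs0, -⟩ := perp_spec hs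
  obtain ⟨h1, a1, a2⟩ := C.rep_coords (u := r) (v := 0) (i := 0) (j := 0) hr16 (by norm_num) (by norm_num) (by norm_num)
  obtain ⟨h2, b1, b2⟩ := C.rep_coords (u := L.sw r) (v := 0) (i := 0) (j := 0) hs16 (by norm_num) (by norm_num)
    (by norm_num)
  set a := C.ra r * C.rb 0 * C.zel 0 0
  set b := C.ra (L.sw r) * C.rb 0 * C.zel 0 0
  clear_value a b
  have ha : a ∈ L.S₀ := L.W_le hr (L.E_le_W hr (Cfg.mem_E.2 ⟨h1, by rw [a1, a2]; exact inE_iff.2 ⟨Or.inr rfl, Or.inl rfl⟩⟩))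
  have hb : b ∈ L.S₀ := L.W_le hs (L.E_le_W hs (Cfg.mem_E.2 ⟨h2, by rw [b1, b2]; exact inE_iff.2 ⟨Or.inr rfl, Or.inl rfl⟩⟩))
  have haa : a * a = 1 :=
    L.W_sq hr (L.E_le_W hr (Cfg.mem_E.2 ⟨h1, by rw [a1, a2]; exact inE_iff.2 ⟨Or.inr rfl, Or.inl rfl⟩⟩))
  have hbb : b * b = 1 :=
    L.W_sq hs (L.E_le_W hs (Cfg.mem_E.2 ⟨h2, by rw [b1, b2]; exact inE_iff.2 ⟨Or.inr rfl, Or.inl rfl⟩⟩))
  have h := hall (L.bar (L.S₀_le_Hv ha)) (L.bar (L.S₀_le_Hv hb))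
    (by rw [← L.bar_mul, L.bar_one_iff, haa]; exact one_mem _)
    (by rw [← L.bar_mul, L.bar_one_iff, hbb]; exact one_mem _)
  have h3 : L.bar (mul_mem (L.S₀_le_Hv ha) (L.S₀_le_Hv hb)) = L.bar (mul_mem (L.S₀_le_Hv hb) (L.S₀_le_Hv ha)) := by
    rw [L.bar_mul, L.bar_mul]; exact h.eq
  rw [L.bar_eq] at h3
  obtain ⟨i, j, hi, hj, e⟩ := C.xor_div (mul_mem h1 h2) (mul_mem h2 h1)
    (by rw [C.fst_hom h1 h2, C.fst_hom h2 h1]; exact Nat.xor_comm _ _)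
    (by rw [C.th_mul h1 h2, C.th_mul h2 h1]; exact Nat.xor_comm _ _)
  rw [e, inv_mul_cancel_left] at h3
  rw [L.zel_V hi hj h3, mul_one] at e
  have hcz := (C.comm_iff h1 h2).1 e.symm
  rw [a1, a2, b1, b2] at hcz
  have hp : p4 r (L.sw r) = 1 := by
    have h4 := List.all_eq_true.mp ((Bool.and_eq_true _ _).mp six_ok).2 L.u (List.mem_range.mpr L.u_lt)
    rw [L.six, Bool.not_true, Bool.false_or] at h4
    have h5 := List.all_eq_true.mp h4 r (List.mem_range.mpr hr16)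
    simp only [hr, Bool.not_true, Bool.false_or, Bool.and_eq_true] at h5
    have h6 := List.all_eq_true.mp h5.1.1 (L.sw r) (List.mem_range.mpr hs16)
    simp only [hs, Bool.not_true, Bool.false_or, Bool.or_eq_true] at h6
    rcases h6 with h6 | h6
    · exact absurd (Nat.eq_of_beq_eq_true h6).symm hne
    · exact Nat.eq_of_beq_eq_true h6
  have key : ∀ r < 16, ∀ s < 16, p4 r s = 1 → (cz r 0 s 0, cx r 0 s 0) ≠ (0, 0) := by decide +kernel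
  exact key r hr16 _ hs16 hp (Prod.ext hcz.1 hcz.2)

end Cfsg.Agent.Spor.SuzT.Rad
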