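import Mathlib

/-!
Relative Sylow two-subgroups and small fixed-point arguments.
-/

set_option autoImplicit false
set_option linter.unusedSectionVars false

namespace Cfsg.Agent.Spor.SuzT.Tw

universe u

variable {X : Type u} [Group X] [Finite X]

/-- a group element of two-power order -/
def TwoElt (x : X) : Prop := ∃ n : ℕ, x ^ 2 ^ n = 1

theorem twoElt_of_mem {P : Subgroup X} (hP : IsPGroup 2 P) {x : X} (hx : x ∈ P) : TwoElt x := by
  obtain ⟨n, hn⟩ := hP ⟨x, hx⟩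
  exact ⟨n, congrArg Subtype.val hn⟩

theorem mem_normalizer_of {D : Subgroup X} {x : X} (h : ∀ d ∈ D, x * d * x⁻¹ ∈ D) :
    x ∈ Subgroup.normalizer (D : Set X) := by
  refine Subgroup.mem_normalizer_iff.2 fun y => ⟨h y, fun hy => ?_⟩
  let φ : D → D := fun d => ⟨x * d * x⁻¹, h d d.2⟩
  have hinj : Function.Injective φ := fun a b e =>
    Subtype.ext (mul_left_cancel (mul_right_cancel (congrArg Subtype.val e)))
  obtain ⟨d, hd⟩ := Finite.injective_iff_surjective.1 hinj ⟨_, hy⟩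
  exact mul_left_cancel (mul_right_cancel (congrArg Subtype.val hd)) ▸ d.2

/-- a relative Sylow subgroup: no larger two-subgroup of the ambient subgroup contains it -/
structure RelSyl (T H : Subgroup X) : Prop where
  le : T ≤ H
  two : IsPGroup 2 T
  max : ∀ K : Subgroup X, K ≤ H → IsPGroup 2 K → T ≤ K → K = T

theorem RelSyl.of_normal {T H : Subgroup X} (hle : T ≤ H) (h2 : IsPGroup 2 T)
    (h : ∀ x ∈ H, TwoElt x → x ∈ Subgroup.normalizer (T : Set X) → x ∈ T) : RelSyl T H := by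
  refine ⟨hle, h2, fun K hK hK2 hTK => ?_⟩
  by_contra hne
  haveI : Fact (Nat.Prime 2) := ⟨Nat.prime_two⟩
  haveI := hK2.isNilpotent
  have hlt : T.subgroupOf K < ⊤ := lt_top_iff_ne_top.2 fun e =>
    hne (le_antisymm (Subgroup.subgroupOf_eq_top.1 e) hTK)
  obtain ⟨x, hx, hxT⟩ := SetLike.exists_of_lt (normalizerCondition_of_isNilpotent _ hlt)
  exact hxT (h x (hK x.2) (twoElt_of_mem hK2 x.2)
    (mem_normalizer_of fun d hd => (Subgroup.mem_normalizer_iff.1 hx ⟨d, hTK hd⟩).1 hd))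

/-- the Sylow subgroup of the ambient subgroup -/
noncomputable def RelSyl.sylow {T H : Subgroup X} (h : RelSyl T H) : Sylow 2 H where
  toSubgroup := T.subgroupOf H
  isPGroup' := h.two.comap_subtype
  is_maximal' {K} hK hle := by
    have e := h.max (K.map H.subtype) (Subgroup.map_subtype_le _) (hK.map _)
      (fun t ht => ⟨⟨t, h.le ht⟩, hle ht, rfl⟩)
    refine le_antisymm (fun k hk => ?_) hle
    show (k : X) ∈ T
    rw [← e]
    exact ⟨k, hk, rfl⟩

theorem RelSyl.conj_into {T H : Subgroup X} (h : RelSyl T H) {P : Subgroup X} (hP : P ≤ H) (h2 : IsPGroup 2 P) :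
    ∃ g ∈ H, ∀ p ∈ P, g * p * g⁻¹ ∈ T := by
  haveI : Fact (Nat.Prime 2) := ⟨Nat.prime_two⟩
  obtain ⟨R, hR⟩ := (h2.comap_subtype (K := H)).exists_le_sylow
  obtain ⟨g, hg⟩ := MulAction.exists_smul_eq H R h.sylow
  refine ⟨g, g.2, fun p hp => ?_⟩
  have hm : (g * ⟨p, hP hp⟩ * g⁻¹ : H) ∈ (h.sylow : Subgroup H) := by
    rw [← hg]
    exact ⟨⟨p, hP hp⟩, hR hp, rfl⟩
  exact hm

theorem RelSyl.conj_elt {T H : Subgroup X} (h : RelSyl T H) {p : X} (hp : p ∈ H) (h2 : TwoElt p) :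
    ∃ g ∈ H, g * p * g⁻¹ ∈ T := by
  haveI : Fact (Nat.Prime 2) := ⟨Nat.prime_two⟩
  obtain ⟨n, hn⟩ := h2
  obtain ⟨g, hg, hg'⟩ := h.conj_into (P := Subgroup.zpowers p) (Subgroup.zpowers_le.2 hp) (by
    obtain ⟨m, -, hm⟩ := (Nat.dvd_prime_pow Nat.prime_two).1 (orderOf_dvd_of_pow_eq_one hn)
    exact IsPGroup.of_card (n := m) (by rw [Nat.card_zpowers, hm]))
  exact ⟨g, hg, hg' p (Subgroup.mem_zpowers p)⟩

theorem RelSyl.odd_index {T H : Subgroup X} (h : RelSyl T H) : Odd (T.subgroupOf H).index := by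
  haveI : Fact (Nat.Prime 2) := ⟨Nat.prime_two⟩
  exact Nat.not_even_iff_odd.1 fun e => h.sylow.not_dvd_index (even_iff_two_dvd.1 e)

/-- three commuting fixed-point-free involutions leave no odd normal subgroup -/
theorem odd_bot {K : Subgroup X} (hn : K.Normal) (hodd : Odd (Nat.card K)) {a b : X} (ha : a * a = 1)
    (hb : b * b = 1) (hab : a * b = b * a) (fa : ∀ k ∈ K, Commute a k → k = 1)
    (fb : ∀ k ∈ K, Commute b k → k = 1) (fab : ∀ k ∈ K, Commute (a * b) k → k = 1) : K = ⊥ := by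
  have inv : ∀ c : X, c * c = 1 → (∀ k ∈ K, Commute c k → k = 1) → ∀ k ∈ K, c * k * c⁻¹ = k⁻¹ := by
    intro c hc hf k hk
    let φ : K →* K := MonoidHom.mk' (fun k => ⟨c * k * c⁻¹, hn.conj_mem k k.2 c⟩) fun p q =>
      Subtype.ext (by simp)
    have hφ : MonoidHom.FixedPointFree φ := fun p hp => Subtype.ext
      (hf p p.2 (mul_inv_eq_iff_eq_mul.1 (congrArg Subtype.val hp)))
    have h2 : Function.Involutive φ := fun p => Subtype.ext (by
      show c * (c * (p : X) * c⁻¹) * c⁻¹ = p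
      rw [show c * (c * (p : X) * c⁻¹) * c⁻¹ = c * c * p * (c * c)⁻¹ by group, hc]
      group)
    exact congrArg Subtype.val (congrFun (hφ.coe_eq_inv_of_involutive h2) ⟨k, hk⟩)
  refine (Subgroup.eq_bot_iff_forall K).2 fun k hk => fab k hk ?_
  have e : a * b * k * (a * b)⁻¹ = k := by
    rw [show a * b * k * (a * b)⁻¹ = a * (b * k * b⁻¹) * a⁻¹ by group, inv b hb fb k hk,
      inv a ha fa _ (inv_mem hk), inv_inv]
  exact mul_inv_eq_iff_eq_mul.1 e

end Cfsg.Agent.Spor.SuzT.Tw
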