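import Cfsg.Agent.Lib.Spor.SuzR.Elem
import Cfsg.Agent.Lib.Spor.SuzR.TwoTools

/-!
Groups of Suzuki sporadic type: fusion in the centraliser of an involution of the second class.
-/

set_option autoImplicit false
set_option maxRecDepth 100000
set_option linter.unusedSectionVars false
set_option linter.style.haveILetI false

namespace Cfsg.Agent.Spor.SuzT.Rad

open Chk Dat

universe u

variable {G : Type u} [Group G] [Finite G] {z : G} {Q : Subgroup G} {C : Ctx z Q} (L : Cfg C)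

/-- the centraliser of the involution -/
def Cfg.H : Subgroup G := Subgroup.centralizer ({L.t} : Set G)

/-- the centraliser of the four-group -/
noncomputable def Cfg.Hv : Subgroup G := L.H ⊓ Subgroup.centralizer ({L.v} : Set G)

theorem Cfg.mem_H {g : G} : g ∈ L.H ↔ Commute g L.t := Subgroup.mem_centralizer_singleton_iff

theorem Cfg.mem_Hv {g : G} : g ∈ L.Hv ↔ Commute g L.t ∧ Commute g L.v :=
  and_congr Subgroup.mem_centralizer_singleton_iff Subgroup.mem_centralizer_singleton_iff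

theorem D_sq (h : Hyp z Q) {d : G} (hd : IsConj z d) : d * d = 1 ∧ d ≠ 1 := by
  obtain ⟨g, rfl⟩ := isConj_iff.1 hd
  exact ⟨by rw [conj_mul, zz h]; group, fun e => z_ne h (conj_eq_one_iff.1 e)⟩

theorem Cfg.D_conj {d g : G} (hd : IsConj z d) : IsConj z (g * d * g⁻¹) := hd.trans (isConj_iff.2 ⟨g, rfl⟩)

theorem Cfg.D_S {d : G} (hd : d ∈ L.S) (hD : IsConj z d) : d ∈ L.S₀ := by
  by_contra h
  exact L.out_not_D hd (D_sq C.hy hD).1 h hD

theorem Cfg.D_E {d : G} (hd : d ∈ L.S) (hD : IsConj z d) :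
    ∃ r, perpR L.u r = true ∧ d ∈ Cfg.E (C := C) r := by
  have h0 := L.D_S hd hD
  obtain ⟨r, hr, hW⟩ := L.invol_W h0 (D_sq C.hy hD).1
  exact ⟨r, hr, (L.W_D hr hW (D_sq C.hy hD).2).1 hD⟩

theorem Cfg.D_trans {d : G} (hd : Commute d L.t) (hD : IsConj z d) :
    ∃ g ∈ L.H, g * z * g⁻¹ = d := by
  obtain ⟨k, hk⟩ := isConj_iff.1 hD
  set t' := k⁻¹ * L.t * k with ht'
  have htt : t' * t' = 1 := by
    rw [show t' * t' = k⁻¹ * (L.t * L.t) * k by rw [ht']; group, L.sq]; group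
  have ht1 : t' ≠ 1 := fun e => L.ne_one (by
    calc L.t = k * t' * k⁻¹ := by rw [ht']; group
      _ = 1 := by rw [e]; group)
  have hz : Commute t' z := by
    have h := (Commute.conj_iff k⁻¹).2 hd.symm
    rwa [← hk, inv_inv, show k⁻¹ * (k * z * k⁻¹) * k = z by group] at h
  have hnD : ¬ IsConj z t' := fun e => L.not_D (e.trans (isConj_iff.2 ⟨k, by rw [ht']; group⟩))
  obtain ⟨c, hc, hce⟩ := C.conj_classC L.tz L.sq (C.pi_four L.mem L.four) hz htt (C.classC_of_not hz htt ht1 hnD)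
  refine ⟨k * c, L.mem_H.2 (mul_inv_eq_iff_eq_mul.1 ?_), ?_⟩
  · rw [show k * c * L.t * (k * c)⁻¹ = k * (c * L.t * c⁻¹) * k⁻¹ by group, hce, ht']; group
  · rw [show k * c * z * (k * c)⁻¹ = k * (c * z * c⁻¹) * k⁻¹ by group, hc.eq, mul_inv_cancel_right, hk]

theorem Cfg.S_two : IsPGroup 2 L.S := IsPGroup.of_card (n := 9) L.toLoc.card_S

theorem Cfg.S₀_two : IsPGroup 2 L.S₀ := IsPGroup.of_card (n := 8) L.toLoc.card_S₀

theorem Cfg.S_le : L.S ≤ L.H := inf_le_left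

theorem Cfg.cent_two {d c : G} (hd : Commute d L.t) (hD : IsConj z d) (hct : Commute c L.t) (hcd : Commute c d) :
    Tw.TwoElt c := by
  obtain ⟨g, hg, rfl⟩ := L.D_trans hd hD
  have hgt := L.mem_H.1 hg
  have hS : g⁻¹ * c * g ∈ L.S := by
    refine L.mem_S.2 ⟨(hgt.inv_left.mul_left hct).mul_left hgt, ?_⟩
    have h := (Commute.conj_iff g⁻¹).2 hcd
    rwa [inv_inv, show g⁻¹ * (g * z * g⁻¹) * g = z by group] at h
  obtain ⟨n, hn⟩ := Tw.twoElt_of_mem L.S_two hS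
  refine ⟨n, ?_⟩
  rw [show c = g * (g⁻¹ * c * g) * g⁻¹ by group, conj_pow, hn]; group

theorem Cfg.not_x_comm : ¬ Commute L.σ C.x := fun e => by
  have h := L.σx
  rw [e.eq, mul_inv_cancel_right] at h
  exact z_ne C.hy (mul_eq_left.1 h.symm)

theorem Cfg.out_x {c : G} (hc : c ∈ L.S) (h0 : c ∉ L.S₀) : c * C.x * c⁻¹ = C.x * z :=
  (L.S_x hc).resolve_left fun e => h0 (L.mem_S₀_of hc (mul_inv_eq_iff_eq_mul.1 e))

theorem Cfg.out_split {c : G} (hc : c ∈ L.S) (h0 : c ∉ L.S₀) : L.σ⁻¹ * c ∈ L.S₀ := by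
  refine L.mem_S₀_of (mul_mem (inv_mem L.σS) hc) (mul_inv_eq_iff_eq_mul.1 ?_)
  rw [show L.σ⁻¹ * c * C.x * (L.σ⁻¹ * c)⁻¹ = L.σ⁻¹ * (c * C.x * c⁻¹) * L.σ by group, L.out_x hc h0, ← L.σx]
  group

theorem Cfg.center_D {d : G} (hd : d ∈ L.S) (hD : IsConj z d) (hc : ∀ s ∈ L.S, Commute d s) : d = z := by
  have h0 := L.D_S hd hD
  obtain ⟨r, hr, hE⟩ := L.D_E hd hD
  obtain ⟨i, j, hi, hj, g, hg, e⟩ := L.center_S₀ h0 fun s hs => hc s (L.S₀_le hs)
  have hzel : C.zel i j ∈ Cfg.E (C := C) r := Cfg.mem_E.2 ⟨C.A_le (C.zel_mem i j).1, by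
    rw [C.fst_A (C.zel_mem i j).1, C.co_zel hi hj, C.th_zel]; exact inE_zero r⟩
  have hg1 : g = 1 := L.E_V hr (by
    rw [show g = (C.zel i j)⁻¹ * d by rw [e, inv_mul_cancel_left]]
    exact mul_mem (inv_mem hzel) hE) hg
  rw [hg1, mul_one] at e
  subst e
  have hcs := hc _ L.σS
  interval_cases j
  · interval_cases i
    · exact absurd C.zel_zero (D_sq C.hy hD).2
    · simp [Ctx.zel]
  · exfalso
    refine L.not_x_comm ?_
    have h := (L.σ_z.symm.pow_left i).inv_left.mul_left hcs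
    rw [Ctx.zel, inv_mul_cancel_left, pow_one] at h
    exact h.symm

theorem Cfg.S_syl : Tw.RelSyl L.S L.H := by
  refine Tw.RelSyl.of_normal L.S_le L.S_two fun g hg _ hn => ?_
  have hzS : z ∈ L.S := L.S₀_le L.z_S₀
  have hD : IsConj z (g * z * g⁻¹) := isConj_iff.2 ⟨g, rfl⟩
  have hd : g * z * g⁻¹ ∈ L.S := (Subgroup.mem_normalizer_iff.1 hn z).1 hzS
  have hgz : g * z * g⁻¹ = z := L.center_D hd hD fun s hs => by
    have hs' : g⁻¹ * s * g ∈ L.S := by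
      have := (Subgroup.mem_normalizer_iff.1 (inv_mem hn) s).1 hs
      rwa [inv_inv] at this
    have h := (Commute.conj_iff g).2 (L.mem_S.1 hs').2.symm
    rwa [show g * (g⁻¹ * s * g) * g⁻¹ = s by group] at h
  exact L.mem_S.2 ⟨L.mem_H.1 hg, mul_inv_eq_iff_eq_mul.1 hgz⟩

theorem Cfg.h_notin : L.h ∉ L.S₀ := fun e => by
  have h := L.hz
  rw [(L.mem_S₀.1 e).1.1.eq, mul_inv_cancel_right] at h
  exact C.base.nez h.symm

theorem Cfg.h_pow {y : G} (hy : y ∈ L.S₀) : ∀ n : ℕ, ∃ y' ∈ L.S₀, (L.h * y) ^ n = L.h ^ n * y'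
  | 0 => ⟨1, one_mem _, by simp⟩
  | n + 1 => by
    obtain ⟨y', hy', e⟩ := Cfg.h_pow hy n
    refine ⟨L.h⁻¹ * y' * L.h * y, mul_mem ?_ hy, by rw [pow_succ, e, pow_succ]; group⟩
    have h2 : L.h⁻¹ = L.h * L.h := inv_eq_of_mul_eq_one_right (by
      rw [← mul_assoc, ← pow_two, ← pow_succ, L.h3])
    have h4 : L.h⁻¹ * y' * L.h = L.h * (L.h * y' * L.h⁻¹) * L.h⁻¹ := by
      rw [show L.h * (L.h * y' * L.h⁻¹) * L.h⁻¹ = L.h * L.h * y' * (L.h * L.h)⁻¹ by group, ← h2, inv_inv]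
    rw [h4]
    exact L.h_S₀ (L.h_S₀ hy')

theorem Cfg.not_two {y : G} (hy : y ∈ L.S₀) : ¬ Tw.TwoElt (L.h * y) := by
  rintro ⟨n, hn⟩
  obtain ⟨y', hy', e⟩ := L.h_pow hy (2 ^ n)
  rw [hn] at e
  have h1 : L.h ^ 2 ^ n ∈ L.S₀ := by
    rw [show L.h ^ 2 ^ n = y'⁻¹ from (inv_eq_of_mul_eq_one_left e.symm).symm]
    exact inv_mem hy'
  refine L.h_notin ?_
  have h2 : L.h ^ (2 ^ n * 2 ^ n) ∈ L.S₀ := by rw [pow_mul]; exact pow_mem h1 _
  have h4 : (2 ^ n * 2 ^ n) % 3 = 1 := by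
    rw [← pow_add, ← two_mul, pow_mul, Nat.pow_mod, show 2 ^ 2 % 3 = 1 from rfl, one_pow, Nat.one_mod]
  rwa [← pow_mod_orderOf, orderOf_eq_prime (hp := ⟨Nat.prime_three⟩) L.h3
    (fun e => L.h_notin (by rw [e]; exact one_mem _)), h4, pow_one] at h2

theorem Cfg.zel_D {r : ℕ} {c : G} (hc : c ∈ L.S₀) (hD : IsConj z c) (hcen : ∀ s ∈ L.S₀, Commute c s)
    (hr : perpR L.u r = true) : ∃ i j, i < 2 ∧ j < 2 ∧ c = C.zel i j := by
  obtain ⟨i, j, hi, hj, g, hg, e⟩ := L.center_S₀ hc hcen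
  obtain ⟨r', hr', hE⟩ := L.D_E (L.S₀_le hc) hD
  have hzel : C.zel i j ∈ Cfg.E (C := C) r' := Cfg.mem_E.2 ⟨C.A_le (C.zel_mem i j).1, by
    rw [C.fst_A (C.zel_mem i j).1, C.co_zel hi hj, C.th_zel]; exact inE_zero r'⟩
  have hg1 : g = 1 := L.E_V hr' (by
    rw [show g = (C.zel i j)⁻¹ * c by rw [e, inv_mul_cancel_left]]
    exact mul_mem (inv_mem hzel) hE) hg
  exact ⟨i, j, hi, hj, by rw [e, hg1, mul_one]⟩

theorem Cfg.h_inv : L.h⁻¹ = L.h * L.h :=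
  inv_eq_of_mul_eq_one_right (by rw [← mul_assoc, ← pow_two, ← pow_succ, L.h3])

theorem Cfg.hxz : L.h * (C.x * z) * L.h⁻¹ = z := by
  rw [show L.h * (C.x * z) * L.h⁻¹ = L.h * C.x * L.h⁻¹ * (L.h * z * L.h⁻¹) by group, L.hz, L.hx, C.xz.eq,
    mul_assoc, C.base.sq, mul_one]

theorem Cfg.two_elt_S₀ {g : G} (hg : g ∈ L.H) (h2 : Tw.TwoElt g) (hn : g ∈ Subgroup.normalizer (L.S₀ : Set G))
    (hout : ∀ i : ℕ, L.h ^ i * g ∈ L.S → L.h ^ i * g ∈ L.S₀) : g ∈ L.S₀ := by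
  obtain ⟨r, hr⟩ := L.exists_perp
  have hd : g * z * g⁻¹ ∈ L.S₀ := (Subgroup.mem_normalizer_iff.1 hn z).1 L.z_S₀
  obtain ⟨i, j, hi, hj, e⟩ := L.zel_D hd (isConj_iff.2 ⟨g, rfl⟩) (fun s hs => by
    have hs' : g⁻¹ * s * g ∈ L.S₀ := by
      have := (Subgroup.mem_normalizer_iff.1 (inv_mem hn) s).1 hs
      rwa [inv_inv] at this
    have h := (Commute.conj_iff g).2 (L.mem_S₀.1 hs').1.1.symm
    rwa [show g * (g⁻¹ * s * g) * g⁻¹ = s by group] at h) hr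
  have hgt := L.mem_H.1 hg
  have hin : ∀ n : ℕ, L.h ^ n * (g * z * g⁻¹) * (L.h ^ n)⁻¹ = z → L.h ^ n * g ∈ L.S₀ := fun n hn' =>
    hout n (L.mem_S.2 ⟨(L.ht.pow_left n).mul_left hgt, mul_inv_eq_iff_eq_mul.1 (by
      rw [show L.h ^ n * g * z * (L.h ^ n * g)⁻¹ = L.h ^ n * (g * z * g⁻¹) * (L.h ^ n)⁻¹ by group]; exact hn')⟩)
  interval_cases i <;> interval_cases j
  · exact absurd (conj_eq_one_iff.1 (e.trans C.zel_zero)) (z_ne C.hy)
  · exfalso
    have hy := hin 2 (by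
      rw [e, show C.zel 0 1 = C.x by simp [Ctx.zel], show L.h ^ 2 * C.x * (L.h ^ 2)⁻¹ =
        L.h * (L.h * C.x * L.h⁻¹) * L.h⁻¹ by rw [pow_two]; group, L.hx, L.hxz])
    rw [pow_two, ← L.h_inv] at hy
    exact L.not_two hy (by rwa [mul_inv_cancel_left])
  · simpa using hin 0 (by rw [e]; simp [Ctx.zel])
  · exfalso
    have hy := hin 1 (by rw [pow_one, e, show C.zel 1 1 = C.x * z by simp [Ctx.zel, C.xz.eq], L.hxz])
    rw [pow_one] at hy
    have hy' : L.h⁻¹ * (L.h * g)⁻¹ * L.h ∈ L.S₀ := by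
      have := L.h_S₀ (L.h_S₀ (inv_mem hy))
      rwa [show L.h * (L.h * (L.h * g)⁻¹ * L.h⁻¹) * L.h⁻¹ = L.h * L.h * (L.h * g)⁻¹ * (L.h * L.h)⁻¹ by group,
        ← L.h_inv, inv_inv] at this
    refine L.not_two hy' ?_
    obtain ⟨n, hn2⟩ := h2
    refine ⟨n, ?_⟩
    rw [show L.h * (L.h⁻¹ * (L.h * g)⁻¹ * L.h) = g⁻¹ by group, inv_pow, hn2, inv_one]

theorem Cfg.t_v_ne : L.t * L.v ≠ L.v := fun e => L.ne_one (mul_eq_right.1 e)

theorem Cfg.S₀_le_Hv : L.S₀ ≤ L.Hv := fun _ hc => L.mem_Hv.2 ⟨(L.mem_S₀.1 hc).2, L.v_cent hc⟩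

theorem Cfg.out_v {c : G} (hc : c ∈ L.S) (h0 : c ∉ L.S₀) : c * L.v * c⁻¹ = L.t * L.v := by
  have hs := L.v_cent (L.out_split hc h0)
  rw [← L.σ_v, show c * L.v * c⁻¹ = L.σ * (L.σ⁻¹ * c * L.v * (L.σ⁻¹ * c)⁻¹) * L.σ⁻¹ by group, hs.eq,
    mul_inv_cancel_right]

theorem Cfg.Hv_syl : Tw.RelSyl L.S₀ L.Hv := by
  refine Tw.RelSyl.of_normal L.S₀_le_Hv L.S₀_two fun g hg h2 hn => ?_
  obtain ⟨hgt, hgv⟩ := L.mem_Hv.1 hg
  refine L.two_elt_S₀ (L.mem_H.2 hgt) h2 hn fun i hi => ?_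
  by_contra h0
  have h := L.out_v hi h0
  rw [((L.v_h.pow_left i).mul_left hgv).eq, mul_inv_cancel_right] at h
  exact L.t_v_ne h.symm

theorem Cfg.W_inj {r s : ℕ} (hr : perpR L.u r = true) (hs : perpR L.u s = true) (h : L.W r ≤ L.W s) : r = s := by
  obtain ⟨hr16, hr0, -⟩ := perp_spec hr
  obtain ⟨h1, a1, a2⟩ := C.rep_coords (u := r) (v := 0) (i := 0) (j := 0) hr16 (by norm_num) (by norm_num) (by norm_num)
  have hE : C.ra r * C.rb 0 * C.zel 0 0 ∈ Cfg.E (C := C) r :=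
    Cfg.mem_E.2 ⟨h1, by rw [a1, a2]; exact inE_iff.2 ⟨Or.inr rfl, Or.inl rfl⟩⟩
  have hne : C.ra r * C.rb 0 * C.zel 0 0 ≠ 1 := fun e => hr0 (by rw [← a1, e, C.fst_one])
  have hD := (L.W_D hr (L.E_le_W hr hE) hne).2 hE
  have h' := (Cfg.mem_E.1 ((L.W_D hs (h (L.E_le_W hr hE)) hne).1 hD)).2
  rw [a1, a2] at h'
  exact (inE_iff.1 h').1.resolve_left hr0

theorem Cfg.W_normal {r : ℕ} (hr : perpR L.u r = true) {c w : G} (hc : c ∈ L.S₀) (hw : w ∈ L.W r) :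
    c * w * c⁻¹ ∈ L.W r := by
  obtain ⟨hwR, hw'⟩ := (L.mem_W hr).1 hw
  have hcR := (L.mem_S₀.1 hc).1
  refine (L.mem_W hr).2 ⟨mul_mem (mul_mem hcR hwR) (inv_mem hcR), ?_⟩
  rw [C.fst_hom (mul_mem hcR hwR) (inv_mem hcR), C.fst_hom hcR hwR, C.th_mul (mul_mem hcR hwR) (inv_mem hcR),
    C.th_mul hcR hwR, (C.coords_inv hcR).1, (C.coords_inv hcR).2,
    show Nat.xor (Nat.xor (C.fst c) (C.fst w)) (C.fst c) = C.fst w by
      rw [show ∀ p q, Nat.xor p q = Nat.xor q p from Nat.xor_comm]; exact xor_cancel,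
    show Nat.xor (Nat.xor (C.th c) (C.th w)) (C.th c) = C.th w by
      rw [show ∀ p q, Nat.xor p q = Nat.xor q p from Nat.xor_comm]; exact xor_cancel]
  exact hw'

/-- the normaliser of an elementary subgroup in the centraliser of the involution -/
noncomputable def Cfg.NW (r : ℕ) : Subgroup G := L.H ⊓ Subgroup.normalizer (L.W r : Set G)

theorem Cfg.NW_syl {r : ℕ} (hr : perpR L.u r = true) : Tw.RelSyl L.S₀ (L.NW r) := by
  refine Tw.RelSyl.of_normal (fun c hc => ⟨L.S_le (L.S₀_le hc),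
    Tw.mem_normalizer_of fun w hw => L.W_normal hr hc hw⟩) L.S₀_two fun g hg h2 hn => ?_
  refine L.two_elt_S₀ hg.1 h2 hn fun i hi => ?_
  by_contra h0
  refine (L.sw_perp hr).2.1 ((L.W_inj (L.sw_perp hr).1 hr) ?_)
  have hh : L.h ∈ Subgroup.normalizer (L.W r : Set G) := Tw.mem_normalizer_of fun w hw => L.h_W hr hw
  have hN := mul_mem (pow_mem hh i) hg.2
  have hs := L.out_split hi h0
  have hle : (L.W r).map (MulAut.conj L.σ).toMonoidHom ≤ L.W (L.sw r) := by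
    rintro _ ⟨w, hw, rfl⟩
    exact L.σ_W hr hw
  have heq := Subgroup.eq_of_le_of_card_ge hle (le_of_eq (by
    rw [Subgroup.card_map_of_injective (MulAut.conj L.σ).injective, L.card_W hr, L.card_W (L.sw_perp hr).1]))
  rw [← heq]
  rintro _ ⟨w, hw, rfl⟩
  have h1 := L.W_normal hr (inv_mem hs) hw
  have h2 := (Subgroup.mem_normalizer_iff.1 hN _).1 h1
  show L.σ * w * L.σ⁻¹ ∈ L.W r
  convert h2 using 1
  group

theorem Cfg.NW_E {r : ℕ} (hr : perpR L.u r = true) {g e : G} (hg : g ∈ L.NW r) (he : e ∈ Cfg.E (C := C) r) :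
    g * e * g⁻¹ ∈ Cfg.E (C := C) r := by
  by_cases h1 : e = 1
  · rw [h1, mul_one, mul_inv_cancel]; exact one_mem _
  have hW := (Subgroup.mem_normalizer_iff.1 hg.2 e).1 (L.E_le_W hr he)
  exact (L.W_D hr hW fun e' => h1 (conj_eq_one_iff.1 e')).1 (Cfg.D_conj ((L.W_D hr (L.E_le_W hr he) h1).2 he))

theorem Cfg.NW_v {r : ℕ} (hr : perpR L.u r = true) {g : G} (hg : g ∈ L.NW r) : g * L.v * g⁻¹ = L.v := by
  classical
  set E := Cfg.E (C := C) r with hE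
  have hvW := L.V_le_W hr L.v_V
  -- two cosets
  have hcase : ∀ g ∈ L.NW r, g * L.v * g⁻¹ * L.v⁻¹ ∈ E ∨ g * L.v * g⁻¹ * (L.t * L.v)⁻¹ ∈ E := by
    intro g hg
    have hW := (Subgroup.mem_normalizer_iff.1 hg.2 L.v).1 hvW
    obtain ⟨e, he, w, hw, ew⟩ := L.W_split hr hW
    rcases hw with rfl | rfl | rfl | rfl
    · exfalso
      rw [mul_one] at ew
      rw [← ew] at he
      have h1 : g * L.v * g⁻¹ ≠ 1 := fun e' => by
        have := L.v_fst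
        rw [conj_eq_one_iff.1 e', C.fst_one] at this
        omega
      exact L.v_not_D (((L.W_D hr hW h1).2 he).trans (isConj_iff.2 ⟨g⁻¹, by group⟩))
    · exfalso
      have hgi := inv_mem hg
      have h1 := L.NW_E hr hgi he
      have hgt := L.mem_H.1 hg.1
      have e1 : g⁻¹ * e * g⁻¹⁻¹ = L.v * L.t := by
        rw [show e = g * L.v * g⁻¹ * L.t⁻¹ by rw [ew]; group,
          show g⁻¹ * (g * L.v * g⁻¹ * L.t⁻¹) * g⁻¹⁻¹ = L.v * (g⁻¹ * L.t⁻¹ * g) by group,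
          (hgt.inv_left.inv_right).eq, inv_mul_cancel_right, inv_eq_of_mul_eq_one_right L.sq]
      rw [e1, L.v_t.eq] at h1
      exact L.tv_ne (L.E_V hr h1 (mul_mem L.t_V L.v_V))
    · exact Or.inl (by rw [ew, mul_inv_cancel_right]; exact he)
    · exact Or.inr (by rw [ew, mul_inv_cancel_right]; exact he)
  have hnot : ∀ g ∈ L.NW r, g * L.v * g⁻¹ * L.v⁻¹ ∈ E → g * L.v * g⁻¹ * (L.t * L.v)⁻¹ ∈ E → False := by
    intro g _ h1 h2
    have h3 := mul_mem (inv_mem h1) h2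
    rw [show (g * L.v * g⁻¹ * L.v⁻¹)⁻¹ * (g * L.v * g⁻¹ * (L.t * L.v)⁻¹) = L.t⁻¹ by group] at h3
    exact L.ne_one (L.E_V hr (by simpa using inv_mem h3) L.t_V)
  -- parity
  let φ : G → Prop := fun g => g * L.v * g⁻¹ * L.v⁻¹ ∈ E
  have hmul : ∀ a ∈ L.NW r, ∀ b ∈ L.NW r, (φ (a * b) ↔ (φ a ↔ φ b)) := by
    intro a ha b hb
    have hEa : ∀ e ∈ E, a * e * a⁻¹ ∈ E := fun e he => L.NW_E hr ha he
    have hat : a * L.t * a⁻¹ = L.t := by rw [(L.mem_H.1 ha.1).eq, mul_inv_cancel_right]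
    rcases hcase b hb with hb' | hb'
    · have h1 := hEa _ hb'
      rw [iff_true_intro (show φ b from hb'), iff_true]
      have e : a * b * L.v * (a * b)⁻¹ * L.v⁻¹ =
          a * (b * L.v * b⁻¹ * L.v⁻¹) * a⁻¹ * (a * L.v * a⁻¹ * L.v⁻¹) := by group
      show a * b * L.v * (a * b)⁻¹ * L.v⁻¹ ∈ E ↔ _
      rw [e]
      exact Subgroup.mul_mem_cancel_left E h1
    · have hb0 : ¬ φ b := fun h => hnot b hb h hb'
      rw [iff_false_intro hb0, iff_false]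
      have h1 := hEa _ hb'
      show a * b * L.v * (a * b)⁻¹ * L.v⁻¹ ∈ E ↔ _
      have e : a * b * L.v * (a * b)⁻¹ * L.v⁻¹ =
          a * (b * L.v * b⁻¹ * (L.t * L.v)⁻¹) * a⁻¹ * (a * L.t * a⁻¹ * (a * L.v * a⁻¹ * L.v⁻¹)) := by group
      rw [e, Subgroup.mul_mem_cancel_left E h1, hat]
      rcases hcase a ha with ha' | ha'
      · refine iff_of_false (fun h => L.ne_one (L.E_V hr ?_ L.t_V)) (fun h => h ha')
        have h1' := mul_mem h (inv_mem ha')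
        rwa [mul_inv_cancel_right] at h1'
      · refine iff_of_true ?_ (fun h => hnot a ha h ha')
        have hav := (L.mem_W hr).1 ((Subgroup.mem_normalizer_iff.1 ha.2 L.v).1 hvW)
        have hc : Commute L.t (a * L.v * a⁻¹ * (L.t * L.v)⁻¹) :=
          L.W_comm hr (L.V_le_W hr L.t_V) (L.E_le_W hr ha')
        have e2 : L.t * (a * L.v * a⁻¹ * L.v⁻¹) = a * L.v * a⁻¹ * (L.t * L.v)⁻¹ := by
          have e3 : a * L.v * a⁻¹ * L.v⁻¹ = a * L.v * a⁻¹ * (L.t * L.v)⁻¹ * L.t := by group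
          rw [e3, ← mul_assoc, hc.eq, mul_assoc, L.sq, mul_one]
        rw [e2]; exact ha'
  have hall : ∀ g ∈ L.NW r, φ g := by
    intro g hg
    have hS₀ : ∀ c ∈ L.S₀, φ c := fun c hc => by
      show c * L.v * c⁻¹ * L.v⁻¹ ∈ E
      rw [(L.v_cent hc).eq, mul_inv_cancel_right, mul_inv_cancel]; exact one_mem _
    obtain ⟨a, m, hm, ho⟩ := Nat.exists_eq_pow_mul_and_not_dvd (orderOf_pos g).ne' 2 (by norm_num)
    have hgm : φ (g ^ m) := by
      obtain ⟨c, hc, hc'⟩ := (L.NW_syl hr).conj_elt (pow_mem hg m)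
        ⟨a, by rw [← pow_mul, mul_comm, ← ho, pow_orderOf_eq_one]⟩
      have h1 := hS₀ _ hc'
      rw [hmul _ (mul_mem hc (pow_mem hg m)) _ (inv_mem hc), hmul _ hc _ (pow_mem hg m)] at h1
      have h2 : φ c ↔ φ c⁻¹ := (hmul c hc c⁻¹ (inv_mem hc)).1 (by
        rw [mul_inv_cancel]; exact hS₀ 1 (one_mem _))
      tauto
    obtain ⟨k, rfl⟩ : Odd m := Nat.not_even_iff_odd.1 fun e => hm (even_iff_two_dvd.1 e)
    have hsq : φ (g ^ k * g ^ k) := (hmul _ (pow_mem hg k) _ (pow_mem hg k)).2 Iff.rfl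
    rw [show 2 * k + 1 = k + k + 1 by ring, pow_succ, pow_add,
      hmul _ (mul_mem (pow_mem hg k) (pow_mem hg k)) _ hg] at hgm
    exact hgm.1 hsq
  -- the orbit
  let O : Finset G := (Set.toFinite {w : G | ∃ g ∈ L.NW r, g * L.v * g⁻¹ = w}).toFinset
  have hO : ∀ w, w ∈ O ↔ ∃ g ∈ L.NW r, g * L.v * g⁻¹ = w := fun w => Set.Finite.mem_toFinset _
  have hodd : Odd O.card := by
    let f : L.NW r → O := fun g => ⟨(g : G) * L.v * (g : G)⁻¹, (hO _).2 ⟨g, g.2, rfl⟩⟩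
    let K : Subgroup (L.NW r) := (Subgroup.centralizer ({L.v} : Set G)).subgroupOf (L.NW r)
    have hS₀K : L.S₀.subgroupOf (L.NW r) ≤ K := fun c hc =>
      Subgroup.mem_centralizer_singleton_iff.2 (L.v_cent hc).eq
    have hK := (L.NW_syl hr).odd_index.of_dvd_nat (Subgroup.index_dvd_of_le hS₀K)
    have e : Nat.card (L.NW r ⧸ K) = Nat.card O := by
      refine Nat.card_congr (Equiv.ofBijective (Quotient.lift f ?_) ⟨?_, ?_⟩)
      · intro a b hab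
        have h := QuotientGroup.leftRel_apply.1 hab
        have hc : ((a : G)⁻¹ * b) * L.v = L.v * ((a : G)⁻¹ * b) := Subgroup.mem_centralizer_singleton_iff.1 h
        refine Subtype.ext ?_
        show (a : G) * L.v * (a : G)⁻¹ = (b : G) * L.v * (b : G)⁻¹
        rw [show (b : G) * L.v * (b : G)⁻¹ = (a : G) * ((a : G)⁻¹ * b * L.v) * (b : G)⁻¹ by group, hc]
        group
      · intro p q
        refine Quotient.inductionOn₂ p q fun a b e => Quotient.sound ?_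
        refine QuotientGroup.leftRel_apply.2 (Subgroup.mem_centralizer_singleton_iff.2 ?_)
        have e' : (a : G) * L.v * (a : G)⁻¹ = (b : G) * L.v * (b : G)⁻¹ := congrArg Subtype.val e
        show (a : G)⁻¹ * b * L.v = L.v * ((a : G)⁻¹ * b)
        rw [show L.v * ((a : G)⁻¹ * b) = (a : G)⁻¹ * ((a : G) * L.v * (a : G)⁻¹) * b by group, e']
        group
      · rintro ⟨w, hw⟩
        obtain ⟨g, hg, e⟩ := (hO w).1 hw
        exact ⟨Quotient.mk _ ⟨g, hg⟩, Subtype.ext e⟩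
    rwa [← Nat.card_eq_finsetCard O, ← e, ← Subgroup.index_eq_card]
  have hOv : ∀ w ∈ O, w * L.v⁻¹ ∈ E ∧ w ∈ L.W r := fun w hw => by
    obtain ⟨g, hg, rfl⟩ := (hO w).1 hw
    exact ⟨hall g hg, (Subgroup.mem_normalizer_iff.1 hg.2 L.v).1 hvW⟩
  letI : CommGroup (L.W r) :=
    { (inferInstance : Group (L.W r)) with mul_comm := fun a b => Subtype.ext (L.W_comm hr a.2 b.2) }
  let p : L.W r := ∏ w ∈ O.attach, ⟨w.1, (hOv w.1 w.2).2⟩
  have hpE : (p : G) * L.v⁻¹ ∈ E := by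
    let v' : L.W r := ⟨L.v, hvW⟩
    have hv2 : v' ^ O.card = v' := by
      obtain ⟨k, hk⟩ := hodd
      rw [hk, pow_succ, pow_mul, pow_two, show v' * v' = 1 from Subtype.ext L.v_sq, one_pow, one_mul]
    have h : p * v'⁻¹ = ∏ w ∈ O.attach, (⟨w.1, (hOv w.1 w.2).2⟩ * v'⁻¹) := by
      rw [Finset.prod_mul_distrib, Finset.prod_const, Finset.card_attach, inv_pow, hv2]
    have h2 : p * v'⁻¹ ∈ E.subgroupOf (L.W r) := by
      rw [h]
      exact Subgroup.prod_mem _ fun w _ => (hOv w.1 w.2).1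
    exact h2
  -- the product is fixed
  have hfix : ∀ g ∈ L.NW r, g * p * g⁻¹ = p := by
    intro g hg
    let ψ : L.W r →* L.W r := MonoidHom.mk' (fun w => ⟨g * w * g⁻¹, (Subgroup.mem_normalizer_iff.1 hg.2 w).1 w.2⟩)
      fun a b => Subtype.ext (by simp)
    have hperm : ψ p = p := by
      rw [map_prod]
      refine Finset.prod_bij' (fun w _ => ⟨g * w.1 * g⁻¹, ?_⟩) (fun w _ => ⟨g⁻¹ * w.1 * g, ?_⟩)
        (fun w _ => Finset.mem_attach _ _) (fun w _ => Finset.mem_attach _ _) (fun w _ => Subtype.ext (by group))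
        (fun w _ => Subtype.ext (by group)) (fun w _ => rfl)
      · obtain ⟨a, ha, e⟩ := (hO w.1).1 w.2
        exact (hO _).2 ⟨g * a, mul_mem hg ha, by rw [← e]; group⟩
      · obtain ⟨a, ha, e⟩ := (hO w.1).1 w.2
        exact (hO _).2 ⟨g⁻¹ * a, mul_mem (inv_mem hg) ha, by rw [← e]; group⟩
    exact congrArg Subtype.val hperm
  have hh : L.h ∈ L.NW r := ⟨L.mem_H.2 L.ht, Tw.mem_normalizer_of fun w hw => L.h_W hr hw⟩
  have hpv : (p : G) = L.v := by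
    have hc : Commute L.h ((p : G) * L.v⁻¹) :=
      (show Commute L.h (p : G) from mul_inv_eq_iff_eq_mul.1 (hfix _ hh)).mul_right L.v_h.inv_right
    exact mul_inv_eq_one.1 (L.h_E_fix hr hpE hc)
  rw [← hpv]
  exact hfix g hg

end Cfsg.Agent.Spor.SuzT.Rad
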