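import Cfsg.Agent.Lib.Spor.SuzR.Loc

/-!
Groups of Suzuki sporadic type: the element of order three and the four-group fixed by it.
-/

set_option autoImplicit false
set_option maxRecDepth 100000
set_option linter.unusedSectionVars false

namespace Cfsg.Agent.Spor.SuzT.Rad

open Chk Dat

/-- at most two perpendicular points -/
def perpTwoOK : Bool :=
  (List.range 16).all fun u => !(sixB u) || (List.range 16).all fun r => !(perpR u r) ||
    (List.range 16).all fun s => !(perpR u s) || (List.range 16).all fun w => !(perpR u w) ||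
      Nat.beq r s || Nat.beq r w || Nat.beq s w

theorem perp_two_ok : perpTwoOK = true := by decide +kernel

/-- the four-group commutes with all that commutes with the involution -/
def vCentOK : Bool :=
  (List.range 16).all fun u => !(sixB u) ||
    (sqB 4 (Nat.xor u 4) && cmB u 4 4 (Nat.xor u 4) && (List.range 256).all fun n =>
      !(cmB u 4 (n / 16) (n % 16)) || cmB 4 (Nat.xor u 4) (n / 16) (n % 16))

theorem v_cent_ok : vCentOK = true := by decide +kernel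

theorem perp_two {u r s w : ℕ} (hu : sixB u = true) (hu16 : u < 16) (hr : perpR u r = true) (hs : perpR u s = true)
    (hw : perpR u w = true) : r = s ∨ r = w ∨ s = w := by
  have h := List.all_eq_true.mp perp_two_ok u (List.mem_range.mpr hu16)
  rw [hu, Bool.not_true, Bool.false_or] at h
  have h1 := List.all_eq_true.mp h r (List.mem_range.mpr (perp_spec hr).1)
  rw [hr, Bool.not_true, Bool.false_or] at h1
  have h2 := List.all_eq_true.mp h1 s (List.mem_range.mpr (perp_spec hs).1)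
  rw [hs, Bool.not_true, Bool.false_or] at h2
  have h3 := List.all_eq_true.mp h2 w (List.mem_range.mpr (perp_spec hw).1)
  simp only [hw, Bool.not_true, Bool.false_or, Bool.or_eq_true] at h3
  rcases h3 with (h3 | h3) | h3
  exacts [Or.inl (Nat.eq_of_beq_eq_true h3), Or.inr (Or.inl (Nat.eq_of_beq_eq_true h3)),
    Or.inr (Or.inr (Nat.eq_of_beq_eq_true h3))]

universe u

variable {G : Type u} [Group G] [Finite G] {z : G} {Q : Subgroup G}

/-- an involution of the second class with an element of order three and a transposition -/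
structure Cfg (C : Ctx z Q) extends Loc C where
  /-- the element of order three -/
  h : G
  h3 : h ^ 3 = 1
  ht : Commute h t
  hz : h * z * h⁻¹ = C.x
  hx : h * C.x * h⁻¹ = C.x * z
  /-- the transposition -/
  σ : G
  σS : σ ∈ toLoc.S
  σx : σ * C.x * σ⁻¹ = C.x * z

variable (C : Ctx z Q)

theorem Ctx.exists_cfg : Nonempty (Cfg C) := by
  obtain ⟨L⟩ := C.exists_loc
  obtain ⟨h, h3, ht, hz, hx⟩ := L.exists_rot
  obtain ⟨s, hs, hsx⟩ := L.exists_swap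
  exact ⟨{ L with h := h, h3 := h3, ht := ht, hz := hz, hx := hx, σ := s, σS := hs, σx := hsx }⟩

theorem Ctx.fst_one : C.fst 1 = 0 := C.fst_B (one_mem _)

theorem Ctx.th_one' : C.th 1 = 0 := C.th_A (one_mem _)

theorem Ctx.coords_inv {c : G} (hc : c ∈ C.R) : C.fst c⁻¹ = C.fst c ∧ C.th c⁻¹ = C.th c := by
  have h1 := C.fst_hom hc (inv_mem hc)
  have h2 := C.th_mul hc (inv_mem hc)
  rw [mul_inv_cancel, C.fst_one] at h1
  rw [mul_inv_cancel, C.th_one'] at h2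
  exact ⟨(xor_eq_zero' h1.symm).symm, (xor_eq_zero' h2.symm).symm⟩

theorem Ctx.xor_div {c d : G} (hc : c ∈ C.R) (hd : d ∈ C.R) (h1 : C.fst c = C.fst d) (h2 : C.th c = C.th d) :
    ∃ i j, i < 2 ∧ j < 2 ∧ d = c * C.zel i j := by
  obtain ⟨a1, a2⟩ := C.coords_inv hc
  obtain ⟨i, j, hi, hj, e⟩ := C.kernel (mul_mem (inv_mem hc) hd)
    (by rw [C.fst_hom (inv_mem hc) hd, a1, h1, xor_self']) (by rw [C.th_mul (inv_mem hc) hd, a2, h2, xor_self'])
  exact ⟨i, j, hi, hj, by rw [← e, mul_inv_cancel_left]⟩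

variable {C} (L : Cfg C)

theorem Cfg.h_zel {i j : ℕ} (hi : i < 2) (hj : j < 2) :
    L.h * C.zel i j * L.h⁻¹ = C.zel j ((i + j) % 2) := by
  interval_cases i <;> interval_cases j <;> simp only [Ctx.zel, pow_zero, pow_one, one_mul, mul_one,
    Nat.zero_add, Nat.zero_mod, Nat.one_mod, Nat.add_zero]
  · group
  · rw [L.hx, C.xz.eq]
  · rw [L.hz]
  · rw [show L.h * (z * C.x) * L.h⁻¹ = L.h * z * L.h⁻¹ * (L.h * C.x * L.h⁻¹) by group, L.hz, L.hx, ← mul_assoc,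
      C.base.sq, one_mul]
    simp

theorem Cfg.h_fix {i j : ℕ} (hi : i < 2) (hj : j < 2) (h : Commute L.h (C.zel i j)) : C.zel i j = 1 := by
  have e := L.h_zel hi hj
  rw [h.eq, mul_inv_cancel_right] at e
  obtain ⟨e1, e2⟩ := C.zel_inj hi hj hj (Nat.mod_lt _ (by omega)) e
  rw [show i = 0 by omega, show j = 0 by omega, C.zel_zero]

theorem Cfg.h_A {a : G} (ha : a ∈ C.A) : L.h * a * L.h⁻¹ ∈ C.B := by
  obtain ⟨hQ, hax⟩ := C.mem_A.1 ha
  have h1 : InQ z Q C.x (L.h * a * L.h⁻¹) := by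
    have := ((inQ_z C.hy).2 hQ).conj L.h
    rwa [L.hz] at this
  have h2 : Commute (L.h * a * L.h⁻¹) (L.h * C.x * L.h⁻¹) := (Commute.conj_iff L.h).2 hax
  rw [L.hx] at h2
  refine C.mem_B_iff.2 ⟨h1, ?_⟩
  have h3 := (h1.commute C.hy).mul_right h2
  rwa [← mul_assoc, C.base.sq, one_mul] at h3

theorem Cfg.h_B {b : G} (hb : b ∈ C.B) :
    L.h * b * L.h⁻¹ ∈ C.R ∧ C.fst (L.h * b * L.h⁻¹) = C.th (L.h * b * L.h⁻¹) := by
  obtain ⟨q, hq, hqx⟩ := C.exists_q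
  have hqz := Qz C.hy hq
  have h1 : InQ z Q (C.x * z) (L.h * b * L.h⁻¹) := by
    have := (C.B_inQ hb).conj L.h
    rwa [L.hx] at this
  have h2 : Commute (L.h * b * L.h⁻¹) C.x := by
    have := (Commute.conj_iff L.h).2 (C.B_z hb)
    rwa [L.hz] at this
  have h3 : Commute (L.h * b * L.h⁻¹) z := by
    have h3 := h2.mul_right (h1.commute C.hy)
    rwa [← mul_assoc, C.base.sq, one_mul] at h3
  have h4 : q⁻¹ * (L.h * b * L.h⁻¹) * q ∈ C.B := by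
    refine C.mem_B_iff.2 ⟨?_, (hqz.inv_left.mul_left h3).mul_left hqz⟩
    have h5 := h1.conj q⁻¹
    rwa [inv_inv, show q⁻¹ * (C.x * z) * q = C.x by rw [← hqx]; group] at h5
  have e : L.h * b * L.h⁻¹ = q * (q⁻¹ * (L.h * b * L.h⁻¹) * q) * q⁻¹ := by group
  obtain ⟨e1, e2⟩ := C.quo_R h4 hq hqx
  rw [← e] at e1 e2
  exact ⟨by rw [e]; exact C.conj_R hqz hqx (C.B_le h4), e1.trans e2.symm⟩

theorem Cfg.h_mem {r : G} (hr : r ∈ C.R) : L.h * r * L.h⁻¹ ∈ C.R := by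
  obtain ⟨a, ha, b, hb, rfl⟩ := C.decomp hr
  rw [show L.h * (a * b) * L.h⁻¹ = L.h * a * L.h⁻¹ * (L.h * b * L.h⁻¹) by group]
  exact mul_mem (C.B_le (L.h_A ha)) (L.h_B hb).1

/-- the isometry induced by the element of order three -/
noncomputable def Cfg.al (u : ℕ) : ℕ := C.th (L.h * C.ra u * L.h⁻¹)

/-- the isometry induced on the second side -/
noncomputable def Cfg.be (v : ℕ) : ℕ := C.th (L.h * C.rb v * L.h⁻¹)

theorem Cfg.h_zel_th {i j : ℕ} (hi : i < 2) (hj : j < 2) :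
    C.th (L.h * C.zel i j * L.h⁻¹) = 0 ∧ C.fst (L.h * C.zel i j * L.h⁻¹) = 0 := by
  rw [L.h_zel hi hj]
  exact ⟨C.th_zel _ _, by rw [C.fst_A (C.zel_mem _ _).1, C.co_zel hj (Nat.mod_lt _ (by omega))]⟩

theorem Cfg.th_h_A {a : G} (ha : a ∈ C.A) : C.th (L.h * a * L.h⁻¹) = L.al (C.co a) := by
  obtain ⟨h1, h2⟩ := C.ra_spec (C.co_lt a)
  obtain ⟨i, j, hi, hj, e⟩ := C.co_eq h1 ha h2
  conv_lhs => rw [e, show L.h * (C.ra (C.co a) * C.zel i j) * L.h⁻¹ =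
    L.h * C.ra (C.co a) * L.h⁻¹ * (L.h * C.zel i j * L.h⁻¹) by group,
    C.th_mul (L.h_mem (C.A_le h1)) (L.h_mem (C.A_le (C.zel_mem i j).1)), (L.h_zel_th hi hj).1, xor_zero']
  rfl

theorem Cfg.th_h_B {b : G} (hb : b ∈ C.B) : C.th (L.h * b * L.h⁻¹) = L.be (C.th b) := by
  obtain ⟨h1, h2⟩ := C.rb_spec (C.th_lt' b)
  obtain ⟨i, j, hi, hj, e⟩ := C.th_inj h1 hb h2
  conv_lhs => rw [e, show L.h * (C.rb (C.th b) * C.zel i j) * L.h⁻¹ =
    L.h * C.rb (C.th b) * L.h⁻¹ * (L.h * C.zel i j * L.h⁻¹) by group,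
    C.th_mul (L.h_mem (C.B_le h1)) (L.h_mem (C.A_le (C.zel_mem i j).1)), (L.h_zel_th hi hj).1, xor_zero']
  rfl

theorem Cfg.h_coords_aux {r : G} (hr : r ∈ C.R) :
    C.fst (L.h * r * L.h⁻¹) = L.be (C.th r) ∧
      C.th (L.h * r * L.h⁻¹) = Nat.xor (L.al (C.fst r)) (L.be (C.th r)) := by
  obtain ⟨a, ha, b, hb, hab, e1, e2⟩ := C.coords hr
  have e : L.h * r * L.h⁻¹ = L.h * a * L.h⁻¹ * (L.h * b * L.h⁻¹) := by rw [hab]; group
  obtain ⟨h1, h2⟩ := L.h_B hb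
  rw [e, C.fst_hom (C.B_le (L.h_A ha)) h1, C.th_mul (C.B_le (L.h_A ha)) h1, C.fst_B (L.h_A ha), h2,
    L.th_h_A ha, L.th_h_B hb, zero_xor', e1, e2]
  exact ⟨rfl, rfl⟩

theorem Cfg.al_lt (u : ℕ) : L.al u < 16 := C.th_lt' _

theorem Cfg.be_lt (u : ℕ) : L.be u < 16 := C.th_lt' _

theorem Cfg.al_add {u v : ℕ} (hu : u < 16) (hv : v < 16) : L.al (Nat.xor u v) = Nat.xor (L.al u) (L.al v) := by
  obtain ⟨h1, h2⟩ := C.ra_spec hu
  obtain ⟨h3, h4⟩ := C.ra_spec hv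
  have e : C.co (C.ra u * C.ra v) = Nat.xor u v := by rw [C.co_mul h1 h3, h2, h4]
  rw [← e, ← L.th_h_A (mul_mem h1 h3), show L.h * (C.ra u * C.ra v) * L.h⁻¹ =
    L.h * C.ra u * L.h⁻¹ * (L.h * C.ra v * L.h⁻¹) by group, C.th_mul (C.B_le (L.h_A h1)) (C.B_le (L.h_A h3))]
  rfl

theorem Cfg.al_zero : L.al 0 = 0 := by
  rw [← xor_self' 0, L.al_add (by norm_num) (by norm_num)]
  exact xor_self' _

theorem Cfg.be_zero : L.be 0 = 0 := by
  rw [← C.th_one', ← L.th_h_B (one_mem _), mul_one, mul_inv_cancel]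

theorem Cfg.be_eq_al {v : ℕ} (hv : v < 16) : L.be v = L.al v := by
  have h3 : ∀ u < 16, L.be (L.be (L.al u)) = u ∧
      Nat.xor (L.al (L.be (L.al u))) (L.be (L.be (L.al u))) = 0 := by
    intro u hu
    obtain ⟨h1, h2⟩ := C.ra_spec hu
    have hR := C.A_le h1
    obtain ⟨a1, a2⟩ := L.h_coords_aux hR
    rw [C.th_A h1, C.fst_A h1, h2, L.be_zero, xor_zero'] at a2
    rw [C.th_A h1, L.be_zero] at a1
    obtain ⟨b1, b2⟩ := L.h_coords_aux (L.h_mem hR)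
    rw [a1, a2, L.al_zero, zero_xor'] at b2
    rw [a2] at b1
    obtain ⟨c1, c2⟩ := L.h_coords_aux (L.h_mem (L.h_mem hR))
    rw [show L.h * (L.h * (L.h * C.ra u * L.h⁻¹) * L.h⁻¹) * L.h⁻¹ = C.ra u by
      rw [show L.h * (L.h * (L.h * C.ra u * L.h⁻¹) * L.h⁻¹) * L.h⁻¹ =
        L.h * L.h * L.h * C.ra u * (L.h * L.h * L.h)⁻¹ by group,
        show L.h * L.h * L.h = L.h ^ 3 by rw [pow_succ, pow_two], L.h3]
      group] at c1 c2
    rw [C.fst_A h1, h2, b2] at c1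
    rw [C.th_A h1, b1, b2] at c2
    exact ⟨c1.symm, c2.symm⟩
  let fa : Fin 16 → Fin 16 := fun u => ⟨L.al u, L.al_lt _⟩
  let fb : Fin 16 → Fin 16 := fun u => ⟨L.be u, L.be_lt _⟩
  have hinj : Function.Injective (fb ∘ fa) := fun p q e => by
    have e' : L.be (L.al p) = L.be (L.al q) := congrArg Fin.val e
    exact Fin.ext (by rw [← (h3 p p.2).1, ← (h3 q q.2).1, e'])
  obtain ⟨⟨u, hu⟩, hu'⟩ := Finite.injective_iff_surjective.1 hinj ⟨v, hv⟩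
  have e : L.be (L.al u) = v := congrArg Fin.val hu'
  have := xor_eq_zero' (h3 u hu).2
  rw [e] at this
  exact this.symm

theorem Cfg.al_cube {u : ℕ} (hu : u < 16) : L.al (L.al (L.al u)) = u := by
  obtain ⟨h1, h2⟩ := C.ra_spec hu
  have hR := C.A_le h1
  obtain ⟨a1, a2⟩ := L.h_coords_aux hR
  obtain ⟨b1, b2⟩ := L.h_coords_aux (L.h_mem hR)
  obtain ⟨c1, -⟩ := L.h_coords_aux (L.h_mem (L.h_mem hR))
  rw [show L.h * (L.h * (L.h * C.ra u * L.h⁻¹) * L.h⁻¹) * L.h⁻¹ = C.ra u by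
      rw [show L.h * (L.h * (L.h * C.ra u * L.h⁻¹) * L.h⁻¹) * L.h⁻¹ =
        L.h * L.h * L.h * C.ra u * (L.h * L.h * L.h)⁻¹ by group,
        show L.h * L.h * L.h = L.h ^ 3 by rw [pow_succ, pow_two], L.h3]
      group, C.fst_A h1, h2, b2, a1, a2, C.th_A h1, C.fst_A h1, h2, L.be_zero, L.al_zero, xor_zero', zero_xor',
    L.be_eq_al (L.be_lt _), L.be_eq_al (L.al_lt _)] at c1
  exact c1.symm

theorem Cfg.al_q4 {u : ℕ} (hu : u < 16) : q4 (L.al u) = q4 u := by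
  obtain ⟨h1, h2⟩ := C.ra_spec hu
  have hb := L.h_A h1
  have e := C.sq_B hb
  rw [L.th_h_A h1, h2, conj_mul, C.sq_A h1, h2, L.h_zel (q4_lt u) (by norm_num)] at e
  have := (C.zel_inj (by norm_num) (Nat.mod_lt _ (by omega)) (by norm_num) (q4_lt _) e).2
  have := q4_lt u
  omega

theorem Cfg.al_p4 {u v : ℕ} (hu : u < 16) (hv : v < 16) : p4 (L.al u) (L.al v) = p4 u v := by
  rw [p4, ← L.al_add hu hv, L.al_q4 hu, L.al_q4 hv, L.al_q4 (xor_lt16 hu hv)]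
  rfl

theorem Cfg.h_coords {r : G} (hr : r ∈ C.R) :
    C.fst (L.h * r * L.h⁻¹) = L.al (C.th r) ∧
      C.th (L.h * r * L.h⁻¹) = Nat.xor (L.al (C.fst r)) (L.al (C.th r)) := by
  have h := L.h_coords_aux hr
  rwa [L.be_eq_al (C.th_lt' r)] at h

theorem Cfg.al_vals : L.al 4 = L.u ∧ L.al L.u = Nat.xor L.u 4 ∧ L.al (Nat.xor L.u 4) = 4 := by
  obtain ⟨h1, h2⟩ := L.h_coords L.mem
  rw [L.ht.eq, mul_inv_cancel_right, L.four] at h1 h2
  have e1 : L.al 4 = L.u := h1.symm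
  have e2 : L.al L.u = Nat.xor L.u 4 := by
    show L.al (C.fst L.t) = _
    have h3 := congrArg (fun a => Nat.xor a L.u) h2
    rw [e1] at h3
    change Nat.xor 4 L.u = Nat.xor (Nat.xor (L.al (C.fst L.t)) L.u) L.u at h3
    rw [show ∀ p q r, Nat.xor (Nat.xor p q) r = Nat.xor p (Nat.xor q r) from Nat.xor_assoc, xor_self', xor_zero'] at h3
    exact h3.symm.trans (Nat.xor_comm _ _)
  refine ⟨e1, e2, ?_⟩
  rw [L.al_add L.u_lt (by norm_num), e1, e2, show ∀ a b, Nat.xor a b = Nat.xor b a from Nat.xor_comm]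
  exact xor_cancel

theorem Cfg.al_perp {r : ℕ} (hr : perpR L.u r = true) : L.al r = r := by
  have hstep : ∀ {r}, perpR L.u r = true → perpR L.u (L.al r) = true := fun {r} hr => by
    obtain ⟨hr1, hr2, hr3, hr4, hr5⟩ := perp_spec hr
    refine perp_of (L.al_lt _) (fun e => hr2 ?_) (by rw [L.al_q4 hr1, hr3]) ?_ ?_
    · rw [← L.al_cube hr1, e, L.al_zero, L.al_zero]
    · rw [show p4 (L.al r) L.u = p4 (L.al r) (L.al 4) by rw [L.al_vals.1], L.al_p4 hr1 (by norm_num), hr5]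
    · rw [show p4 (L.al r) 4 = p4 (L.al r) (L.al (Nat.xor L.u 4)) by rw [L.al_vals.2.2],
        L.al_p4 hr1 (xor_lt16 L.u_lt (by norm_num)), p4_add r hr1 _ L.u_lt 4 (by norm_num), hr4, hr5]
  obtain ⟨hr1, -⟩ := perp_spec hr
  rcases perp_two L.six L.u_lt hr (hstep hr) (hstep (hstep hr)) with e | e | e
  · exact e.symm
  · have h := L.al_cube hr1
    rw [← e] at h
    exact h
  · have h := congrArg L.al e
    rw [L.al_cube hr1, ← e] at h
    exact h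

theorem Cfg.exists_v : ∃ v : G, v ∈ C.R ∧ C.fst v = 4 ∧ C.th v = Nat.xor L.u 4 ∧ Commute L.h v := by
  obtain ⟨h1, a1, a2⟩ := C.rep_coords (u := 4) (v := Nat.xor L.u 4) (i := 0) (j := 0) (by norm_num)
    (xor_lt16 L.u_lt (by norm_num)) (by norm_num) (by norm_num)
  obtain ⟨r, hr⟩ : ∃ r, r = C.ra 4 * C.rb (Nat.xor L.u 4) * C.zel 0 0 := ⟨_, rfl⟩
  rw [← hr] at h1 a1 a2
  obtain ⟨b1, b2⟩ := L.h_coords h1
  rw [a1, a2, L.al_vals.2.2] at b2
  rw [a2, L.al_vals.2.2] at b1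
  rw [L.al_vals.1] at b2
  obtain ⟨i, j, hi, hj, e⟩ := C.xor_div h1 (L.h_mem h1) (by rw [a1, b1]) (by rw [a2, b2])
  refine ⟨r * C.zel j ((i + j) % 2), mul_mem h1 (C.A_le (C.zel_mem _ _).1), ?_, ?_, ?_⟩
  · rw [C.fst_hom h1 (C.A_le (C.zel_mem _ _).1), a1, C.fst_A (C.zel_mem _ _).1,
      C.co_zel hj (Nat.mod_lt _ (by omega)), xor_zero']
  · rw [C.th_mul h1 (C.A_le (C.zel_mem _ _).1), a2, C.th_zel, xor_zero']
  · refine mul_inv_eq_iff_eq_mul.1 ?_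
    rw [show L.h * (r * C.zel j ((i + j) % 2)) * L.h⁻¹ =
      L.h * r * L.h⁻¹ * (L.h * C.zel j ((i + j) % 2) * L.h⁻¹) by group, e,
      L.h_zel hj (Nat.mod_lt _ (by omega)), mul_assoc, C.zel_mul]
    congr 2 <;> omega

/-- the second generator of the four-group -/
noncomputable def Cfg.v : G := L.exists_v.choose

theorem Cfg.v_R : L.v ∈ C.R := L.exists_v.choose_spec.1

theorem Cfg.v_fst : C.fst L.v = 4 := L.exists_v.choose_spec.2.1

theorem Cfg.v_th : C.th L.v = Nat.xor L.u 4 := L.exists_v.choose_spec.2.2.1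

theorem Cfg.v_h : Commute L.h L.v := L.exists_v.choose_spec.2.2.2

theorem Cfg.v_check : sqB 4 (Nat.xor L.u 4) = true ∧ cmB L.u 4 4 (Nat.xor L.u 4) = true ∧
    ∀ a < 16, ∀ b < 16, cmB L.u 4 a b = true → cmB 4 (Nat.xor L.u 4) a b = true := by
  have h := List.all_eq_true.mp v_cent_ok L.u (List.mem_range.mpr L.u_lt)
  simp only [L.six, Bool.not_true, Bool.false_or, Bool.and_eq_true] at h
  refine ⟨h.1.1, h.1.2, fun a ha b hb hc => ?_⟩
  have h' := List.all_eq_true.mp h.2 (16 * a + b) (List.mem_range.mpr (by omega))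
  rw [show (16 * a + b) / 16 = a by omega, show (16 * a + b) % 16 = b by omega, hc, Bool.not_true,
    Bool.false_or] at h'
  exact h'

theorem Cfg.v_sq : L.v * L.v = 1 := by
  have h := L.v_check.1
  simp only [sqB, Bool.and_eq_true] at h
  rw [C.sq_law L.v_R, L.v_fst, L.v_th, Nat.eq_of_beq_eq_true h.1, Nat.eq_of_beq_eq_true h.2, C.zel_zero]

theorem Cfg.v_t : Commute L.v L.t := (L.comm_t L.v_R).2 (by rw [L.v_fst, L.v_th]; exact L.v_check.2.1)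

theorem Cfg.v_S₀ : L.v ∈ L.S₀ := L.mem_S₀.2 ⟨L.v_R, L.v_t⟩

theorem Cfg.t_S₀ : L.t ∈ L.S₀ := L.mem_S₀.2 ⟨L.mem, Commute.refl _⟩

theorem Cfg.v_cent {c : G} (hc : c ∈ L.S₀) : Commute c L.v := by
  obtain ⟨hR, ht⟩ := L.mem_S₀.1 hc
  have h := L.v_check.2.2 _ (C.fst_lt c) _ (C.th_lt' c) ((L.comm_t hR).1 ht)
  simp only [cmB, Bool.and_eq_true] at h
  refine ((C.comm_iff L.v_R hR).2 ?_).symm
  rw [L.v_fst, L.v_th]
  exact ⟨Nat.eq_of_beq_eq_true h.1, Nat.eq_of_beq_eq_true h.2⟩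

theorem Cfg.z_S₀ : z ∈ L.S₀ := L.mem_S₀.2 ⟨C.A_le C.zA, L.tz.symm⟩

theorem Cfg.x_S₀ : C.x ∈ L.S₀ := L.mem_S₀.2 ⟨C.A_le C.xA, L.tx.symm⟩

theorem Cfg.zel_S₀ (i j : ℕ) : C.zel i j ∈ L.S₀ := mul_mem (pow_mem L.z_S₀ i) (pow_mem L.x_S₀ j)

theorem Cfg.h_S₀ {c : G} (hc : c ∈ L.S₀) : L.h * c * L.h⁻¹ ∈ L.S₀ := by
  obtain ⟨hR, ht⟩ := L.mem_S₀.1 hc
  exact L.mem_S₀.2 ⟨L.h_mem hR, (L.ht.mul_left ht).mul_left L.ht.inv_left⟩

theorem Cfg.σ_t : Commute L.σ L.t := (L.mem_S.1 L.σS).1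

theorem Cfg.σ_z : Commute L.σ z := (L.mem_S.1 L.σS).2

theorem Cfg.σ_S₀ {c : G} (hc : c ∈ L.S₀) : L.σ * c * L.σ⁻¹ ∈ L.S₀ := by
  obtain ⟨hR, ht⟩ := L.mem_S₀.1 hc
  exact L.mem_S₀.2 ⟨C.conj_R L.σ_z L.σx hR, (L.σ_t.mul_left ht).mul_left L.σ_t.inv_left⟩

theorem Cfg.σ_v : L.σ * L.v * L.σ⁻¹ = L.t * L.v := by
  obtain ⟨hu, -⟩ := L.swap_act L.σS L.σx
  have h4 := L.act_four L.σS
  have hf := C.pi_fix L.σ_z (Or.inr L.σx)
  obtain ⟨h1, h2, h3⟩ := C.conj_swap L.σ_z L.σx L.v_R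
  have hu4 : act (C.pi L.σ) (Nat.xor L.u 4) = L.u := by
    rw [act_xor hf L.u_lt (by norm_num), hu, h4,
      show ∀ p q r, Nat.xor (Nat.xor p q) r = Nat.xor p (Nat.xor q r) from Nat.xor_assoc, xor_self', xor_zero']
  rw [L.v_fst, L.v_th, hu4, h4] at h2
  rw [L.v_th, hu4] at h3
  have htv : L.t * L.v ∈ C.R := mul_mem L.mem L.v_R
  have e1 : C.fst (L.t * L.v) = C.fst (L.σ * L.v * L.σ⁻¹) := by
    rw [C.fst_hom L.mem L.v_R, L.v_fst, h2]
    exact Nat.xor_comm _ _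
  have e2 : C.th (L.t * L.v) = C.th (L.σ * L.v * L.σ⁻¹) := by
    rw [C.th_mul L.mem L.v_R, L.v_th, L.four, h3,
      show ∀ a b, Nat.xor a b = Nat.xor b a from Nat.xor_comm]
    exact (congrArg (fun a => Nat.xor a 4) (show Nat.xor L.u 4 = Nat.xor L.u 4 from rfl)).trans (by
      rw [show ∀ p q r, Nat.xor (Nat.xor p q) r = Nat.xor p (Nat.xor q r) from Nat.xor_assoc, xor_self', xor_zero'])
  obtain ⟨i, j, hi, hj, e⟩ := C.xor_div htv h1 e1 e2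
  -- the defect commutes with the element of order three
  have htvS : L.t * L.v ∈ L.S₀ := mul_mem L.t_S₀ L.v_S₀
  set h' := L.σ * L.h * L.σ⁻¹ with hh'
  have hσxz : L.σ * (C.x * z) * L.σ⁻¹ = C.x := by
    rw [show L.σ * (C.x * z) * L.σ⁻¹ = L.σ * C.x * L.σ⁻¹ * (L.σ * z * L.σ⁻¹) by group, L.σx, L.σ_z.eq,
      mul_inv_cancel_right, mul_assoc, zz C.hy, mul_one]
  have hσi : L.σ⁻¹ * C.x * L.σ = C.x * z := by
    conv_lhs => rw [← hσxz]
    group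
  have hσiz : L.σ⁻¹ * z * L.σ = z := by rw [L.σ_z.inv_left.eq, inv_mul_cancel_right]
  have hxz2 : L.h * (C.x * z) * L.h⁻¹ = z := by
    rw [show L.h * (C.x * z) * L.h⁻¹ = L.h * C.x * L.h⁻¹ * (L.h * z * L.h⁻¹) by group, L.hz, L.hx, C.xz.eq,
      mul_assoc, C.base.sq, mul_one]
  have hs0 : h' * L.h ∈ L.S₀ := by
    refine L.mem_S₀_of (L.mem_S.2 ⟨(((L.σ_t.mul_left L.ht).mul_left L.σ_t.inv_left).mul_left L.ht), ?_⟩) ?_
    · refine mul_inv_eq_iff_eq_mul.1 ?_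
      rw [show h' * L.h * z * (h' * L.h)⁻¹ = L.σ * (L.h * (L.σ⁻¹ * (L.h * z * L.h⁻¹) * L.σ) * L.h⁻¹) * L.σ⁻¹ by
        rw [hh']; group, L.hz, hσi, hxz2, L.σ_z.eq, mul_inv_cancel_right]
    · refine mul_inv_eq_iff_eq_mul.1 ?_
      have hσi2 : L.σ⁻¹ * (C.x * z) * L.σ = C.x := by rw [← L.σx]; group
      rw [show h' * L.h * C.x * (h' * L.h)⁻¹ = L.σ * (L.h * (L.σ⁻¹ * (L.h * C.x * L.h⁻¹) * L.σ) * L.h⁻¹) * L.σ⁻¹ by
        rw [hh']; group, L.hx, hσi2, L.hx, hσxz]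
  have hcomm : Commute L.h (L.σ * L.v * L.σ⁻¹) := by
    have h5 : Commute h' (L.σ * L.v * L.σ⁻¹) := (Commute.conj_iff L.σ).2 L.v_h
    have h6 : Commute (h' * L.h) (L.σ * L.v * L.σ⁻¹) := by
      rw [e]
      exact ((L.mem_S₀.1 hs0).2.mul_right (L.v_cent hs0)).mul_right
        (C.zel_comm i j (L.mem_S₀.1 hs0).1.1 (L.mem_S₀.1 hs0).1.2.1)
    have := h5.inv_left.mul_left h6
    rwa [inv_mul_cancel_left] at this
  have hzc : Commute L.h (C.zel i j) := by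
    have h7 : Commute L.h ((L.t * L.v)⁻¹ * (L.σ * L.v * L.σ⁻¹)) :=
      (L.ht.mul_right L.v_h).inv_right.mul_right hcomm
    rwa [e, inv_mul_cancel_left] at h7
  rw [e, L.h_fix hi hj hzc, mul_one]

end Cfsg.Agent.Spor.SuzT.Rad
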