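import Cfsg.Agent.Lib.Spor.SuzTypeMain

/-!
Groups of Suzuki sporadic type: the four-dimensional space at a point, and finite checks on it.
-/

set_option autoImplicit false
set_option maxRecDepth 100000

namespace Cfsg.Agent.Spor.SuzT.Rad

open Chk Dat

/-- code in the four-space of a code in the hyperplane -/
def n4 (c : ℕ) : ℕ := bit c 1 + 2 * bit c 3 + 4 * bit c 4 + 8 * bit c 5

/-- the form on the four-space -/
def q4 (u : ℕ) : ℕ := (bit u 0 * bit u 1 + bit u 2 + bit u 2 * bit u 3 + bit u 3) % 2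

/-- the polar form on the four-space -/
def p4 (u v : ℕ) : ℕ := (q4 (Nat.xor u v) + q4 u + q4 v) % 2

/-- the radical vector of columns -/
def thL (L : List ℕ) : ℕ := n4 (Nat.xor (app L 4) 4)

/-- the vectors of elements of the radical -/
def radVec : Bool :=
  rad.all fun e =>
    Nat.beq (bit (Nat.xor (app e.1 4) 4) 2) 0 &&
    (Nat.beq (thL e.1) 0 == (e.1 == idL)) &&
    ((clsA.any fun f => f.1 == e.1) == (!(Nat.beq (thL e.1) 0) && Nat.beq (q4 (thL e.1)) 0)) &&
    (List.range 64).all fun c =>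
      bif Nat.beq (bit c 2) 0 then Nat.beq (app e.1 c) (Nat.xor c (p4 (n4 c) (thL e.1)))
      else (Nat.beq (thL e.1) 0 || !(Nat.beq (n4 (Nat.xor (app e.1 c) c)) 0))

theorem radVec_ok : radVec = true := by decide +kernel

/-- projection facts -/
def projOK : Bool :=
  (List.range 64).all fun c =>
    Nat.blt (n4 c) 16 &&
    (!(Nat.beq (bit c 2) 0) || Nat.beq (qc c) (q4 (n4 c))) &&
    (!(Nat.beq (bit c 2) 0) || !(Nat.beq (n4 c) 0) || Nat.ble c 1) &&
    (List.range 64).all fun d =>
      Nat.beq (n4 (Nat.xor c d)) (Nat.xor (n4 c) (n4 d)) &&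
      (!(Nat.beq (bit c 2) 0) || !(Nat.beq (bit d 2) 0) || Nat.beq (pc c d) (p4 (n4 c) (n4 d)))

theorem proj_ok : projOK = true := by decide +kernel

/-- hyperplane facts -/
def perpOK : Bool :=
  (List.range 64).all fun c => Nat.beq (pc 1 c) (bit c 2)

theorem perp_ok : perpOK = true := by decide +kernel

theorem bit_xor (a b i : ℕ) : bit (Nat.xor a b) i = (bit a i + bit b i) % 2 := by
  simp only [bit]
  show (Nat.shiftRight (a ^^^ b) i).land 1 = _
  have h1 : ∀ n : ℕ, Nat.land n 1 = n % 2 := fun n => Nat.and_one_is_mod n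
  have h2 : ∀ n : ℕ, Nat.shiftRight n i = n >>> i := fun n => rfl
  rw [h1, h1, h1, h2, h2, h2, Nat.shiftRight_xor_distrib]
  rw [Nat.xor_mod_two_eq, Nat.add_mod]

end Cfsg.Agent.Spor.SuzT.Rad
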