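import Cfsg.Agent.Lib.Spor.SuzR.Cfg

/-!
Groups of Suzuki sporadic type: elementary abelian subgroups in the centraliser of two involutions.
-/

set_option autoImplicit false
set_option maxRecDepth 100000
set_option linter.unusedSectionVars false

namespace Cfsg.Agent.Spor.SuzT.Rad

open Chk Dat

/-- a combination of four vectors -/
def comb (u a r s n : ℕ) : ℕ :=
  Nat.xor (Nat.xor (bit n 0 * u) (bit n 1 * a)) (Nat.xor (bit n 2 * r) (bit n 3 * s))

/-- the linear map exchanging two pairs -/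
def lin (u r s a : ℕ) : ℕ :=
  (List.range 16).foldl (fun acc n => bif Nat.beq (comb u 4 r s n) a then comb (Nat.xor u 4) 4 s r n else acc) 0

/-- the fixed codes of a transposition -/
def fixP (u r s a b : ℕ) : Bool :=
  cmB u 4 a b && Nat.beq (Nat.xor (lin u r s a) (lin u r s b)) a && Nat.beq (lin u r s b) b

/-- a transposition fixes few codes -/
def fixCountOK : Bool :=
  (List.range 16).all fun u => !(sixB u) || (List.range 16).all fun r => !(perpR u r) ||
    (List.range 16).all fun s => !(perpR u s) || Nat.beq r s ||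
      (Nat.beq ((List.range 256).filter fun n => fixP u r s (n / 16) (n % 16)).length 8 &&
        (List.range 16).all fun a => (List.range 16).any fun n =>
          Nat.beq (comb u 4 r s n) a && Nat.beq (lin u r s a) (comb (Nat.xor u 4) 4 s r n))

theorem fix_count_ok : fixCountOK = true := by decide +kernel

theorem inE_iff {r a b : ℕ} : inE r a b = true ↔ (a = 0 ∨ a = r) ∧ (b = 0 ∨ b = r) := by
  simp only [inE, Bool.and_eq_true, Bool.or_eq_true]
  exact ⟨fun h => ⟨h.1.imp Nat.eq_of_beq_eq_true Nat.eq_of_beq_eq_true, h.2.imp Nat.eq_of_beq_eq_true Nat.eq_of_beq_eq_true⟩,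
    fun h => ⟨h.1.imp (fun e => by rw [e]; exact Nat.beq_refl _) (fun e => by rw [e]; exact Nat.beq_refl _),
      h.2.imp (fun e => by rw [e]; exact Nat.beq_refl _) (fun e => by rw [e]; exact Nat.beq_refl _)⟩⟩

theorem inE_zero (r : ℕ) : inE r 0 0 = true := inE_iff.2 ⟨Or.inl rfl, Or.inl rfl⟩

theorem inE_add {r a b c d : ℕ} (h : inE r a b = true) (h' : inE r c d = true) :
    inE r (Nat.xor a c) (Nat.xor b d) = true := by
  have key : ∀ {p q : ℕ}, (p = 0 ∨ p = r) → (q = 0 ∨ q = r) → Nat.xor p q = 0 ∨ Nat.xor p q = r := by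
    rintro p q (rfl | rfl) (rfl | rfl)
    exacts [Or.inl (xor_self' _), Or.inr (zero_xor' _), Or.inr (xor_zero' _), Or.inl (xor_self' _)]
  obtain ⟨h1, h2⟩ := inE_iff.1 h
  obtain ⟨h3, h4⟩ := inE_iff.1 h'
  exact inE_iff.2 ⟨key h1 h3, key h2 h4⟩

universe u

variable {G : Type u} [Group G] [Finite G] {z : G} {Q : Subgroup G}

/-- the subgroup with coordinates in a set -/
def Ctx.codeSub (C : Ctx z Q) (P : ℕ → ℕ → Bool) : Subgroup G :=
  Subgroup.closure {c | c ∈ C.R ∧ P (C.fst c) (C.th c) = true}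

variable {C : Ctx z Q}

theorem Ctx.mem_codeSub {P : ℕ → ℕ → Bool} (h0 : P 0 0 = true)
    (hP : ∀ a < 16, ∀ b < 16, ∀ c < 16, ∀ d < 16, P a b = true → P c d = true → P (Nat.xor a c) (Nat.xor b d) = true)
    {c : G} : c ∈ C.codeSub P ↔ c ∈ C.R ∧ P (C.fst c) (C.th c) = true := by
  refine ⟨fun h => ?_, fun h => Subgroup.subset_closure h⟩
  induction h using Subgroup.closure_induction with
  | mem g hg => exact hg
  | one => exact ⟨one_mem _, by rw [C.fst_one, C.th_one']; exact h0⟩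
  | mul g g' _ _ hg hg' =>
    refine ⟨mul_mem hg.1 hg'.1, ?_⟩
    rw [C.fst_hom hg.1 hg'.1, C.th_mul hg.1 hg'.1]
    exact hP _ (C.fst_lt g) _ (C.th_lt' g) _ (C.fst_lt g') _ (C.th_lt' g') hg.2 hg'.2
  | inv g _ hg =>
    refine ⟨inv_mem hg.1, ?_⟩
    rw [(C.coords_inv hg.1).1, (C.coords_inv hg.1).2]
    exact hg.2

variable (L : Cfg C)

/-- a point on both sides -/
def Cfg.E (r : ℕ) : Subgroup G := C.codeSub (inE r)

/-- the elementary subgroup of order 64 -/
noncomputable def Cfg.W (r : ℕ) : Subgroup G := C.codeSub (inW' L.u r)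

/-- the four-group fixed by the element of order three -/
noncomputable def Cfg.V : Subgroup G where
  carrier := {g | g = 1 ∨ g = L.t ∨ g = L.v ∨ g = L.t * L.v}
  one_mem' := Or.inl rfl
  mul_mem' {a b} ha hb := by
    have htt := L.sq
    have hvv := L.v_sq
    have hvt := L.v_t.eq
    have e1 : L.t * (L.t * L.v) = L.v := by rw [← mul_assoc, htt, one_mul]
    have e2 : L.v * (L.t * L.v) = L.t := by rw [← mul_assoc, hvt, mul_assoc, hvv, mul_one]
    have e3 : L.t * L.v * L.t = L.v := by rw [mul_assoc, hvt, e1]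
    have e4 : L.t * L.v * L.v = L.t := by rw [mul_assoc, hvv, mul_one]
    have e5 : L.t * L.v * (L.t * L.v) = 1 := by rw [← mul_assoc, e3, hvv]
    rcases ha with rfl | rfl | rfl | rfl <;> rcases hb with rfl | rfl | rfl | rfl <;>
      simp [htt, hvv, hvt, e1, e2, e3, e4, e5]
  inv_mem' {a} ha := by
    have e1 : L.t⁻¹ = L.t := inv_eq_of_mul_eq_one_right L.sq
    have e2 : L.v⁻¹ = L.v := inv_eq_of_mul_eq_one_right L.v_sq
    rcases ha with rfl | rfl | rfl | rfl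
    · exact Or.inl inv_one
    · exact Or.inr (Or.inl e1)
    · exact Or.inr (Or.inr (Or.inl e2))
    · exact Or.inr (Or.inr (Or.inr (by rw [mul_inv_rev, e1, e2, L.v_t.eq])))

theorem Cfg.mem_V {g : G} : g ∈ L.V ↔ g = 1 ∨ g = L.t ∨ g = L.v ∨ g = L.t * L.v := Iff.rfl

theorem Cfg.t_V : L.t ∈ L.V := Or.inr (Or.inl rfl)

theorem Cfg.v_V : L.v ∈ L.V := Or.inr (Or.inr (Or.inl rfl))

theorem Cfg.V_le : L.V ≤ L.S₀ := by
  rintro g (rfl | rfl | rfl | rfl)
  exacts [one_mem _, L.t_S₀, L.v_S₀, mul_mem L.t_S₀ L.v_S₀]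

theorem Cfg.tv_code : C.fst (L.t * L.v) = Nat.xor L.u 4 ∧ C.th (L.t * L.v) = L.u := by
  rw [C.fst_hom L.mem L.v_R, C.th_mul L.mem L.v_R, L.v_fst, L.v_th, L.four]
  exact ⟨rfl, by rw [show ∀ a b, Nat.xor a b = Nat.xor b a from Nat.xor_comm,
    show ∀ p q r, Nat.xor (Nat.xor p q) r = Nat.xor p (Nat.xor q r) from Nat.xor_assoc, xor_self', xor_zero']⟩

theorem Cfg.v_not_D : ¬ IsConj z L.v := fun h => by
  have h1 : L.v ≠ 1 := fun e => by
    have := L.v_fst
    rw [e, C.fst_one] at this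
    omega
  have := (C.D_iff L.v_R L.v_sq h1).1 h
  rw [L.v_th, L.u_facts.2.2] at this
  omega

theorem Cfg.tv_ne : L.t * L.v ≠ 1 := fun e => by
  have := L.tv_code.2
  rw [e, C.th_one'] at this
  have h := L.u_facts.1
  rw [← this] at h
  exact absurd h (by decide +kernel)

theorem Cfg.V_not_D {g : G} (hg : g ∈ L.V) : ¬ IsConj z g := by
  rcases hg with rfl | rfl | rfl | rfl
  · exact fun e => z_ne C.hy (isConj_one_right.1 e.symm)
  · exact L.not_D
  · exact L.v_not_D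
  · intro h
    have := (C.D_iff (mul_mem L.mem L.v_R) (by
      rw [show L.t * L.v * (L.t * L.v) = L.t * (L.v * L.t) * L.v by group, L.v_t.eq,
        show L.t * (L.t * L.v) * L.v = L.t * L.t * (L.v * L.v) by group, L.sq, L.v_sq, one_mul]) L.tv_ne).1 h
    rw [L.tv_code.2, L.u_facts.1] at this
    omega

theorem Cfg.t_ne_v : L.t ≠ L.v := fun e => by
  have := L.v_th
  rw [← e, L.four] at this
  have h := L.u_facts.1
  have h0 : L.u = 0 := by
    calc L.u = Nat.xor (Nat.xor L.u 4) 4 := by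
          rw [show ∀ p q r, Nat.xor (Nat.xor p q) r = Nat.xor p (Nat.xor q r) from Nat.xor_assoc, xor_self', xor_zero']
      _ = 0 := by rw [← this]; exact xor_self' _
  rw [h0] at h
  exact absurd h (by decide +kernel)

theorem Cfg.card_V : Nat.card L.V = 4 := by
  have h1 : L.t ≠ 1 := L.ne_one
  have h2 : L.v ≠ 1 := fun e => by
    have := L.v_fst
    rw [e, C.fst_one] at this
    omega
  have h3 := L.t_ne_v
  have h4 : L.t * L.v ≠ L.t := fun e => h2 (mul_eq_left.1 e)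
  have h5 : L.t * L.v ≠ L.v := fun e => h1 (mul_eq_right.1 e)
  have e : (L.V : Set G) = {1, L.t, L.v, L.t * L.v} := by ext g; rfl
  rw [← SetLike.coe_sort_coe, Nat.card_coe_set_eq, e, Set.ncard_insert_of_notMem, Set.ncard_insert_of_notMem,
    Set.ncard_pair (Ne.symm h5)]
  · simp [h3, h4.symm]
  · simp [h1.symm, h2.symm, L.tv_ne.symm]

theorem Cfg.mem_E {r : ℕ} {c : G} : c ∈ Cfg.E (C := C) r ↔ c ∈ C.R ∧ inE r (C.fst c) (C.th c) = true :=
  C.mem_codeSub (inE_zero r) fun _ _ _ _ _ _ _ _ h h' => inE_add h h'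

theorem Cfg.W_facts {r : ℕ} (hr : perpR L.u r = true) :
    ((List.range 256).filter fun n => inW' L.u r (n / 16) (n % 16)).length = 16 ∧
    ((List.range 256).filter fun n => inE r (n / 16) (n % 16)).length = 4 ∧
    ∀ a < 16, ∀ b < 16, inW' L.u r a b = true →
      sqB a b = true ∧ cmB L.u 4 a b = true ∧ (q4 b = 0 ↔ inE r a b = true) ∧
      ∀ c < 16, ∀ d < 16, inW' L.u r c d = true →
        cmB a b c d = true ∧ inW' L.u r (Nat.xor a c) (Nat.xor b d) = true := by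
  have h := List.all_eq_true.mp elem_ok L.u (List.mem_range.mpr L.u_lt)
  rw [L.six, Bool.not_true, Bool.false_or] at h
  have h' := List.all_eq_true.mp h r (List.mem_range.mpr (perp_spec hr).1)
  simp only [hr, Bool.not_true, Bool.false_or, Bool.and_eq_true] at h'
  refine ⟨Nat.eq_of_beq_eq_true h'.1.1.1, Nat.eq_of_beq_eq_true h'.1.1.2, fun a ha b hb hab => ?_⟩
  have h2 := List.all_eq_true.mp h'.2 (16 * a + b) (List.mem_range.mpr (by omega))
  rw [show (16 * a + b) / 16 = a by omega, show (16 * a + b) % 16 = b by omega, hab, Bool.not_true,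
    Bool.false_or] at h2
  simp only [Bool.and_eq_true, beq_iff_eq] at h2
  refine ⟨h2.1.1.1, h2.1.1.2, ?_, fun c hc d hd hcd => ?_⟩
  · constructor
    · intro e
      rw [← h2.1.2, e]
      exact Nat.beq_refl _
    · intro e
      rw [e] at h2
      exact Nat.eq_of_beq_eq_true h2.1.2
  · have h3 := List.all_eq_true.mp h2.2 (16 * c + d) (List.mem_range.mpr (by omega))
    rw [show (16 * c + d) / 16 = c by omega, show (16 * c + d) % 16 = d by omega, hcd, Bool.not_true,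
      Bool.false_or, Bool.and_eq_true] at h3
    exact h3

theorem Cfg.W_zero (r : ℕ) : inW' L.u r 0 0 = true := by
  simp only [inW', inE_zero, Bool.true_or]

theorem Cfg.mem_W {r : ℕ} (hr : perpR L.u r = true) {c : G} :
    c ∈ L.W r ↔ c ∈ C.R ∧ inW' L.u r (C.fst c) (C.th c) = true :=
  C.mem_codeSub (L.W_zero r) fun a ha b hb c hc d hd h h' => (((L.W_facts hr).2.2 a ha b hb h).2.2.2 c hc d hd h').2

theorem Cfg.card_E {r : ℕ} (hr : perpR L.u r = true) : Nat.card (Cfg.E (C := C) r) = 16 := by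
  rw [Nat.card_congr (Equiv.subtypeEquivRight fun c => Cfg.mem_E (r := r) (c := c)), C.card_codes,
    (L.W_facts hr).2.1]

theorem Cfg.card_W {r : ℕ} (hr : perpR L.u r = true) : Nat.card (L.W r) = 64 := by
  rw [Nat.card_congr (Equiv.subtypeEquivRight fun c => L.mem_W hr (c := c)), C.card_codes, (L.W_facts hr).1]

theorem Cfg.E_le_W {r : ℕ} (hr : perpR L.u r = true) : Cfg.E (C := C) r ≤ L.W r := fun c hc => by
  obtain ⟨h1, h2⟩ := Cfg.mem_E.1 hc
  refine (L.mem_W hr).2 ⟨h1, ?_⟩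
  simp only [inW', h2, Bool.true_or]

theorem Cfg.W_le {r : ℕ} (hr : perpR L.u r = true) : L.W r ≤ L.S₀ := fun c hc => by
  obtain ⟨h1, h2⟩ := (L.mem_W hr).1 hc
  exact L.mem_S₀.2 ⟨h1, (L.comm_t h1).2 ((L.W_facts hr).2.2 _ (C.fst_lt c) _ (C.th_lt' c) h2).2.1⟩

theorem Cfg.W_sq {r : ℕ} (hr : perpR L.u r = true) {c : G} (hc : c ∈ L.W r) : c * c = 1 := by
  obtain ⟨h1, h2⟩ := (L.mem_W hr).1 hc
  have h := ((L.W_facts hr).2.2 _ (C.fst_lt c) _ (C.th_lt' c) h2).1
  simp only [sqB, Bool.and_eq_true] at h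
  rw [C.sq_law h1, Nat.eq_of_beq_eq_true h.1, Nat.eq_of_beq_eq_true h.2, C.zel_zero]

theorem Cfg.W_comm {r : ℕ} (hr : perpR L.u r = true) {c d : G} (hc : c ∈ L.W r) (hd : d ∈ L.W r) :
    Commute c d := by
  obtain ⟨h1, h2⟩ := (L.mem_W hr).1 hc
  obtain ⟨h3, h4⟩ := (L.mem_W hr).1 hd
  have h := (((L.W_facts hr).2.2 _ (C.fst_lt c) _ (C.th_lt' c) h2).2.2.2 _ (C.fst_lt d) _ (C.th_lt' d) h4).1
  simp only [cmB, Bool.and_eq_true] at h
  exact (C.comm_iff h1 h3).2 ⟨Nat.eq_of_beq_eq_true h.1, Nat.eq_of_beq_eq_true h.2⟩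

theorem Cfg.W_D {r : ℕ} (hr : perpR L.u r = true) {c : G} (hc : c ∈ L.W r) (h1 : c ≠ 1) :
    IsConj z c ↔ c ∈ Cfg.E (C := C) r := by
  obtain ⟨hR, h2⟩ := (L.mem_W hr).1 hc
  rw [C.D_iff hR (L.W_sq hr hc) h1, ((L.W_facts hr).2.2 _ (C.fst_lt c) _ (C.th_lt' c) h2).2.2.1, Cfg.mem_E]
  exact ⟨fun h => ⟨hR, h⟩, fun h => h.2⟩

theorem Cfg.V_le_W {r : ℕ} (hr : perpR L.u r = true) : L.V ≤ L.W r := by
  have e : ∀ {g : G}, g ∈ C.R → ∀ {a b : ℕ}, C.fst g = a → C.th g = b → inE r (Nat.xor a a) (Nat.xor b b) = true :=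
    fun {g} _ {a b} _ _ => by rw [xor_self', xor_self']; exact inE_zero r
  rintro g (rfl | rfl | rfl | rfl)
  · exact one_mem _
  · refine (L.mem_W hr).2 ⟨L.mem, ?_⟩
    have := e L.mem (a := L.u) (b := 4) rfl L.four
    rw [L.four]
    simp only [inW']
    change inE r (Nat.xor (C.fst L.t) L.u) (Nat.xor 4 4) = true at this
    simp only [this, Bool.or_true, Bool.true_or]
  · refine (L.mem_W hr).2 ⟨L.v_R, ?_⟩
    have := e L.v_R L.v_fst L.v_th
    rw [L.v_fst, L.v_th]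
    simp only [inW', this, Bool.or_true, Bool.true_or]
  · refine (L.mem_W hr).2 ⟨mul_mem L.mem L.v_R, ?_⟩
    have := e (mul_mem L.mem L.v_R) L.tv_code.1 L.tv_code.2
    rw [L.tv_code.1, L.tv_code.2]
    simp only [inW', this, Bool.or_true]

theorem Cfg.W_split {r : ℕ} (hr : perpR L.u r = true) {c : G} (hc : c ∈ L.W r) :
    ∃ e ∈ Cfg.E (C := C) r, ∃ g ∈ L.V, c = e * g := by
  obtain ⟨hR, h⟩ := (L.mem_W hr).1 hc
  have key : ∀ g ∈ L.V, inE r (Nat.xor (C.fst c) (C.fst g)) (Nat.xor (C.th c) (C.th g)) = true →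
      ∃ e ∈ Cfg.E (C := C) r, ∃ g ∈ L.V, c = e * g := fun g hg h' => by
    have hgR := (L.mem_S₀.1 (L.V_le hg)).1
    refine ⟨c * g⁻¹, Cfg.mem_E.2 ⟨mul_mem hR (inv_mem hgR), ?_⟩, g, hg, by group⟩
    rw [C.fst_hom hR (inv_mem hgR), C.th_mul hR (inv_mem hgR), (C.coords_inv hgR).1, (C.coords_inv hgR).2]
    exact h'
  simp only [inW', Bool.or_eq_true] at h
  rcases h with ((h | h) | h) | h
  · exact key 1 (one_mem _) (by rw [C.fst_one, C.th_one', xor_zero', xor_zero']; exact h)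
  · exact key _ L.t_V (by rw [L.four]; exact h)
  · exact key _ L.v_V (by rw [L.v_fst, L.v_th]; exact h)
  · exact key _ (mul_mem L.t_V L.v_V) (by rw [L.tv_code.1, L.tv_code.2]; exact h)

theorem Cfg.E_V {r : ℕ} (hr : perpR L.u r = true) {c : G} (hc : c ∈ Cfg.E (C := C) r) (hv : c ∈ L.V) : c = 1 := by
  by_contra h1
  exact L.V_not_D hv ((L.W_D hr (L.E_le_W hr hc) h1).2 hc)

theorem Cfg.exists_perp : ∃ r, perpR L.u r = true := by
  have h := List.all_eq_true.mp cent_ok L.u (List.mem_range.mpr L.u_lt)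
  rw [L.six, Bool.not_true, Bool.false_or, Bool.and_eq_true, Bool.and_eq_true] at h
  have h2 := Nat.eq_of_beq_eq_true h.1.2
  obtain ⟨r, hr⟩ := List.exists_mem_of_length_pos (l := (List.range 16).filter fun r => perpR L.u r) (by omega)
  exact ⟨r, (List.mem_filter.1 hr).2⟩

/-- the exchanged point -/
noncomputable def Cfg.sw (r : ℕ) : ℕ := act (C.pi L.σ) r

theorem Cfg.sw_perp {r : ℕ} (hr : perpR L.u r = true) :
    perpR L.u (L.sw r) = true ∧ L.sw r ≠ r ∧ L.sw (L.sw r) = r ∧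
      ∀ s, perpR L.u s = true → s = r ∨ s = L.sw r := by
  have h := (L.swap_act L.σS L.σx).2
  obtain ⟨h1, h2⟩ := h r hr
  refine ⟨h1, h2, ?_, fun s hs => ?_⟩
  · obtain ⟨h3, h4⟩ := h _ h1
    rcases perp_two L.six L.u_lt hr h1 h3 with e | e | e
    exacts [absurd e.symm h2, e.symm, absurd e.symm h4]
  · rcases perp_two L.six L.u_lt hr h1 hs with e | e | e
    exacts [absurd e.symm h2, Or.inl e.symm, Or.inr e.symm]

theorem Cfg.σ_E {r : ℕ} (hr : perpR L.u r = true) {c : G} (hc : c ∈ Cfg.E (C := C) r) :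
    L.σ * c * L.σ⁻¹ ∈ Cfg.E (C := C) (L.sw r) := by
  obtain ⟨hR, h⟩ := Cfg.mem_E.1 hc
  obtain ⟨h1, h2, h3⟩ := C.conj_swap L.σ_z L.σx hR
  refine Cfg.mem_E.2 ⟨h1, ?_⟩
  rw [h2, h3, ← zero_xor' (act _ (C.th c))]
  obtain ⟨ha, hb⟩ := inE_iff.1 h
  have e : ∀ {a}, (a = 0 ∨ a = r) → act (C.pi L.σ) a = 0 ∨ act (C.pi L.σ) a = L.sw r := by
    rintro a (rfl | rfl)
    exacts [Or.inl act_zero, Or.inr rfl]
  rw [zero_xor']
  exact inE_add (inE_iff.2 ⟨e ha, Or.inl rfl⟩) (inE_iff.2 ⟨e hb, e hb⟩) |> fun h => by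
    rwa [zero_xor'] at h

theorem Cfg.σ_W {r : ℕ} (hr : perpR L.u r = true) {c : G} (hc : c ∈ L.W r) :
    L.σ * c * L.σ⁻¹ ∈ L.W (L.sw r) := by
  obtain ⟨e, he, g, hg, rfl⟩ := L.W_split hr hc
  have hs := (L.sw_perp hr).1
  rw [show L.σ * (e * g) * L.σ⁻¹ = L.σ * e * L.σ⁻¹ * (L.σ * g * L.σ⁻¹) by group]
  refine mul_mem (L.E_le_W hs (L.σ_E hr he)) (L.V_le_W hs ?_)
  have hσt : L.σ * L.t * L.σ⁻¹ = L.t := by rw [L.σ_t.eq, mul_inv_cancel_right]
  rcases hg with rfl | rfl | rfl | rfl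
  · simp
  · rw [hσt]; exact L.t_V
  · rw [L.σ_v]; exact mul_mem L.t_V L.v_V
  · rw [show L.σ * (L.t * L.v) * L.σ⁻¹ = L.σ * L.t * L.σ⁻¹ * (L.σ * L.v * L.σ⁻¹) by group, hσt, L.σ_v]
    exact mul_mem L.t_V (mul_mem L.t_V L.v_V)

theorem Cfg.h_V {g : G} (hg : g ∈ L.V) : Commute L.h g := by
  rcases hg with rfl | rfl | rfl | rfl
  exacts [Commute.one_right _, L.ht, L.v_h, L.ht.mul_right L.v_h]

theorem Cfg.h_E {r : ℕ} (hr : perpR L.u r = true) {c : G} (hc : c ∈ Cfg.E (C := C) r) :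
    L.h * c * L.h⁻¹ ∈ Cfg.E (C := C) r := by
  obtain ⟨hR, h⟩ := Cfg.mem_E.1 hc
  obtain ⟨h1, h2⟩ := L.h_coords hR
  refine Cfg.mem_E.2 ⟨L.h_mem hR, ?_⟩
  rw [h1, h2]
  obtain ⟨ha, hb⟩ := inE_iff.1 h
  have e : ∀ {a}, (a = 0 ∨ a = r) → L.al a = 0 ∨ L.al a = r := by
    rintro a (rfl | rfl)
    exacts [Or.inl L.al_zero, Or.inr (L.al_perp hr)]
  have := inE_add (inE_iff.2 ⟨e hb, e hb⟩) (inE_iff.2 ⟨Or.inl rfl, e ha⟩)
  rwa [xor_zero', show ∀ a b, Nat.xor a b = Nat.xor b a from Nat.xor_comm] at this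

theorem Cfg.h_W {r : ℕ} (hr : perpR L.u r = true) {c : G} (hc : c ∈ L.W r) : L.h * c * L.h⁻¹ ∈ L.W r := by
  obtain ⟨e, he, g, hg, rfl⟩ := L.W_split hr hc
  rw [show L.h * (e * g) * L.h⁻¹ = L.h * e * L.h⁻¹ * (L.h * g * L.h⁻¹) by group, (L.h_V hg).eq,
    mul_inv_cancel_right]
  exact mul_mem (L.E_le_W hr (L.h_E hr he)) (L.V_le_W hr hg)

theorem Cfg.h_E_fix {r : ℕ} (hr : perpR L.u r = true) {c : G} (hc : c ∈ Cfg.E (C := C) r) (h : Commute L.h c) :
    c = 1 := by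
  obtain ⟨hR, hin⟩ := Cfg.mem_E.1 hc
  obtain ⟨h1, h2⟩ := L.h_coords hR
  rw [h.eq, mul_inv_cancel_right] at h1 h2
  obtain ⟨ha, hb⟩ := inE_iff.1 hin
  have e : ∀ {a}, (a = 0 ∨ a = r) → L.al a = a := by
    rintro a (rfl | rfl)
    exacts [L.al_zero, L.al_perp hr]
  rw [e hb] at h1
  rw [e ha, e hb, h1, xor_self'] at h2
  rw [h2] at h1
  obtain ⟨i, j, hi, hj, rfl⟩ := C.kernel hR h1 h2
  exact L.h_fix hi hj h

theorem Cfg.E_inter {r : ℕ} (hr : perpR L.u r = true) {c : G} (hc : c ∈ Cfg.E (C := C) r)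
    (hc' : c ∈ Cfg.E (C := C) (L.sw r)) : ∃ i j, i < 2 ∧ j < 2 ∧ c = C.zel i j := by
  obtain ⟨hR, h⟩ := Cfg.mem_E.1 hc
  obtain ⟨ha, hb⟩ := inE_iff.1 h
  obtain ⟨ha', hb'⟩ := inE_iff.1 (Cfg.mem_E.1 hc').2
  have key : ∀ {a}, (a = 0 ∨ a = r) → (a = 0 ∨ a = L.sw r) → a = 0 := by
    rintro a (rfl | rfl) (e | e)
    exacts [rfl, rfl, e, absurd e.symm (L.sw_perp hr).2.1]
  exact C.kernel hR (key ha ha') (key hb hb')

theorem Cfg.invol_W {c : G} (hc : c ∈ L.S₀) (hcc : c * c = 1) : ∃ r, perpR L.u r = true ∧ c ∈ L.W r := by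
  obtain ⟨hR, ht⟩ := L.mem_S₀.1 hc
  have h := List.all_eq_true.mp cent_ok L.u (List.mem_range.mpr L.u_lt)
  rw [L.six, Bool.not_true, Bool.false_or, Bool.and_eq_true, Bool.and_eq_true] at h
  have hu := C.fst_lt c
  have hv := C.th_lt' c
  have h' := List.all_eq_true.mp h.2 (16 * C.fst c + C.th c) (List.mem_range.mpr (by omega))
  simp only [show (16 * C.fst c + C.th c) / 16 = C.fst c by omega,
    show (16 * C.fst c + C.th c) % 16 = C.th c by omega, (L.comm_t hR).1 ht, Bool.not_true, Bool.false_or,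
    Bool.and_eq_true] at h'
  have hsq := C.sq_law hR
  rw [hcc, ← C.zel_zero] at hsq
  obtain ⟨a1, a2⟩ := C.zel_inj (by norm_num) (by norm_num) (Nat.mod_lt _ (by omega)) (Nat.mod_lt _ (by omega)) hsq
  have hs : sqB (C.fst c) (C.th c) = true := by
    simp only [sqB, sz, sx, ← a1, ← a2]
    rfl
  have h1 := h'.1
  rw [hs, Bool.not_true, Bool.false_or, List.any_eq_true] at h1
  obtain ⟨r, -, hr⟩ := h1
  rw [Bool.and_eq_true] at hr
  exact ⟨r, hr.1, (L.mem_W hr.1).2 ⟨hR, hr.2⟩⟩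

theorem Cfg.center_S₀ {c : G} (hc : c ∈ L.S₀) (hcen : ∀ d ∈ L.S₀, Commute c d) :
    ∃ i j, i < 2 ∧ j < 2 ∧ ∃ g ∈ L.V, c = C.zel i j * g := by
  obtain ⟨hR, ht⟩ := L.mem_S₀.1 hc
  have h := List.all_eq_true.mp cent_ok L.u (List.mem_range.mpr L.u_lt)
  rw [L.six, Bool.not_true, Bool.false_or, Bool.and_eq_true, Bool.and_eq_true] at h
  have hu := C.fst_lt c
  have hv := C.th_lt' c
  have h' := List.all_eq_true.mp h.2 (16 * C.fst c + C.th c) (List.mem_range.mpr (by omega))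
  simp only [show (16 * C.fst c + C.th c) / 16 = C.fst c by omega,
    show (16 * C.fst c + C.th c) % 16 = C.th c by omega, (L.comm_t hR).1 ht, Bool.not_true, Bool.false_or,
    Bool.and_eq_true] at h'
  have hall : ((List.range 256).all fun m => !(cmB L.u 4 (m / 16) (m % 16)) ||
      cmB (C.fst c) (C.th c) (m / 16) (m % 16)) = true := by
    rw [List.all_eq_true]
    intro m hm
    rw [List.mem_range] at hm
    by_cases hcm : cmB L.u 4 (m / 16) (m % 16) = true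
    · obtain ⟨b1, b2, b3⟩ := C.rep_coords (u := m / 16) (v := m % 16) (i := 0) (j := 0) (by omega)
        (Nat.mod_lt _ (by norm_num)) (by norm_num) (by norm_num)
      have := (C.comm_iff hR b1).1 (hcen _ (L.mem_S₀.2 ⟨b1, (L.comm_t b1).2 (by rw [b2, b3]; exact hcm)⟩))
      rw [b2, b3] at this
      simp only [cmB, this.1, this.2, Nat.beq_refl, Bool.and_self, Bool.or_true]
    · rw [(Bool.not_eq_true _).mp hcm]; rfl
  have h2 := h'.2
  rw [hall, Bool.not_true, Bool.false_or] at h2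
  have key : ∀ g ∈ L.V, C.fst g = C.fst c → C.th g = C.th c →
      ∃ i j, i < 2 ∧ j < 2 ∧ ∃ g ∈ L.V, c = C.zel i j * g := fun g hg e1 e2 => by
    have hgR := (L.mem_S₀.1 (L.V_le hg)).1
    obtain ⟨i, j, hi, hj, e⟩ := C.xor_div hgR hR e1 e2
    exact ⟨i, j, hi, hj, g, hg, by rw [e]; exact (C.zel_comm i j hgR.1 hgR.2.1).eq⟩
  simp only [inV, Bool.or_eq_true, Bool.and_eq_true] at h2
  rcases h2 with ((h2 | h2) | h2) | h2
  · exact key 1 (one_mem _) (by rw [C.fst_one, Nat.eq_of_beq_eq_true h2.1])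
      (by rw [C.th_one', Nat.eq_of_beq_eq_true h2.2])
  · exact key _ L.t_V (by rw [Nat.eq_of_beq_eq_true h2.1]; rfl) (by rw [L.four, Nat.eq_of_beq_eq_true h2.2])
  · exact key _ L.v_V (by rw [L.v_fst, Nat.eq_of_beq_eq_true h2.1]) (by rw [L.v_th, Nat.eq_of_beq_eq_true h2.2])
  · exact key _ (mul_mem L.t_V L.v_V) (by rw [L.tv_code.1, Nat.eq_of_beq_eq_true h2.1])
      (by rw [L.tv_code.2, Nat.eq_of_beq_eq_true h2.2])

theorem Cfg.out_not_D {c : G} (hc : c ∈ L.S) (hcc : c * c = 1) (hc0 : c ∉ L.S₀) : ¬ IsConj z c := by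
  obtain ⟨ht, hz⟩ := L.mem_S.1 hc
  have hπ : C.pi c ≠ 1 := fun e => by
    have hA := C.core_mem L.mem (by rw [L.four]; norm_num) (C.pi_mem hz e) ht
    exact hc0 (L.mem_S₀.2 ⟨C.A_le hA, ht⟩)
  obtain ⟨M, hM, he, h2, -⟩ := cen_spec (L.pi_comm hc)
  have hsq : mulL M M = idL := by
    have h1 : IsCols (((C.pi c * C.pi c : Ga) : OG)) (mulL M M) := hM.mul hM
    rw [C.pi_sq hz hcc] at h1
    exact h1.unique IsCols.one
  rcases invol_class (C.pi_sq hz hcc) hπ with hA | hC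
  · rcases h2 hsq with h3 | h3
    · exact absurd (L.mem_S₀.2 ⟨C.lift_inR hz hcc (radAt_of_list hM he h3) hπ, ht⟩) hc0
    · exact absurd (zero_or_rot hA.symm hM) (by rw [h3]; exact Bool.false_ne_true)
  · exact C.not_D hz hcc hC

theorem Cfg.out_bound {y : G} (hy : y ∈ L.S) (hyx : y * C.x * y⁻¹ = C.x * z) :
    Nat.card ↥(L.S₀ ⊓ Subgroup.centralizer ({y} : Set G)) ≤ 16 ∧
      ∀ r, perpR L.u r = true → ∀ c ∈ Cfg.E (C := C) r, Commute c y → c = 1 ∨ c = z := by
  obtain ⟨hyt, hyz⟩ := L.mem_S.1 hy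
  obtain ⟨hu, hperp⟩ := L.swap_act hy hyx
  have h4 := L.act_four hy
  have hf := C.pi_fix hyz (Or.inr hyx)
  obtain ⟨r, hr⟩ := L.exists_perp
  set s := act (C.pi y) r with hs
  obtain ⟨hs1, hs2⟩ : perpR L.u s = true ∧ s ≠ r := hperp r hr
  have hsr : act (C.pi y) s = r := by
    obtain ⟨h5, h6⟩ := hperp s hs1
    rcases perp_two L.six L.u_lt hr hs1 h5 with e | e | e
    exacts [absurd e.symm hs2, e.symm, absurd e.symm h6]
  have hcheck := List.all_eq_true.mp fix_count_ok L.u (List.mem_range.mpr L.u_lt)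
  rw [L.six, Bool.not_true, Bool.false_or] at hcheck
  have hc2 := List.all_eq_true.mp hcheck r (List.mem_range.mpr (perp_spec hr).1)
  rw [hr, Bool.not_true, Bool.false_or] at hc2
  have hc3 := List.all_eq_true.mp hc2 s (List.mem_range.mpr (perp_spec hs1).1)
  have hne : Nat.beq r s = false := (Bool.not_eq_true _).mp fun e => hs2 (Nat.eq_of_beq_eq_true e).symm
  simp only [hs1, hne, Bool.not_true, Bool.false_or, Bool.and_eq_true] at hc3
  have hbit : ∀ m i, bit m i = 0 ∨ bit m i = 1 := fun m i => by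
    have : bit m i ≤ 1 := Nat.and_le_right
    omega
  have hsmul : ∀ m i (a b : ℕ), act (C.pi y) a = b → act (C.pi y) (bit m i * a) = bit m i * b := fun m i a b e => by
    rcases hbit m i with e' | e' <;> rw [e']
    · rw [zero_mul, zero_mul, act_zero]
    · rw [one_mul, one_mul, e]
  have hlt : ∀ m i {a}, a < 16 → bit m i * a < 16 := fun m i {a} ha => by
    rcases hbit m i with e' | e' <;> rw [e'] <;> omega
  have hlin : ∀ a < 16, act (C.pi y) a = lin L.u r s a := by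
    intro a ha
    have h := List.all_eq_true.mp hc3.2 a (List.mem_range.mpr ha)
    simp only [List.any_eq_true, Bool.and_eq_true] at h
    obtain ⟨m, -, hm1, hm2⟩ := h
    rw [Nat.eq_of_beq_eq_true hm2, ← Nat.eq_of_beq_eq_true hm1, comb, comb,
      act_xor hf (xor_lt16 (hlt m 0 L.u_lt) (hlt m 1 (by norm_num)))
        (xor_lt16 (hlt m 2 (perp_spec hr).1) (hlt m 3 (perp_spec hs1).1)),
      act_xor hf (hlt m 0 L.u_lt) (hlt m 1 (by norm_num)),
      act_xor hf (hlt m 2 (perp_spec hr).1) (hlt m 3 (perp_spec hs1).1),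
      hsmul m 0 _ _ hu, hsmul m 1 _ _ h4, hsmul m 2 _ _ hs.symm, hsmul m 3 _ _ hsr]
  have hfix : ∀ c ∈ C.R, Commute c y →
      Nat.xor (lin L.u r s (C.fst c)) (lin L.u r s (C.th c)) = C.fst c ∧ lin L.u r s (C.th c) = C.th c := by
    intro c hc hcy
    obtain ⟨-, h2, h3⟩ := C.conj_swap hyz hyx hc
    rw [hcy.symm.eq, mul_inv_cancel_right, hlin _ (C.th_lt' c)] at h2 h3
    rw [hlin _ (C.fst_lt c)] at h2
    exact ⟨h2.symm, h3.symm⟩
  have hxy : ¬ Commute C.x y := fun e => by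
    rw [← e.eq, mul_inv_cancel_right] at hyx
    exact z_ne C.hy (mul_eq_left.1 hyx.symm)
  constructor
  · let P := fixP L.u r s
    have hP : Nat.card {c : G // c ∈ C.R ∧ P (C.fst c) (C.th c) = true} = 32 := by
      rw [C.card_codes, Nat.eq_of_beq_eq_true hc3.1]
    have hxR := C.A_le C.xA
    let f : ↥(L.S₀ ⊓ Subgroup.centralizer ({y} : Set G)) × Fin 2 →
        {c : G // c ∈ C.R ∧ P (C.fst c) (C.th c) = true} := fun p =>
      ⟨(p.1 : G) * C.x ^ (p.2 : ℕ), by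
        obtain ⟨hR, hct⟩ := L.mem_S₀.1 p.1.2.1
        have hzel : C.x ^ (p.2 : ℕ) = C.zel 0 p.2 := by simp [Ctx.zel]
        refine ⟨mul_mem hR (pow_mem hxR _), ?_⟩
        rw [hzel, C.fst_hom hR (C.A_le (C.zel_mem _ _).1), C.th_mul hR (C.A_le (C.zel_mem _ _).1), C.th_zel,
          C.fst_A (C.zel_mem _ _).1, C.co_zel (by norm_num) p.2.2, xor_zero', xor_zero']
        obtain ⟨e1, e2⟩ := hfix _ hR (Subgroup.mem_centralizer_singleton_iff.1 p.1.2.2)
        simp only [P, fixP, (L.comm_t hR).1 hct, e2, Bool.true_and]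
        rw [e2] at e1
        rw [e1, Nat.beq_refl, Nat.beq_refl]
        rfl⟩
    have hf : Function.Injective f := by
      rintro ⟨c, i⟩ ⟨d, j⟩ e
      have e' : (c : G) * C.x ^ (i : ℕ) = (d : G) * C.x ^ (j : ℕ) := congrArg Subtype.val e
      have hcy := Subgroup.mem_centralizer_singleton_iff.1 c.2.2
      have hdy := Subgroup.mem_centralizer_singleton_iff.1 d.2.2
      have hij : i = j := by
        fin_cases i <;> fin_cases j
        · rfl
        · exfalso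
          simp only [pow_zero, pow_one, mul_one] at e'
          exact hxy (by
            rw [show C.x = (d : G)⁻¹ * c by rw [e', inv_mul_cancel_left]]
            exact (show Commute (d : G) y from hdy).inv_left.mul_left hcy)
        · exfalso
          simp only [pow_zero, pow_one, mul_one] at e'
          exact hxy (by
            rw [show C.x = (c : G)⁻¹ * d by rw [← e', inv_mul_cancel_left]]
            exact (show Commute (c : G) y from hcy).inv_left.mul_left hdy)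
        · rfl
      subst hij
      exact Prod.ext (Subtype.ext (mul_right_cancel e')) rfl
    have := Nat.card_le_card_of_injective f hf
    rw [hP, Nat.card_prod, Nat.card_fin] at this
    omega
  · intro r' hr' c hc hcy
    obtain ⟨hR, hin⟩ := Cfg.mem_E.1 hc
    obtain ⟨h1, h2⟩ := hfix c hR hcy
    rw [← hlin _ (C.fst_lt c), ← hlin _ (C.th_lt' c)] at h1
    rw [← hlin _ (C.th_lt' c)] at h2
    obtain ⟨ha, hb⟩ := inE_iff.1 hin
    have hmove : ∀ {a}, (a = 0 ∨ a = r') → act (C.pi y) a = a → a = 0 := by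
      rintro a (rfl | rfl) e
      · rfl
      · exact absurd e (hperp _ hr').2
    have hb0 := hmove hb h2
    rw [hb0, act_zero, xor_zero'] at h1
    obtain ⟨i, j, hi, hj, rfl⟩ := C.kernel hR (hmove ha h1) hb0
    interval_cases j
    · interval_cases i
      · exact Or.inl C.zel_zero
      · exact Or.inr (by simp [Ctx.zel])
    · exfalso
      refine hxy ?_
      have hzy : Commute (z ^ i) y := hyz.symm.pow_left i
      have := hzy.inv_left.mul_left hcy
      rwa [Ctx.zel, inv_mul_cancel_left, pow_one] at this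

end Cfsg.Agent.Spor.SuzT.Rad
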