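import Cfsg.Agent.Lib.Spor.SuzR.Cent
import Cfsg.Agent.Lib.Char.ZStar

/-!
Groups of Suzuki sporadic type: the four-group is normal in the centraliser of the involution.
-/

set_option autoImplicit false
set_option maxRecDepth 100000
set_option linter.unusedSectionVars false
set_option linter.style.haveILetI false

namespace Cfsg.Agent.Spor.SuzT.Rad

open Chk Dat

universe u

variable {G : Type u} [Group G] [Finite G] {z : G} {Q : Subgroup G} {C : Ctx z Q} (L : Cfg C)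

theorem Cfg.elem_W {K : Subgroup G} (hle : K ≤ L.S₀) (hsq : ∀ k ∈ K, k * k = 1) (hc : Nat.card K = 64) :
    ∃ r, perpR L.u r = true ∧ K = L.W r := by
  obtain ⟨r, hr⟩ := L.exists_perp
  obtain ⟨hs, -, -, hall⟩ := L.sw_perp hr
  have hcov : ∀ k ∈ K, k ∈ L.W r ∨ k ∈ L.W (L.sw r) := fun k hk => by
    obtain ⟨s, hs', hW⟩ := L.invol_W (hle hk) (hsq k hk)
    rcases hall s hs' with rfl | rfl
    exacts [Or.inl hW, Or.inr hW]
  by_cases h : K ≤ L.W r
  · exact ⟨r, hr, Subgroup.eq_of_le_of_card_ge h (by rw [hc, L.card_W hr])⟩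
  · refine ⟨_, hs, Subgroup.eq_of_le_of_card_ge ?_ (by rw [hc, L.card_W hs])⟩
    obtain ⟨a, haK, har⟩ := SetLike.not_le_iff_exists.1 h
    have has := (hcov a haK).resolve_left har
    intro b hbK
    rcases hcov b hbK with hb | hb
    · rcases hcov (a * b) (mul_mem haK hbK) with hab | hab
      · exact absurd (by simpa using mul_mem hab (inv_mem hb)) har
      · simpa using mul_mem (inv_mem has) hab
    · exact hb

theorem Cfg.fus_v {g : G} (hg : g ∈ L.H) (hy : g * L.v * g⁻¹ ∈ L.S) :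
    g * L.v * g⁻¹ = L.v ∨ g * L.v * g⁻¹ = L.t * L.v := by
  set y := g * L.v * g⁻¹ with hyd
  have hgt := L.mem_H.1 hg
  have hyy : y * y = 1 := by rw [hyd, conj_mul, L.v_sq]; group
  have hyD : ¬ IsConj z y := fun e => L.v_not_D (e.trans (isConj_iff.2 ⟨g⁻¹, by rw [hyd]; group⟩))
  have hback : ∀ {k : G}, Commute k L.t → Commute k y → g⁻¹ * k * g ∈ L.Hv := fun {k} h1 h2 => by
    refine L.mem_Hv.2 ⟨(hgt.inv_left.mul_left h1).mul_left hgt, ?_⟩
    have := (Commute.conj_iff g⁻¹).2 h2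
    rwa [inv_inv, show g⁻¹ * y * g = L.v by rw [hyd]; group] at this
  by_cases h0 : y ∈ L.S₀
  · obtain ⟨r, hr, hW⟩ := L.invol_W h0 hyy
    have hKle : (L.W r).map (MulAut.conj g⁻¹).toMonoidHom ≤ L.Hv := by
      rintro _ ⟨w, hw, rfl⟩
      show g⁻¹ * w * g⁻¹⁻¹ ∈ L.Hv
      rw [inv_inv]
      exact hback (L.mem_S₀.1 (L.W_le hr hw)).2 (L.W_comm hr hw hW)
    have hKsq : ∀ k ∈ (L.W r).map (MulAut.conj g⁻¹).toMonoidHom, k * k = 1 := by
      rintro _ ⟨w, hw, rfl⟩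
      rw [← map_mul, L.W_sq hr hw, map_one]
    obtain ⟨c, hc, hc'⟩ := L.Hv_syl.conj_into hKle (fun k => ⟨1, Subtype.ext (by
      rw [pow_one, SubmonoidClass.coe_pow, pow_two]; exact hKsq k k.2)⟩)
    obtain ⟨hct, hcv⟩ := L.mem_Hv.1 hc
    set K := ((L.W r).map (MulAut.conj g⁻¹).toMonoidHom).map (MulAut.conj c).toMonoidHom with hK
    obtain ⟨r', hr', hKW⟩ := L.elem_W (K := K)
      (by rintro _ ⟨k, hk, rfl⟩; exact hc' k hk)
      (by rintro _ ⟨k, hk, rfl⟩; rw [← map_mul, hKsq k hk, map_one])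
      (by rw [Subgroup.card_map_of_injective (MulAut.conj c).injective,
        Subgroup.card_map_of_injective (MulAut.conj g⁻¹).injective, L.card_W hr])
    have hmem : ∀ w ∈ L.W r', g * c⁻¹ * w * (g * c⁻¹)⁻¹ ∈ L.W r := by
      intro w hw
      rw [← hKW] at hw
      obtain ⟨k, ⟨w', hw', rfl⟩, rfl⟩ := hw
      show g * c⁻¹ * (c * (g⁻¹ * w' * g⁻¹⁻¹) * c⁻¹) * (g * c⁻¹)⁻¹ ∈ L.W r
      rw [show g * c⁻¹ * (c * (g⁻¹ * w' * g⁻¹⁻¹) * c⁻¹) * (g * c⁻¹)⁻¹ = w' by group]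
      exact hw'
    have hy' : g * c⁻¹ * L.v * (g * c⁻¹)⁻¹ = y := by
      rw [show g * c⁻¹ * L.v * (g * c⁻¹)⁻¹ = g * (c⁻¹ * L.v * c) * g⁻¹ by group, hcv.inv_left.eq, inv_mul_cancel_right]
    by_cases hrr : r' = r
    · subst hrr
      refine Or.inl ?_
      rw [← hy']
      exact L.NW_v hr ⟨L.mem_H.2 (hgt.mul_left hct.inv_left), Tw.mem_normalizer_of hmem⟩
    · obtain ⟨hs, -, -, hall⟩ := L.sw_perp hr
      have hr's : r' = L.sw r := (hall r' hr').resolve_left hrr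
      refine Or.inr ?_
      have hN : g * c⁻¹ * L.σ ∈ L.NW r := ⟨L.mem_H.2 ((hgt.mul_left hct.inv_left).mul_left L.σ_t),
        Tw.mem_normalizer_of fun w hw => by
          rw [show g * c⁻¹ * L.σ * w * (g * c⁻¹ * L.σ)⁻¹ = g * c⁻¹ * (L.σ * w * L.σ⁻¹) * (g * c⁻¹)⁻¹ by group]
          exact hmem _ (hr's ▸ L.σ_W hr hw)⟩
      have h := L.NW_v hr hN
      rw [show g * c⁻¹ * L.σ * L.v * (g * c⁻¹ * L.σ)⁻¹ = g * c⁻¹ * (L.σ * L.v * L.σ⁻¹) * (g * c⁻¹)⁻¹ by group,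
        L.σ_v, show g * c⁻¹ * (L.t * L.v) * (g * c⁻¹)⁻¹ =
          g * c⁻¹ * L.t * (g * c⁻¹)⁻¹ * (g * c⁻¹ * L.v * (g * c⁻¹)⁻¹) by group,
        (hgt.mul_left hct.inv_left).eq, mul_inv_cancel_right, hy'] at h
      rw [← h, ← mul_assoc, L.sq, one_mul]
  · exfalso
    obtain ⟨hyt, hyz⟩ := L.mem_S.1 hy
    have hz' : g⁻¹ * z * g ∈ L.Hv := hback L.tz.symm hyz.symm
    obtain ⟨c, hc, hc'⟩ := L.Hv_syl.conj_elt hz' ⟨1, by
      rw [pow_one, pow_two, show g⁻¹ * z * g * (g⁻¹ * z * g) = g⁻¹ * (z * z) * g by group, zz C.hy]; group⟩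
    obtain ⟨hct, hcv⟩ := L.mem_Hv.1 hc
    have hD : IsConj z (c * (g⁻¹ * z * g) * c⁻¹) := isConj_iff.2 ⟨c * g⁻¹, by group⟩
    obtain ⟨r, hr, hE⟩ := L.D_E (L.S₀_le hc') hD
    have hx := L.out_x hy h0
    have hb := (L.out_bound hy hx).1
    let K := (L.W r).map (MulAut.conj (g * c⁻¹)).toMonoidHom
    have hcard : Nat.card K = 64 := by
      rw [Subgroup.card_map_of_injective (MulAut.conj (g * c⁻¹)).injective, L.card_W hr]
    have hKS : ∀ k ∈ K, k ∈ L.S ∧ Commute k y := by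
      rintro _ ⟨w, hw, rfl⟩
      show g * c⁻¹ * w * (g * c⁻¹)⁻¹ ∈ L.S ∧ Commute (g * c⁻¹ * w * (g * c⁻¹)⁻¹) y
      have h1 := (Commute.conj_iff (g * c⁻¹)).2 (L.mem_S₀.1 (L.W_le hr hw)).2
      have h2 := (Commute.conj_iff (g * c⁻¹)).2 (L.W_comm hr hw (L.E_le_W hr hE))
      have h3 := (Commute.conj_iff (g * c⁻¹)).2 (L.v_cent (L.W_le hr hw))
      rw [(hgt.mul_left hct.inv_left).eq, mul_inv_cancel_right] at h1
      rw [show g * c⁻¹ * (c * (g⁻¹ * z * g) * c⁻¹) * (g * c⁻¹)⁻¹ = z by group] at h2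
      rw [show g * c⁻¹ * L.v * (g * c⁻¹)⁻¹ = g * (c⁻¹ * L.v * c) * g⁻¹ by group, hcv.inv_left.eq,
        inv_mul_cancel_right] at h3
      exact ⟨L.mem_S.2 ⟨h1, h2⟩, h3⟩
    classical
    let f : K → ↥(L.S₀ ⊓ Subgroup.centralizer ({y} : Set G)) × Fin 2 := fun k =>
      if hk : (k : G) ∈ L.S₀ then (⟨k, hk, Subgroup.mem_centralizer_singleton_iff.2 (hKS k k.2).2⟩, 0)
      else (⟨y⁻¹ * (k : G), by
        refine ⟨L.mem_S₀_of (mul_mem (inv_mem hy) (hKS k k.2).1) (mul_inv_eq_iff_eq_mul.1 ?_),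
          Subgroup.mem_centralizer_singleton_iff.2 (((Commute.refl y).inv_left).mul_left (hKS k k.2).2)⟩
        rw [show y⁻¹ * (k : G) * C.x * (y⁻¹ * (k : G))⁻¹ = y⁻¹ * ((k : G) * C.x * (k : G)⁻¹) * y by group,
          L.out_x (hKS k k.2).1 hk, ← hx]
        group⟩, 1)
    have hf : Function.Injective f := by
      intro a b e
      simp only [f] at e
      split_ifs at e with ha hb' hb'
      · exact Subtype.ext (congrArg (fun p => (p.1 : G)) e)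
      · exact absurd (congrArg Prod.snd e) Fin.zero_ne_one
      · exact absurd (congrArg Prod.snd e) Fin.zero_ne_one.symm
      · exact Subtype.ext (mul_left_cancel (congrArg (fun p => (p.1 : G)) e))
    have h := Nat.card_le_card_of_injective f hf
    rw [hcard, Nat.card_prod, Nat.card_fin] at h
    omega

theorem Cfg.not_zt : ¬ IsConj z (z * L.t) := by
  intro h
  have hR : z * L.t ∈ C.R := mul_mem (C.A_le C.zA) L.mem
  have hth : C.th (z * L.t) = 4 := by rw [C.th_mul (C.A_le C.zA) L.mem, C.th_A C.zA, L.four, zero_xor']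
  have h' := (C.D_iff hR (D_sq C.hy h).1 (D_sq C.hy h).2).1 h
  rw [hth] at h'
  exact absurd h' (by decide +kernel)

theorem Cfg.four_D {a : G} (ha : a = z ∨ a = C.x ∨ a = C.x * z) : IsConj z a ∧ Commute a L.t := by
  rcases ha with rfl | rfl | rfl
  · exact ⟨IsConj.refl _, L.tz.symm⟩
  · exact ⟨C.base.conj, L.tx.symm⟩
  · exact ⟨isConj_iff.2 ⟨L.σ * L.h, by
      rw [show L.σ * L.h * z * (L.σ * L.h)⁻¹ = L.σ * (L.h * z * L.h⁻¹) * L.σ⁻¹ by group, L.hz, L.σx]⟩,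
      (L.tx.mul_right L.tz).symm⟩

theorem Cfg.V_normal {g : G} (hg : g ∈ L.H) : g * L.v * g⁻¹ = L.v ∨ g * L.v * g⁻¹ = L.t * L.v := by
  haveI : Fact (Nat.Prime 2) := ⟨Nat.prime_two⟩
  haveI hN : ((Subgroup.zpowers L.t).subgroupOf L.H).Normal := ⟨fun a ha b => by
    have hab : Commute (b : G) a := by
      obtain ⟨n, hn⟩ := Subgroup.mem_zpowers_iff.1 (Subgroup.mem_subgroupOf.1 ha)
      rw [← hn]
      exact (L.mem_H.1 b.2).zpow_right n
    rw [Subgroup.mem_subgroupOf]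
    show (b : G) * a * (b : G)⁻¹ ∈ Subgroup.zpowers L.t
    rw [hab.eq, mul_inv_cancel_right]
    exact ha⟩
  set N := (Subgroup.zpowers L.t).subgroupOf L.H
  let π := QuotientGroup.mk' N
  have hker : ∀ a : L.H, π a = 1 ↔ (a : G) = 1 ∨ (a : G) = L.t := fun a => by
    rw [show π a = (a : L.H ⧸ N) from rfl, QuotientGroup.eq_one_iff, Subgroup.mem_subgroupOf,
      Subgroup.mem_zpowers_iff]
    constructor
    · rintro ⟨n, hn⟩
      rcases Int.even_or_odd' n with ⟨k, rfl | rfl⟩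
      · left; rw [← hn, zpow_mul, zpow_two, L.sq, one_zpow]
      · right; rw [← hn, zpow_add, zpow_mul, zpow_two, L.sq, one_zpow, one_mul, zpow_one]
    · rintro (e | e)
      · exact ⟨0, by rw [zpow_zero, e]⟩
      · exact ⟨1, by rw [zpow_one, e]⟩
  have mk : ∀ a : G, Commute a L.t → a ∈ L.H := fun a h => L.mem_H.2 h
  have heq : ∀ {a b : L.H}, π a = π b → (b : G) = a ∨ (b : G) = a * L.t := fun {a b} e => by
    rcases (hker (a⁻¹ * b)).1 (by rw [map_mul, map_inv, e, inv_mul_cancel]) with h | h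
    · exact Or.inl (inv_mul_eq_one.1 h).symm
    · exact Or.inr (inv_mul_eq_iff_eq_mul.1 h)
  -- the odd core is trivial
  have hfp : ∀ (K : Subgroup (L.H ⧸ N)), Odd (Nat.card K) → ∀ (a : G) (ha : IsConj z a) (hat : Commute a L.t),
      ∀ k ∈ K, Commute (π ⟨a, mk a hat⟩) k → k = 1 := by
    intro K hodd a ha hat k hk hc
    obtain ⟨b, rfl⟩ := QuotientGroup.mk'_surjective N k
    have e := mul_inv_eq_iff_eq_mul.2 hc.symm.eq
    rw [← map_inv, ← map_mul, ← map_mul] at e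
    have hab : Commute (b : G) a := by
      rcases heq e.symm with h | h
      · exact mul_inv_eq_iff_eq_mul.1 h
      · exfalso
        obtain ⟨g', hg', hga⟩ := L.D_trans hat ha
        have hgt := L.mem_H.1 hg'
        refine L.not_zt ?_
        have h1 : IsConj z (a * L.t) := ha.trans (isConj_iff.2 ⟨(b : G), h⟩)
        refine h1.trans (isConj_iff.2 ⟨g'⁻¹, ?_⟩)
        rw [← hga, show g'⁻¹ * (g' * z * g'⁻¹ * L.t) * g'⁻¹⁻¹ = z * (g'⁻¹ * L.t * g') by group,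
          hgt.inv_left.eq, inv_mul_cancel_right]
    obtain ⟨n, hn⟩ := L.cent_two hat ha (L.mem_H.1 b.2) hab
    have h1 : orderOf (π b) ∣ 2 ^ n := orderOf_dvd_of_pow_eq_one (by
      rw [← map_pow, show b ^ 2 ^ n = 1 from Subtype.ext hn, map_one])
    have h2 : orderOf (π b) ∣ Nat.card K := Subgroup.orderOf_dvd_natCard K hk
    exact orderOf_eq_one_iff.1 (Nat.eq_one_of_dvd_coprimes (Nat.Coprime.pow_left n
      (Nat.coprime_two_left.2 hodd)) h1 h2)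
  have hO : Cfsg.oddCore (L.H ⧸ N) = ⊥ := by
    obtain ⟨hz1, hz2⟩ := L.four_D (Or.inl rfl)
    obtain ⟨hx1, hx2⟩ := L.four_D (Or.inr (Or.inl rfl))
    obtain ⟨hy1, hy2⟩ := L.four_D (Or.inr (Or.inr rfl))
    have hodd := Char.card_oddCore_odd (L.H ⧸ N)
    refine Tw.odd_bot (a := π ⟨C.x, mk _ hx2⟩) (b := π ⟨z, mk _ hz2⟩) (inferInstanceAs (Cfsg.pPrimeCore 2 (L.H ⧸ N)).Normal) hodd ?_ ?_ ?_
      (hfp _ hodd _ hx1 hx2) (hfp _ hodd _ hz1 hz2) ?_
    · rw [← map_mul, show (⟨C.x, mk _ hx2⟩ : L.H) * ⟨C.x, mk _ hx2⟩ = 1 from Subtype.ext C.base.sq, map_one]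
    · rw [← map_mul, show (⟨z, mk _ hz2⟩ : L.H) * ⟨z, mk _ hz2⟩ = 1 from Subtype.ext (zz C.hy), map_one]
    · rw [← map_mul, ← map_mul]
      exact congrArg π (Subtype.ext C.xz.eq)
    · rw [← map_mul]
      exact hfp _ hodd _ hy1 hy2
  -- the image of the second generator is isolated
  set v' : L.H ⧸ N := π ⟨L.v, mk _ L.v_t⟩ with hv'
  let P := (L.S_syl.sylow).mapSurjective (f := π) (QuotientGroup.mk'_surjective N)
  have hvP : v' ∈ (P : Subgroup (L.H ⧸ N)) := ⟨⟨L.v, mk _ L.v_t⟩, L.S₀_le L.v_S₀, rfl⟩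
  have hv1 : orderOf v' = 2 := orderOf_eq_prime (by
    rw [pow_two, hv', ← map_mul, show (⟨L.v, mk _ L.v_t⟩ : L.H) * ⟨L.v, mk _ L.v_t⟩ = 1 from Subtype.ext L.v_sq,
      map_one]) (fun e => by
    rcases (hker _).1 e with h | h
    · have := L.v_fst
      rw [show L.v = 1 from h, C.fst_one] at this
      omega
    · exact L.t_ne_v h.symm)
  have hiso := Char.oddInvol_of_isolated_sylow hv1 (P := P) hvP fun q hq => by
    obtain ⟨b, rfl⟩ := QuotientGroup.mk'_surjective N q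
    rw [hv', ← map_inv, ← map_mul, ← map_mul] at hq ⊢
    obtain ⟨s, hs, e⟩ := hq
    have hsS : (s : G) ∈ L.S := hs
    have hbv : (b : G) * L.v * (b : G)⁻¹ ∈ L.S := by
      rcases heq e with h | h
      · exact (show (b : G) * L.v * (b : G)⁻¹ = s from h) ▸ hsS
      · exact (show (b : G) * L.v * (b : G)⁻¹ = s * L.t from h) ▸ mul_mem hsS (L.S₀_le L.t_S₀)
    rcases L.fus_v b.2 hbv with h | h
    · exact congrArg π (Subtype.ext h)
    · have e2 : (b * ⟨L.v, mk _ L.v_t⟩ * b⁻¹ : L.H) = ⟨L.t, mk _ (Commute.refl _)⟩ * ⟨L.v, mk _ L.v_t⟩ :=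
        Subtype.ext h
      rw [e2, map_mul, (hker ⟨L.t, mk _ (Commute.refl _)⟩).2 (Or.inr rfl), one_mul]
  have hcen := Char.zStar_central hiso hO (π ⟨g, hg⟩)
  have h1 : π (⟨g, hg⟩ * ⟨L.v, mk _ L.v_t⟩ * ⟨g, hg⟩⁻¹) = π ⟨L.v, mk _ L.v_t⟩ := by
    rw [map_mul, map_mul, map_inv, ← hv', ← hcen, mul_inv_cancel_right]
  rcases heq h1.symm with h | h
  · exact Or.inl h
  · exact Or.inr (h.trans L.v_t.eq)

end Cfsg.Agent.Spor.SuzT.Rad
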