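import Cfsg.Agent.Lib.Spor.SuzR.Local

/-!
Groups of Suzuki sporadic type: an involution of the second class centralising two commuting conjugates of
the central involution, with its symmetries.
-/

set_option autoImplicit false
set_option maxRecDepth 100000
set_option linter.unusedSectionVars false

namespace Cfsg.Agent.Spor.SuzT.Rad

open Chk Dat

/-- the centre of the part of the core centralised by the involution -/
def coreCentOK : Bool :=
  (List.range 16).all fun u => !(sixB u) || (List.range 16).all fun a =>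
    !(cmB u 4 a 0 && (List.range 16).all fun m => !(cmB u 4 m 0) || cmB a 0 m 0) || Nat.beq a 0

theorem core_cent_ok : coreCentOK = true := by decide +kernel

theorem p4_add : ∀ r < 16, ∀ a < 16, ∀ b < 16, p4 r (Nat.xor a b) = (p4 r a + p4 r b) % 2 := by decide +kernel

theorem p4_comm : ∀ a < 16, ∀ b < 16, p4 a b = p4 b a := by decide +kernel

theorem perp_spec {u r : ℕ} (h : perpR u r = true) :
    r < 16 ∧ r ≠ 0 ∧ q4 r = 0 ∧ p4 r u = 0 ∧ p4 r 4 = 0 := by
  simp only [perpR, Bool.and_eq_true, Bool.not_eq_true'] at h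
  obtain ⟨⟨⟨⟨h1, h2⟩, h3⟩, h4⟩, h5⟩ := h
  refine ⟨Nat.le_of_ble_eq_true h1, fun e => ?_, Nat.eq_of_beq_eq_true h3, Nat.eq_of_beq_eq_true h4,
    Nat.eq_of_beq_eq_true h5⟩
  rw [e, Nat.beq_refl] at h2; cases h2

theorem perp_of {u r : ℕ} (h1 : r < 16) (h2 : r ≠ 0) (h3 : q4 r = 0) (h4 : p4 r u = 0) (h5 : p4 r 4 = 0) :
    perpR u r = true := by
  simp only [perpR, Bool.and_eq_true, Bool.not_eq_true', h3, h4, h5, Nat.beq_refl, and_true]
  exact ⟨Nat.ble_eq_true_of_le h1, (Bool.not_eq_true _).mp fun e => h2 (Nat.eq_of_beq_eq_true e)⟩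

theorem xor_cancel {a b : ℕ} : Nat.xor a (Nat.xor a b) = b := by
  rw [← show ∀ p q r, Nat.xor (Nat.xor p q) r = Nat.xor p (Nat.xor q r) from Nat.xor_assoc, xor_self', zero_xor']

universe u

variable {G : Type u} [Group G] [Finite G] {z : G} {Q : Subgroup G} (C : Ctx z Q)

/-- an involution of the second class in the radical subgroup -/
structure Loc where
  /-- the involution -/
  t : G
  mem : t ∈ C.R
  sq : t * t = 1
  four : C.th t = 4

theorem Ctx.exists_loc : Nonempty (Loc C) := by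
  obtain ⟨t, htt, ht⟩ := exists_C C.F C.hy C.base
  have hz := mem_C.1 t.2
  have hp : C.pi (t : G) = sC := by rw [C.pi_eq hz]; exact ht
  exact ⟨⟨t, C.lift_inR hz htt (by rw [hp]; exact rad_sC) (by rw [hp]; exact rep_spec.2.2.2.2.2.1), htt,
    by rw [Ctx.th, hp]; exact th_sC⟩⟩

theorem Ctx.fst_A {a : G} (ha : a ∈ C.A) : C.fst a = C.co a := by
  conv_lhs => rw [← mul_one a]
  exact C.fst_mul ha (one_mem _)

theorem Ctx.fst_B {b : G} (hb : b ∈ C.B) : C.fst b = 0 := by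
  rw [← one_mul b, C.fst_mul (one_mem _) hb, Ctx.co, vec_one C.F C.hy, nv_zero]

theorem Ctx.zxzx : C.x * z * (C.x * z) = 1 := by
  rw [show C.x * z * (C.x * z) = C.x * (z * C.x) * z by group, ← C.xz.eq, ← mul_assoc C.x, C.base.sq, one_mul,
    zz C.hy]

theorem Ctx.zxz : z * (C.x * z) = C.x := by rw [← mul_assoc, ← C.xz.eq, mul_assoc, zz C.hy, mul_one]

variable {C} (L : Loc C)

/-- the first coordinate of the involution -/
noncomputable def Loc.u : ℕ := C.fst L.t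

theorem Loc.u_lt : L.u < 16 := C.fst_lt _

theorem Loc.ne_one : L.t ≠ 1 := fun e => by
  have := L.four
  rw [e, C.th_A (one_mem _)] at this
  omega

theorem Loc.six : sixB L.u = true := by
  have h := C.sq_law L.mem
  rw [L.sq, ← C.zel_zero, L.four] at h
  obtain ⟨a1, a2⟩ := C.zel_inj (by norm_num) (by norm_num) (Nat.mod_lt _ (by omega)) (Nat.mod_lt _ (by omega)) h
  change 0 = (q4 L.u + p4 L.u 4) % 2 at a1
  change 0 = (q4 4 + p4 L.u 4) % 2 at a2
  have h4 : q4 4 = 1 := by decide +kernel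
  have := q4_lt L.u
  have := p4_lt L.u 4
  simp only [sixB, Bool.and_eq_true]
  refine ⟨⟨Nat.ble_eq_true_of_le L.u_lt, ?_⟩, ?_⟩
  · rw [show q4 L.u = 1 by omega]; exact Nat.beq_refl _
  · rw [show p4 L.u 4 = 1 by omega]; exact Nat.beq_refl _

theorem Loc.u_facts : q4 L.u = 1 ∧ p4 L.u 4 = 1 ∧ q4 (Nat.xor L.u 4) = 1 := by
  have h := L.six
  simp only [sixB, Bool.and_eq_true] at h
  have h1 := Nat.eq_of_beq_eq_true h.1.2
  have h2 := Nat.eq_of_beq_eq_true h.2
  have h3 : (q4 (Nat.xor L.u 4) + q4 L.u + q4 4) % 2 = 1 := h2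
  have h4 : q4 4 = 1 := by decide +kernel
  have := q4_lt (Nat.xor L.u 4)
  exact ⟨h1, h2, by omega⟩

theorem Loc.not_D : ¬ IsConj z L.t := fun h => by
  have := (C.D_iff L.mem L.sq L.ne_one).1 h
  rw [L.four] at this
  exact absurd this (by decide +kernel)

/-- the part of the radical subgroup centralising the involution -/
def Loc.S₀ : Subgroup G := C.R ⊓ Subgroup.centralizer ({L.t} : Set G)

/-- the centraliser of both involutions -/
def Loc.S : Subgroup G := Subgroup.centralizer ({L.t} : Set G) ⊓ Subgroup.centralizer ({z} : Set G)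

theorem Loc.mem_S₀ {c : G} : c ∈ L.S₀ ↔ c ∈ C.R ∧ Commute c L.t :=
  and_congr_right fun _ => Subgroup.mem_centralizer_singleton_iff

theorem Loc.mem_S {c : G} : c ∈ L.S ↔ Commute c L.t ∧ Commute c z :=
  and_congr Subgroup.mem_centralizer_singleton_iff Subgroup.mem_centralizer_singleton_iff

theorem Loc.S₀_le : L.S₀ ≤ L.S := fun _ hc => L.mem_S.2 ⟨(L.mem_S₀.1 hc).2, (L.mem_S₀.1 hc).1.1⟩

theorem Loc.tz : Commute L.t z := L.mem.1

theorem Loc.tx : Commute L.t C.x := L.mem.2.1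

theorem Loc.comm_t {r : G} (hr : r ∈ C.R) : Commute r L.t ↔ cmB L.u 4 (C.fst r) (C.th r) = true := by
  rw [show Commute r L.t ↔ Commute L.t r from ⟨Commute.symm, Commute.symm⟩, C.comm_iff L.mem hr, L.four]
  show cz L.u 4 _ _ = 0 ∧ cx L.u 4 _ _ = 0 ↔ _
  simp only [cmB, Bool.and_eq_true]
  exact ⟨fun h => ⟨by rw [h.1]; exact Nat.beq_refl _, by rw [h.2]; exact Nat.beq_refl _⟩,
    fun h => ⟨Nat.eq_of_beq_eq_true h.1, Nat.eq_of_beq_eq_true h.2⟩⟩

theorem Loc.pi_comm {c : G} (hc : c ∈ L.S) : Commute (C.pi c) sC := by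
  obtain ⟨h1, h2⟩ := L.mem_S.1 hc
  have e := congrArg C.pi h1.eq
  rw [C.pi_mul h2 L.tz, C.pi_mul L.tz h2, C.pi_four L.mem L.four] at e
  exact e

theorem Loc.S_x {c : G} (hc : c ∈ L.S) : c * C.x * c⁻¹ = C.x ∨ c * C.x * c⁻¹ = C.x * z := by
  obtain ⟨M, hM, h1, -⟩ := cen_spec (L.pi_comm hc)
  have hz := (L.mem_S.1 hc).2
  exact vec_eq C.F (C.hy.norm c hz C.x C.base.mem) C.base.mem C.hy
    (by rw [C.vec_conj hz C.base.mem, C.base.vec]; exact smul_e0_cols hM h1)

theorem Loc.act_four {c : G} (hc : c ∈ L.S) : act (C.pi c) 4 = 4 := by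
  have h := (C.th_conj' L.mem (L.mem_S.1 hc).2 (L.S_x hc)).2
  rw [(L.mem_S.1 hc).1.eq, mul_inv_cancel_right, L.four] at h
  exact h.symm

theorem Loc.mem_S₀_of {c : G} (hc : c ∈ L.S) (hx : Commute c C.x) : c ∈ L.S₀ := by
  obtain ⟨h1, h2⟩ := L.mem_S.1 hc
  refine L.mem_S₀.2 ⟨⟨h2, hx, ?_⟩, h1⟩
  obtain ⟨M, hM, he, -, hu⟩ := cen_spec (L.pi_comm hc)
  refine radAt_of_list hM he ((hu L.u L.u_lt L.six).1 ?_)
  have h := (C.conj_fix h2 hx L.mem).2.1
  rw [h1.eq, mul_inv_cancel_right] at h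
  rw [← act_cols hM L.u_lt]
  exact h.symm

theorem Loc.card_S₀ : Nat.card L.S₀ = 256 := by
  rw [Nat.card_congr (Equiv.subtypeEquivRight fun c => show c ∈ L.S₀ ↔ c ∈ C.R ∧
      (fun a b => cmB L.u 4 a b) (C.fst c) (C.th c) = true from
    L.mem_S₀.trans (and_congr_right fun h => L.comm_t h)), C.card_codes]
  have h := List.all_eq_true.mp cent_ok L.u (List.mem_range.mpr L.u_lt)
  rw [L.six, Bool.not_true, Bool.false_or, Bool.and_eq_true, Bool.and_eq_true] at h
  rw [Nat.eq_of_beq_eq_true h.1.1]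

theorem six_count : ((List.range 256).filter fun n => sixB (n / 16) && Nat.beq (n % 16) 4).length = 6 := by
  decide +kernel

theorem six_iff : ∀ a < 16, (Nat.beq (sz a 4) 0 && Nat.beq (sx a 4) 0) = sixB a := by decide +kernel

theorem Loc.card_S : Nat.card L.S = 512 := by
  classical
  let K : Subgroup (Subgroup.centralizer ({z} : Set G)) := (Subgroup.centralizer ({sC} : Set Ga)).comap C.F.π
  have hK : Nat.card K = 128 * 96 := by
    have hi := Subgroup.index_comap_of_surjective (Subgroup.centralizer ({sC} : Set Ga)) C.F.π_surj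
    have e1 := K.card_mul_index
    rw [show K.index = (Subgroup.centralizer ({sC} : Set Ga)).index from hi, C.hy.cardC] at e1
    have e2 := (Subgroup.centralizer ({sC} : Set Ga)).card_mul_index
    rw [card_cents.2, card_Ga] at e2
    have : (Subgroup.centralizer ({sC} : Set Ga)).index = 270 := by omega
    rw [this] at e1
    omega
  let T := {r : G // r ∈ C.R ∧ (fun a b => sixB a && Nat.beq b 4) (C.fst r) (C.th r) = true}
  have hT : ∀ {r : G}, r ∈ C.R ∧ (sixB (C.fst r) && Nat.beq (C.th r) 4) = true ↔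
      Commute r z ∧ r * r = 1 ∧ C.pi r = sC := by
    intro r
    constructor
    · rintro ⟨hr, h⟩
      rw [Bool.and_eq_true] at h
      have h4 := Nat.eq_of_beq_eq_true h.2
      refine ⟨hr.1, ?_, C.pi_four hr h4⟩
      have e := six_iff _ (C.fst_lt r)
      rw [h.1, Bool.and_eq_true] at e
      rw [C.sq_law hr, h4, Nat.eq_of_beq_eq_true e.1, Nat.eq_of_beq_eq_true e.2, C.zel_zero]
    · rintro ⟨hrz, hrr, hp⟩
      have hr := C.lift_inR hrz hrr (by rw [hp]; exact rad_sC) (by rw [hp]; exact rep_spec.2.2.2.2.2.1)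
      refine ⟨hr, ?_⟩
      have h4 : C.th r = 4 := by rw [Ctx.th, hp]; exact th_sC
      have h := C.sq_law hr
      rw [hrr, ← C.zel_zero, h4] at h
      obtain ⟨a1, a2⟩ := C.zel_inj (by norm_num) (by norm_num) (Nat.mod_lt _ (by omega)) (Nat.mod_lt _ (by omega)) h
      rw [← six_iff _ (C.fst_lt r), h4]
      simp only [sz, sx] at a1 a2 ⊢
      rw [← a1, ← a2]
      rfl
  let f : K → T := fun c => ⟨((c : Subgroup.centralizer ({z} : Set G)) : G) * L.t * ((c : Subgroup.centralizer ({z} : Set G)) : G)⁻¹, hT.2 (by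
    have hc := mem_C.1 (c : Subgroup.centralizer ({z} : Set G)).2
    refine ⟨(hc.mul_left L.tz).mul_left hc.inv_left, by rw [conj_mul, L.sq]; group, ?_⟩
    rw [C.pi_mul (hc.mul_left L.tz) hc.inv_left, C.pi_mul hc L.tz, C.pi_inv hc, C.pi_four L.mem L.four,
      ← C.pi_cC hc]
    rw [show C.F.π (cC hc) * sC = sC * C.F.π (cC hc) from Subgroup.mem_centralizer_singleton_iff.1 c.2,
      mul_inv_cancel_right])⟩
  have hsurj : Function.Surjective f := by
    rintro ⟨r, hr⟩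
    obtain ⟨hrz, hrr, hp⟩ := hT.1 hr
    obtain ⟨c, hc, e⟩ := C.conj_classC L.tz L.sq (C.pi_four L.mem L.four) hrz hrr (by rw [hp])
    refine ⟨⟨cC hc, Subgroup.mem_centralizer_singleton_iff.2 ?_⟩, Subtype.ext e⟩
    show C.F.π (cC hc) * sC = sC * C.F.π (cC hc)
    have e' := congrArg C.pi (mul_inv_eq_iff_eq_mul.1 e)
    rw [C.pi_mul hc L.tz, C.pi_mul hrz hc, hp, C.pi_four L.mem L.four] at e'
    rwa [C.pi_cC hc]
  have hfib : ∀ y : T, Nat.card {c : K // f c = y} = Nat.card L.S := by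
    intro y
    obtain ⟨c0, hc0⟩ := hsurj y
    refine Nat.card_congr ?_
    have hz0 := mem_C.1 (c0 : Subgroup.centralizer ({z} : Set G)).2
    have memK : ∀ s : L.S, cC (L.mem_S.1 s.2).2 ∈ K := fun s =>
      Subgroup.mem_centralizer_singleton_iff.2 (by rw [C.pi_cC]; exact (L.pi_comm s.2).eq)
    refine
      { toFun := fun c => ⟨((c0 : Subgroup.centralizer ({z} : Set G)) : G)⁻¹ *
            ((c.1 : Subgroup.centralizer ({z} : Set G)) : G), L.mem_S.2 ⟨?_, hz0.inv_left.mul_left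
              (mem_C.1 (c.1 : Subgroup.centralizer ({z} : Set G)).2)⟩⟩
        invFun := fun s => ⟨c0 * ⟨_, memK s⟩, ?_⟩
        left_inv := fun c => Subtype.ext (Subtype.ext (Subtype.ext (mul_inv_cancel_left _ _)))
        right_inv := fun s => Subtype.ext (inv_mul_cancel_left _ _) }
    · have e := congrArg Subtype.val (c.2.trans hc0.symm)
      show _ * L.t = L.t * _
      rw [mul_assoc, mul_inv_eq_iff_eq_mul.1 e]
      show _ * (_ * L.t * _⁻¹ * _) = _
      group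
    · rw [← hc0]
      refine Subtype.ext ?_
      show ((c0 : Subgroup.centralizer ({z} : Set G)) : G) * s * L.t *
        (((c0 : Subgroup.centralizer ({z} : Set G)) : G) * s)⁻¹ = _ * L.t * _⁻¹
      rw [mul_assoc _ (s : G) L.t, (L.mem_S.1 s.2).1.eq]
      group
  have e := Nat.card_congr (Equiv.sigmaFiberEquiv f)
  haveI : Fintype T := Fintype.ofFinite T
  rw [Nat.card_sigma, Finset.sum_congr rfl (fun y _ => hfib y), Finset.sum_const, Finset.card_univ, smul_eq_mul,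
    ← Nat.card_eq_fintype_card, show Nat.card T = 4 * 6 from (C.card_codes fun a b => sixB a && Nat.beq b 4).trans (by rw [six_count]), hK] at e
  omega

theorem Loc.exists_swap : ∃ s ∈ L.S, s * C.x * s⁻¹ = C.x * z := by
  by_contra hno
  push Not at hno
  have hle : L.S ≤ L.S₀ := fun c hc => L.mem_S₀_of hc
    (mul_inv_eq_iff_eq_mul.1 ((L.S_x hc).resolve_right (hno c hc)))
  have h := Subgroup.card_le_of_le hle
  rw [L.card_S, L.card_S₀] at h
  omega

theorem Loc.swap_act {s : G} (hs : s ∈ L.S) (hx : s * C.x * s⁻¹ = C.x * z) :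
    act (C.pi s) L.u = Nat.xor L.u 4 ∧
      ∀ r, perpR L.u r = true → perpR L.u (act (C.pi s) r) = true ∧ act (C.pi s) r ≠ r := by
  obtain ⟨h1, h2⟩ := L.mem_S.1 hs
  have hf := C.pi_fix h2 (Or.inr hx)
  have h4 := L.act_four hs
  have h := (C.conj_swap h2 hx L.mem).2.1
  rw [h1.eq, mul_inv_cancel_right, L.four, h4] at h
  have hu : act (C.pi s) L.u = Nat.xor L.u 4 := by
    have h' := congrArg (fun a => Nat.xor a 4) h
    show _ = _
    rw [show Nat.xor (Nat.xor (act (C.pi s) (C.fst L.t)) 4) 4 = act (C.pi s) (C.fst L.t) by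
      rw [show ∀ p q r, Nat.xor (Nat.xor p q) r = Nat.xor p (Nat.xor q r) from Nat.xor_assoc, xor_self',
        xor_zero']] at h'
    exact h'.symm
  refine ⟨hu, fun r hr => ?_⟩
  obtain ⟨hr1, hr2, hr3, hr4, hr5⟩ := perp_spec hr
  refine ⟨perp_of (act_lt _ _) (fun e => hr2 ?_) (by rw [act_q4 hf hr1, hr3]) ?_ ?_, ?_⟩
  · have e' := congrArg (act (C.pi s)⁻¹) e
    rw [act_zero, ← act_mul (inv_smul_eq_iff.2 hf.symm) hf hr1, inv_mul_cancel, act_one hr1] at e'
    exact e'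
  · have hu4 : act (C.pi s) (Nat.xor L.u 4) = L.u := by
      rw [act_xor hf L.u_lt (by norm_num), hu, h4,
        show ∀ p q r, Nat.xor (Nat.xor p q) r = Nat.xor p (Nat.xor q r) from Nat.xor_assoc, xor_self', xor_zero']
    calc p4 (act (C.pi s) r) L.u = p4 (act (C.pi s) r) (act (C.pi s) (Nat.xor L.u 4)) := by rw [hu4]
      _ = p4 r (Nat.xor L.u 4) := act_p4 hf hr1 (xor_lt16 L.u_lt (by norm_num))
      _ = 0 := by rw [p4_add r hr1 _ L.u_lt 4 (by norm_num), hr4, hr5]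
  · calc p4 (act (C.pi s) r) 4 = p4 (act (C.pi s) r) (act (C.pi s) 4) := by rw [h4]
      _ = 0 := by rw [act_p4 hf hr1 (by norm_num), hr5]
  · obtain ⟨M, hM, -, -, hM'⟩ := cen_spec (L.pi_comm hs)
    rw [act_cols hM hr1]
    refine (hM' L.u L.u_lt L.six).2 ?_ r hr1 hr
    rw [← act_cols hM L.u_lt, hu]

theorem Loc.core_center {a : G} (ha : a ∈ C.A) (ht : Commute a L.t)
    (hc : ∀ q ∈ C.A, Commute q L.t → Commute a q) : C.co a = 0 := by
  have h := List.all_eq_true.mp core_cent_ok L.u (List.mem_range.mpr L.u_lt)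
  rw [L.six, Bool.not_true, Bool.false_or] at h
  have h' := List.all_eq_true.mp h (C.co a) (List.mem_range.mpr (C.co_lt a))
  have e1 : cmB L.u 4 (C.co a) 0 = true := by
    have := (L.comm_t (C.A_le ha)).1 ht
    rwa [C.fst_A ha, C.th_A ha] at this
  have e2 : ((List.range 16).all fun m => !(cmB L.u 4 m 0) || cmB (C.co a) 0 m 0) = true := by
    rw [List.all_eq_true]
    intro m hm
    rw [List.mem_range] at hm
    obtain ⟨q1, q2⟩ := C.ra_spec hm
    by_cases hcm : cmB L.u 4 m 0 = true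
    · have hq : Commute (C.ra m) L.t := (L.comm_t (C.A_le q1)).2 (by rwa [C.fst_A q1, C.th_A q1, q2])
      have := (C.comm_iff (C.A_le ha) (C.A_le q1)).1 (hc _ q1 hq)
      rw [C.fst_A ha, C.th_A ha, C.fst_A q1, C.th_A q1, q2] at this
      simp only [cmB, this.1, this.2, Nat.beq_refl, Bool.and_self, Bool.or_true]
    · rw [(Bool.not_eq_true _).mp hcm]; rfl
  rw [e1, e2, Bool.and_self, Bool.not_true, Bool.false_or] at h'
  exact Nat.eq_of_beq_eq_true h'

theorem Loc.exists_rot : ∃ h : G, h ^ 3 = 1 ∧ Commute h L.t ∧ h * z * h⁻¹ = C.x ∧ h * C.x * h⁻¹ = C.x * z := by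
  obtain ⟨σ, hσ, hσx⟩ := L.exists_swap
  obtain ⟨hσt, hσz⟩ := L.mem_S.1 hσ
  set t' := C.w * L.t * C.w⁻¹ with ht'
  have hR : t' ∈ C.R := C.w_R L.mem
  have htt : t' * t' = 1 := by rw [ht', conj_mul, L.sq]; group
  have hconj : IsConj L.t t' := isConj_iff.2 ⟨C.w, rfl⟩
  have hD : ¬ IsConj z t' := fun e => L.not_D (e.trans hconj.symm)
  have ht1 : t' ≠ 1 := fun e => L.ne_one (conj_eq_one_iff.1 e)
  have hth : C.th t' ≠ 0 := fun e => hD ((C.D_iff hR htt ht1).2 (by rw [e]; rfl))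
  obtain ⟨c, hc, hce⟩ := C.conj_classC L.tz L.sq (C.pi_four L.mem L.four) hR.1 htt
    (C.classC_of_not hR.1 htt ht1 hD)
  set k := c⁻¹ * C.w with hk
  have hkt : Commute k L.t := by
    refine mul_inv_eq_iff_eq_mul.1 ?_
    calc k * L.t * k⁻¹ = c⁻¹ * t' * c := by rw [hk, ht']; group
      _ = L.t := by rw [← hce]; group
  have hkx : k * C.x * k⁻¹ = z := by
    calc k * C.x * k⁻¹ = c⁻¹ * (C.w * C.x * C.w⁻¹) * c := by rw [hk]; group
      _ = z := by rw [C.wx, mul_assoc, ← hc.eq]; group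
  set y := k * z * k⁻¹ with hy
  have hye : y = c⁻¹ * C.x * c := by
    calc y = c⁻¹ * (C.w * z * C.w⁻¹) * c := by rw [hy, hk]; group
      _ = _ := by rw [C.wz]
  have hyQ : y ∈ Q := by
    rw [hye]
    have := C.hy.norm c⁻¹ hc.inv_left C.x C.base.mem
    rwa [inv_inv] at this
  have hyt : Commute y L.t := (hkt.mul_left L.tz.symm).mul_left hkt.inv_left
  have hyA := C.core_mem L.mem (by rw [L.four]; norm_num) hyQ hyt
  have hy0 : C.co y = 0 := L.core_center hyA hyt fun q hq hqt => by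
    have h1 : Commute (c * q * c⁻¹) t' := by rw [← hce]; exact (Commute.conj_iff c).2 hqt
    have h2 := (C.mem_A.1 (C.core_mem hR hth (C.hy.norm c hc q (C.mem_A.1 hq).1) h1)).2
    have h3 := (Commute.conj_iff c⁻¹).2 h2.symm
    rwa [inv_inv, ← hye, show c⁻¹ * (c * q * c⁻¹) * c = q by group] at h3
  have hy1 : y ≠ 1 := fun e => z_ne C.hy (conj_eq_one_iff.1 e)
  have hyz : y ≠ z := fun e => C.base.nez (by
    calc C.x = c * y * c⁻¹ := by rw [hye]; group
      _ = z := by rw [e, hc.eq, mul_inv_cancel_right])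
  obtain ⟨i, j, hi, hj, hyij⟩ := (C.co_zero hyA).1 hy0
  have hy2 : y = C.x ∨ y = C.x * z := by
    interval_cases i <;> interval_cases j <;> simp only [Ctx.zel, pow_zero, pow_one, one_mul, mul_one] at hyij
    · exact absurd hyij hy1
    · exact Or.inl hyij
    · exact absurd hyij hyz
    · exact Or.inr (hyij.trans C.xz.eq.symm)
  obtain ⟨m, hmt, hmx, hmz⟩ : ∃ m, Commute m L.t ∧ m * C.x * m⁻¹ = z ∧ m * z * m⁻¹ = C.x * z := by
    rcases hy2 with e | e
    · refine ⟨σ * k, hσt.mul_left hkt, ?_, ?_⟩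
      · rw [show σ * k * C.x * (σ * k)⁻¹ = σ * (k * C.x * k⁻¹) * σ⁻¹ by group, hkx, hσz.eq, mul_inv_cancel_right]
      · rw [show σ * k * z * (σ * k)⁻¹ = σ * (k * z * k⁻¹) * σ⁻¹ by group, ← hy, e, hσx]
    · exact ⟨k, hkt, hkx, by rw [← hy, e]⟩
  have hmxz : m * (C.x * z) * m⁻¹ = C.x := by
    rw [show m * (C.x * z) * m⁻¹ = m * C.x * m⁻¹ * (m * z * m⁻¹) by group, hmx, hmz, C.zxz]
  set n := m * m with hn
  have hnz : n * z * n⁻¹ = C.x := by
    rw [show n * z * n⁻¹ = m * (m * z * m⁻¹) * m⁻¹ by rw [hn]; group, hmz, hmxz]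
  have hnx : n * C.x * n⁻¹ = C.x * z := by
    rw [show n * C.x * n⁻¹ = m * (m * C.x * m⁻¹) * m⁻¹ by rw [hn]; group, hmx, hmz]
  have hnxz : n * (C.x * z) * n⁻¹ = z := by
    rw [show n * (C.x * z) * n⁻¹ = n * C.x * n⁻¹ * (n * z * n⁻¹) by group, hnz, hnx, C.xz.eq, mul_assoc,
      C.base.sq, mul_one]
  have h3z : n ^ 3 * z * (n ^ 3)⁻¹ = z := by
    rw [show n ^ 3 * z * (n ^ 3)⁻¹ = n * (n * (n * z * n⁻¹) * n⁻¹) * n⁻¹ by
      rw [pow_succ, pow_two]; group, hnz, hnx, hnxz]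
  have h3x : n ^ 3 * C.x * (n ^ 3)⁻¹ = C.x := by
    rw [show n ^ 3 * C.x * (n ^ 3)⁻¹ = n * (n * (n * C.x * n⁻¹) * n⁻¹) * n⁻¹ by
      rw [pow_succ, pow_two]; group, hnx, hnxz, hnz]
  have h3 : n ^ 3 ∈ L.S₀ := L.mem_S₀_of
    (L.mem_S.2 ⟨(hmt.mul_left hmt).pow_left 3, mul_inv_eq_iff_eq_mul.1 h3z⟩) (mul_inv_eq_iff_eq_mul.1 h3x)
  have h256 : (n ^ 3) ^ 256 = 1 := by
    have := pow_card_eq_one' (x := (⟨n ^ 3, h3⟩ : L.S₀))
    rw [L.card_S₀] at this
    exact congrArg Subtype.val this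
  have hz' : Commute ((n ^ 3) ^ 85) z := Commute.pow_left (mul_inv_eq_iff_eq_mul.1 h3z) 85
  have hx' : Commute ((n ^ 3) ^ 85) C.x := Commute.pow_left (mul_inv_eq_iff_eq_mul.1 h3x) 85
  have e256 : n ^ 256 = n * (n ^ 3) ^ 85 := by rw [← pow_mul, ← pow_succ']
  refine ⟨n ^ 256, by rw [← pow_mul, show 256 * 3 = 3 * 256 from rfl, pow_mul, h256],
    (hmt.mul_left hmt).pow_left 256, ?_, ?_⟩
  · rw [e256, mul_assoc n, hz'.eq, ← mul_assoc, mul_inv_rev, mul_assoc, mul_inv_cancel_left]; exact hnz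
  · rw [e256, mul_assoc n, hx'.eq, ← mul_assoc, mul_inv_rev, mul_assoc, mul_inv_cancel_left]; exact hnx

end Cfsg.Agent.Spor.SuzT.Rad
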