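import Cfsg.Agent.Lib.Spor.SuzR.Act

/-!
Groups of Suzuki sporadic type: involutions and conjugation around the radical subgroup.
-/

set_option autoImplicit false
set_option maxRecDepth 100000
set_option linter.unusedSectionVars false

namespace Cfsg.Agent.Spor.SuzT.Rad

open Chk Dat

theorem zero_or_rot {g : Ga} (h : IsConj sA g) {L : List ℕ} (hL : IsCols (g : OG) L) :
    (clsA.any fun e => e.1 == L) = true := by
  obtain ⟨f, hf, hf'⟩ := (cls_spec clsA_ok rep_spec.1).2 g h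
  simp only [List.any_eq_true, beq_iff_eq]
  exact ⟨f, hf, hf'.unique hL⟩

theorem th_sC : th sC = 4 := by
  rw [th_cols rep_spec.2.1]
  have h := six_ok
  simp only [sixOK, Bool.and_eq_true] at h
  exact Nat.eq_of_beq_eq_true h.1.1

theorem rad_eq {g h : Ga} (hg : RadAt g) (hh : RadAt h) (e : th g = th h) : g = h := by
  have h1 : th (g * h) = 0 := by rw [th_mul hg hh, e]; exact Nat.xor_self _
  have h2 := (rad_spec (rad_mul hg hh)).2.1.1 h1
  have h3 : th (h * h) = 0 := by rw [th_mul hh hh]; exact Nat.xor_self _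
  exact mul_right_cancel (h2.trans ((rad_spec (rad_mul hh hh)).2.1.1 h3).symm)

universe u

variable {G : Type u} [Group G] [Finite G] {z : G} {Q : Subgroup G} (C : Ctx z Q)

theorem Ctx.pi_cC {c : G} (hc : Commute c z) : C.F.π (cC hc) = C.pi c := (C.pi_eq hc).symm

theorem Ctx.core_mem {r q : G} (hr : r ∈ C.R) (hth : C.th r ≠ 0) (hq : q ∈ Q) (hc : Commute q r) : q ∈ C.A := by
  refine C.mem_A.2 ⟨hq, ((C.F.comm_iff C.x C.base.mem q hq).2 ?_).symm⟩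
  rw [C.base.vec]
  by_contra hH
  refine (rad_spec hr.2.2).2.2.2.2 _ hH (fun e => hth (by rw [Ctx.th, e, th_one])) ?_
  rw [← C.vec_conj hr.1 hq, ← hc.eq, mul_inv_cancel_right, ZModModule.add_self, nv_zero]

theorem Ctx.lift_inR {c : G} (hc : Commute c z) (hcc : c * c = 1) (hr : RadAt (C.pi c)) (h1 : C.pi c ≠ 1) :
    c ∈ C.R := by
  obtain ⟨b, hb, e⟩ := C.exists_B hr
  have hbz := C.B_z hb
  have hq : c * b⁻¹ ∈ Q := C.pi_mem (hc.mul_left hbz.inv_left)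
    (by rw [C.pi_mul hc hbz.inv_left, C.pi_inv hbz, e, mul_inv_cancel])
  obtain ⟨q, hqd⟩ : ∃ q, q = c * b⁻¹ := ⟨_, rfl⟩
  rw [← hqd] at hq
  have hce : c = q * b := by rw [hqd]; group
  subst hce
  have hbq : b * q * b⁻¹ ∈ Q := C.hy.norm b hbz q hq
  have hmid : q * (b * q * b⁻¹) = C.zel 0 (q4 (C.th b)) := by
    rw [← C.zel_inv 0 (q4 (C.th b)), ← C.sq_B hb, eq_inv_iff_mul_eq_one, ← hcc]
    group
  have hv : nv (C.pi (q * b) • C.F.vec q + C.F.vec q) = 0 := by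
    rw [← e, ← C.vec_conj hbz hq, add_comm, ← C.F.vec_mul q hq _ hbq, hmid]
    exact C.co_zel (by norm_num) (q4_lt _)
  have hH : Hyp0 (C.F.vec q) := by
    by_contra hH
    exact (rad_spec hr).2.2.2.2 _ hH h1 hv
  have hqA : q ∈ C.A := C.mem_A.2 ⟨hq, ((C.F.comm_iff C.x C.base.mem q hq).2 (by rw [C.base.vec]; exact hH)).symm⟩
  exact mul_mem (C.A_le hqA) (C.B_le hb)

include C in
theorem Ctx.conj_of_core {c : G} (hc : c ∈ Q) (hcc : c * c = 1) (h1 : c ≠ 1) : IsConj z c := by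
  by_cases hcz : c = z
  · rw [hcz]
  · exact core_conj C.F C.hy hc hcc h1 hcz

theorem Ctx.pi_sq {c : G} (hc : Commute c z) (hcc : c * c = 1) : C.pi c * C.pi c = 1 := by
  rw [← C.pi_mul hc hc, hcc, C.pi_one]

theorem Ctx.not_D {c : G} (hc : Commute c z) (hcc : c * c = 1) (h : IsConj (C.pi c) sC) : ¬ IsConj z c := by
  obtain ⟨g, hg⟩ := isConj_iff.1 h
  obtain ⟨d, rfl⟩ := C.F.π_surj g
  intro hz
  refine not_conj_z C.F C.hy C.base (t := d * cC hc * d⁻¹) ?_ (by rw [map_mul, map_mul, map_inv, C.pi_cC hc, hg])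
    (hz.trans (isConj_iff.2 ⟨(d : G), rfl⟩))
  show (d : G) * c * (d : G)⁻¹ * ((d : G) * c * (d : G)⁻¹) = 1
  rw [conj_mul, hcc]; group

theorem Ctx.classC_of_not {c : G} (hc : Commute c z) (hcc : c * c = 1) (h1 : c ≠ 1) (hD : ¬ IsConj z c) :
    IsConj (C.pi c) sC := by
  have hπ : C.pi c ≠ 1 := fun e => hD (C.conj_of_core (C.pi_mem hc e) hcc h1)
  rcases invol_class (C.pi_sq hc hcc) hπ with hA | hC
  · exact absurd (conj_of_classA C.F C.hy C.base (t := cC hc) hcc (by rw [C.pi_cC hc]; exact hπ)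
      (by rw [C.pi_cC hc]; exact hA)) hD
  · exact hC

theorem Ctx.conj_classC {t s : G} (ht : Commute t z) (htt : t * t = 1) (hpt : C.pi t = sC) (hs : Commute s z)
    (hss : s * s = 1) (hps : IsConj (C.pi s) sC) : ∃ c : G, Commute c z ∧ c * t * c⁻¹ = s := by
  obtain ⟨g, hg⟩ := isConj_iff.1 hps
  obtain ⟨d, rfl⟩ := C.F.π_surj g
  have h2 : ((d * cC hs * d⁻¹ : Subgroup.centralizer ({z} : Set G)) : G) * (d * cC hs * d⁻¹ :
      Subgroup.centralizer ({z} : Set G)) = 1 := by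
    show (d : G) * s * (d : G)⁻¹ * ((d : G) * s * (d : G)⁻¹) = 1
    rw [conj_mul, hss]; group
  have hπ : C.F.π (d * cC hs * d⁻¹) = sC := by rw [map_mul, map_mul, map_inv, C.pi_cC hs, hg]
  have hπt : C.F.π (cC ht) = sC := by rw [C.pi_cC ht, hpt]
  obtain ⟨e, he⟩ := lift_conj C.F C.hy (t := cC ht) htt (Or.inr hπt) h2 (hπ.trans hπt.symm)
  have hd := (mem_C.1 d.2)
  rcases he with he | he
  · refine ⟨(d : G)⁻¹ * e, hd.inv_left.mul_left (mem_C.1 e.2), ?_⟩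
    calc (d : G)⁻¹ * e * t * ((d : G)⁻¹ * e)⁻¹ = (d : G)⁻¹ * ((e : G) * t * (e : G)⁻¹) * d := by group
      _ = (d : G)⁻¹ * ((d : G) * s * (d : G)⁻¹) * d := by
        rw [show (e : G) * t * (e : G)⁻¹ = (d : G) * s * (d : G)⁻¹ from he]
      _ = s := by group
  · obtain ⟨-, k, hk, hk'⟩ := pair C.F C.hy h2 hπ
    have hk'' : k * ((d : G) * s * (d : G)⁻¹) * k⁻¹ = (d : G) * s * (d : G)⁻¹ * z := hk'
    refine ⟨(d : G)⁻¹ * k⁻¹ * e, (hd.inv_left.mul_left (Qz C.hy hk).inv_left).mul_left (mem_C.1 e.2), ?_⟩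
    calc (d : G)⁻¹ * k⁻¹ * e * t * ((d : G)⁻¹ * k⁻¹ * e)⁻¹ =
          (d : G)⁻¹ * k⁻¹ * ((e : G) * t * (e : G)⁻¹) * k * d := by group
      _ = (d : G)⁻¹ * k⁻¹ * ((d : G) * s * (d : G)⁻¹ * z) * k * d := by
        rw [show (e : G) * t * (e : G)⁻¹ = (d : G) * s * (d : G)⁻¹ * z from he]
      _ = s := by rw [← hk'']; group

theorem Ctx.isConj_pi {r : G} (hr : r ∈ C.R) : IsConj sA (C.pi r) ↔ C.th r ≠ 0 ∧ q4 (C.th r) = 0 :=
  (rad_spec hr.2.2).2.2.1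

theorem Ctx.D_iff {r : G} (hr : r ∈ C.R) (hrr : r * r = 1) (h1 : r ≠ 1) : IsConj z r ↔ q4 (C.th r) = 0 := by
  by_cases h0 : C.th r = 0
  · rw [h0]
    refine ⟨fun _ => rfl, fun _ => C.conj_of_core (C.pi_mem hr.1 ((rad_spec hr.2.2).2.1.1 h0)) hrr h1⟩
  · have hπ : C.pi r ≠ 1 := fun e => h0 (by rw [Ctx.th, e, th_one])
    constructor
    · intro hz
      rcases invol_class (C.pi_sq hr.1 hrr) hπ with hA | hC
      · exact ((C.isConj_pi hr).1 hA.symm).2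
      · exact absurd hz (C.not_D hr.1 hrr hC)
    · intro hq
      by_contra hD
      exact not_conj (((C.isConj_pi hr).2 ⟨h0, hq⟩).trans (C.classC_of_not hr.1 hrr h1 hD))

theorem Ctx.pi_four {r : G} (hr : r ∈ C.R) (h : C.th r = 4) : C.pi r = sC :=
  rad_eq hr.2.2 rad_sC (h.trans th_sC.symm)

theorem Ctx.pi_fix {c : G} (hz : Commute c z) (hx : c * C.x * c⁻¹ = C.x ∨ c * C.x * c⁻¹ = C.x * z) :
    C.pi c • e0 = e0 := by
  rw [← C.base.vec, ← C.vec_conj hz C.base.mem]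
  rcases hx with e | e <;> rw [e]
  exact vec_mul_z C.F C.hy C.base.mem

theorem Ctx.conj_A {c a : G} (hz : Commute c z) (hx : c * C.x * c⁻¹ = C.x ∨ c * C.x * c⁻¹ = C.x * z)
    (ha : a ∈ C.A) : c * a * c⁻¹ ∈ C.A ∧ C.co (c * a * c⁻¹) = act (C.pi c) (C.co a) := by
  have hQ := (C.mem_A.1 ha).1
  have hf := C.pi_fix hz hx
  have hv := C.vec_conj hz hQ
  refine ⟨C.mem_A.2 ⟨C.hy.norm c hz a hQ, ?_⟩, ?_⟩
  · refine ((C.F.comm_iff C.x C.base.mem _ (C.hy.norm c hz a hQ)).2 ?_).symm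
    rw [hv, C.base.vec]
    exact hyp0_smul hf (C.hyp_A ha)
  · rw [Ctx.co, hv, act_spec hf (C.hyp_A ha)]; rfl

theorem Ctx.th_conj' {c r : G} (hr : r ∈ C.R) (hz : Commute c z)
    (hx : c * C.x * c⁻¹ = C.x ∨ c * C.x * c⁻¹ = C.x * z) :
    RadAt (C.pi (c * r * c⁻¹)) ∧ C.th (c * r * c⁻¹) = act (C.pi c) (C.th r) := by
  have hf := C.pi_fix hz hx
  have e : C.pi (c * r * c⁻¹) = C.pi c * C.pi r * (C.pi c)⁻¹ := by
    rw [C.pi_mul (hz.mul_left hr.1) hz.inv_left, C.pi_mul hz hr.1, C.pi_inv hz]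
  rw [Ctx.th, e]
  exact ⟨rad_conj hr.2.2 hf, Rad.th_conj hr.2.2 hf⟩

theorem Ctx.conj_fix {c r : G} (hz : Commute c z) (hx : Commute c C.x) (hr : r ∈ C.R) :
    c * r * c⁻¹ ∈ C.R ∧ C.fst (c * r * c⁻¹) = act (C.pi c) (C.fst r) ∧
      C.th (c * r * c⁻¹) = act (C.pi c) (C.th r) := by
  have hx' : c * C.x * c⁻¹ = C.x := by rw [hx.eq, mul_inv_cancel_right]
  obtain ⟨a, ha, b, hb, rfl, e1, -⟩ := C.coords hr
  obtain ⟨h1, h2⟩ := C.conj_A hz (Or.inl hx') ha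
  have h3 : c * b * c⁻¹ ∈ C.B := C.mem_B_iff.2 ⟨(C.B_inQ hb).conj' hx, (hz.mul_left (C.B_z hb)).mul_left hz.inv_left⟩
  have e : c * (a * b) * c⁻¹ = c * a * c⁻¹ * (c * b * c⁻¹) := by group
  refine ⟨by rw [e]; exact mul_mem (C.A_le h1) (C.B_le h3), ?_, (C.th_conj' hr hz (Or.inl hx')).2⟩
  rw [e, C.fst_mul h1 h3, h2, e1]

theorem Ctx.conj_R {c r : G} (hz : Commute c z) (hx : c * C.x * c⁻¹ = C.x * z) (hr : r ∈ C.R) :
    c * r * c⁻¹ ∈ C.R := by
  have h := C.th_conj' hr hz (Or.inr hx)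
  have hcz : Commute (c * r * c⁻¹) z := (hz.mul_left hr.1).mul_left hz.inv_left
  have h2 : Commute (c * r * c⁻¹) (c * C.x * c⁻¹) := (Commute.conj_iff c).2 hr.2.1
  rw [hx] at h2
  refine ⟨hcz, ?_, h.1⟩
  have h3 := h2.mul_right hcz
  rwa [mul_assoc C.x, zz C.hy, mul_one] at h3

theorem Ctx.quo_R {b q : G} (hb : b ∈ C.B) (hq : q ∈ Q) (hqx : q * C.x * q⁻¹ = C.x * z) :
    C.fst (q * b * q⁻¹) = C.th b ∧ C.th (q * b * q⁻¹) = C.th b := by
  have hqz := Qz C.hy hq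
  have hin : ∀ {c}, c ∈ C.R → q * c * q⁻¹ ∈ C.R := fun hc => C.conj_R hqz hqx hc
  have hth : ∀ {c}, c ∈ C.R → C.th (q * c * q⁻¹) = C.th c := fun {c} hc => by
    rw [(C.th_conj' hc hqz (Or.inr hqx)).2, C.pi_core hq, act_one (C.th_lt' c)]
  refine ⟨?_, hth (C.B_le hb)⟩
  have hzel : ∀ {i j}, i < 2 → j < 2 → C.fst (q * C.zel i j * q⁻¹) = 0 := fun {i j} hi hj => by
    have h1 := (C.zel_mem i j).1
    obtain ⟨h2, h3⟩ := C.conj_A hqz (Or.inr hqx) h1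
    rw [← mul_one (q * C.zel i j * q⁻¹), C.fst_mul h2 (one_mem _), h3, C.co_zel hi hj, act_zero]
  let g : ℕ → ℕ := fun v => C.fst (q * C.rb v * q⁻¹)
  have hg : ∀ {b}, b ∈ C.B → C.fst (q * b * q⁻¹) = g (C.th b) := fun {b} hb => by
    obtain ⟨h1, h2⟩ := C.rb_spec (C.th_lt' b)
    obtain ⟨i, j, hi, hj, e⟩ := C.th_inj h1 hb h2
    conv_lhs => rw [e, show q * (C.rb (C.th b) * C.zel i j) * q⁻¹ =
      q * C.rb (C.th b) * q⁻¹ * (q * C.zel i j * q⁻¹) by group,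
      C.fst_hom (hin (C.B_le h1)) (hin (C.B_le (C.zel_mem i j).2)), hzel hi hj, xor_zero']
  have hadd : ∀ u v, u < 16 → v < 16 → g (Nat.xor u v) = Nat.xor (g u) (g v) := by
    intro u v hu hv
    obtain ⟨h1, h2⟩ := C.rb_spec hu
    obtain ⟨h3, h4⟩ := C.rb_spec hv
    have e : C.th (C.rb u * C.rb v) = Nat.xor u v := by rw [C.th_mul (C.B_le h1) (C.B_le h3), h2, h4]
    show g _ = Nat.xor (C.fst (q * C.rb u * q⁻¹)) (C.fst (q * C.rb v * q⁻¹))
    rw [← e, ← hg (mul_mem h1 h3), ← C.fst_hom (hin (C.B_le h1)) (hin (C.B_le h3))]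
    congr 1; group
  have hsing : ∀ v < 16, v ≠ 0 → q4 v = 0 → g v = v := by
    intro v hv hv0 hq0
    obtain ⟨h1, h2⟩ := C.rb_spec hv
    have hbb : C.rb v * C.rb v = 1 := by rw [C.sq_B h1, h2, hq0, C.zel_zero]
    have hR := hin (C.B_le h1)
    have hsq := C.sq_law hR
    rw [hth (C.B_le h1), h2, show q * C.rb v * q⁻¹ * (q * C.rb v * q⁻¹) = q * (C.rb v * C.rb v) * q⁻¹ by group,
      hbb, mul_one, mul_inv_cancel, ← C.zel_zero] at hsq
    obtain ⟨a1, a2⟩ := C.zel_inj (Nat.mod_lt _ (by omega)) (Nat.mod_lt _ (by omega)) (by omega) (by omega) hsq.symm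
    change (q4 (g v) + p4 (g v) v) % 2 = 0 at a1
    change (q4 v + p4 (g v) v) % 2 = 0 at a2
    have := q4_lt (g v)
    have := p4_lt (g v) v
    refine sing_pair (g v) (C.fst_lt _) (fun e0' => ?_) v hv hv0 (by omega) hq0 (by omega)
    have hbz := C.B_z h1
    have hπ : C.pi (C.rb v) ≠ 1 := fun e => hv0 (by rw [← h2, Ctx.th, e, th_one])
    have hH : ¬ Hyp0 (C.F.vec q) := fun hH => by
      have hc := (C.F.comm_iff C.x C.base.mem q hq).2 (by rw [C.base.vec]; exact hH)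
      rw [← hc.eq, mul_inv_cancel_right] at hqx
      exact z_ne C.hy (mul_eq_left.1 hqx.symm)
    obtain ⟨a', ha', b', hb', e1, e2, e3⟩ := C.coords hR
    rw [show C.fst (q * C.rb v * q⁻¹) = 0 from e0'] at e2
    obtain ⟨i, j, hi, hj, ea⟩ := (C.co_zero ha').1 e2.symm
    obtain ⟨k, l, hk, hl, eb⟩ := C.th_inj h1 hb' (by rw [← e3, hth (C.B_le h1)])
    have hd : q * (C.rb v * q⁻¹ * (C.rb v)⁻¹) = C.zel ((i + k) % 2) ((j + l) % 2) := by
      rw [show q * (C.rb v * q⁻¹ * (C.rb v)⁻¹) = q * C.rb v * q⁻¹ * (C.rb v)⁻¹ by group, e1, ea, eb,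
        ← C.zel_mul i j k l, show C.zel i j * (C.rb v * C.zel k l) * (C.rb v)⁻¹ =
          C.zel i j * (C.rb v * C.zel k l * (C.rb v)⁻¹) by group,
        (C.zel_comm k l hbz (C.B_x h1)).eq, mul_inv_cancel_right]
    refine (rad_spec (C.B_le h1).2.2).2.2.2.2 _ hH hπ ?_
    rw [← vec_inv C.F C.hy hq, ← C.vec_conj hbz (inv_mem hq), vec_inv C.F C.hy hq, add_comm,
      ← C.F.vec_mul q hq _ (C.hy.norm _ hbz _ (inv_mem hq)), hd]
    exact C.co_zel (Nat.mod_lt _ (by omega)) (Nat.mod_lt _ (by omega))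
  have hz0 : g 0 = 0 := by rw [← xor_self' 0, hadd 0 0 (by norm_num) (by norm_num)]; exact xor_self' _
  rw [hg hb]
  obtain ⟨a, ha, b', hb', ha0, hb0, e⟩ := sing_span _ (C.th_lt' b)
  rw [← e, hadd a b' ha hb']
  have : ∀ v < 16, q4 v = 0 → g v = v := fun v hv h => by
    by_cases h0 : v = 0
    · rw [h0, hz0]
    · exact hsing v hv h0 h
  rw [this a ha ha0, this b' hb' hb0]

theorem Ctx.exists_q : ∃ q ∈ Q, q * C.x * q⁻¹ = C.x * z :=
  swap C.F C.hy C.base.mem (by rw [C.base.vec]; exact e0_facts.1)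

theorem Ctx.conj_swap {c r : G} (hz : Commute c z) (hx : c * C.x * c⁻¹ = C.x * z) (hr : r ∈ C.R) :
    c * r * c⁻¹ ∈ C.R ∧
      C.fst (c * r * c⁻¹) = Nat.xor (act (C.pi c) (C.fst r)) (act (C.pi c) (C.th r)) ∧
      C.th (c * r * c⁻¹) = act (C.pi c) (C.th r) := by
  obtain ⟨k, hk, hkx⟩ := C.exists_q
  have hkz := Qz C.hy hk
  have hdz : Commute (c * k⁻¹) z := hz.mul_left hkz.inv_left
  have hkx' : k⁻¹ * C.x * k = C.x * z := by
    have h1 : k * (C.x * z) * k⁻¹ = C.x := by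
      rw [show k * (C.x * z) * k⁻¹ = k * C.x * k⁻¹ * (k * z * k⁻¹) by group, hkx, hkz.eq, mul_inv_cancel_right,
        mul_assoc, zz C.hy, mul_one]
    conv_lhs => rw [← h1]
    group
  have hdx : Commute (c * k⁻¹) C.x := by
    have e : c * k⁻¹ * C.x * (c * k⁻¹)⁻¹ = C.x := by
      rw [show c * k⁻¹ * C.x * (c * k⁻¹)⁻¹ = c * (k⁻¹ * C.x * k) * c⁻¹ by group, hkx',
        show c * (C.x * z) * c⁻¹ = c * C.x * c⁻¹ * (c * z * c⁻¹) by group, hx, hz.eq, mul_inv_cancel_right,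
        mul_assoc, zz C.hy, mul_one]
    exact mul_inv_eq_iff_eq_mul.1 e
  have hπ : C.pi (c * k⁻¹) = C.pi c := by
    rw [C.pi_mul hz hkz.inv_left, C.pi_core (inv_mem hk), mul_one]
  obtain ⟨a, ha, b, hb, hab, e1, e2⟩ := C.coords hr
  refine ⟨C.conj_R hz hx hr, ?_, (C.th_conj' hr hz (Or.inr hx)).2⟩
  obtain ⟨h1, h2⟩ := C.conj_A hz (Or.inr hx) ha
  have hkb := C.conj_R hkz hkx (C.B_le hb)
  obtain ⟨h3, h4, -⟩ := C.conj_fix hdz hdx hkb
  rw [hab, show c * (a * b) * c⁻¹ = c * a * c⁻¹ * (c * k⁻¹ * (k * b * k⁻¹) * (c * k⁻¹)⁻¹) by group,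
    C.fst_hom (C.A_le h1) h3, h4, (C.quo_R hb hk hkx).1, hπ, show C.fst (c * a * c⁻¹) = C.co (c * a * c⁻¹) from ?_,
    h2, ← hab, e1, e2]
  conv_lhs => rw [← mul_one (c * a * c⁻¹)]
  exact C.fst_mul h1 (one_mem _)

theorem Ctx.w_A {a : G} (ha : a ∈ C.A) : C.fst (C.w * a * C.w⁻¹) = 0 := by
  rw [← one_mul (C.w * a * C.w⁻¹), C.fst_mul (one_mem _) (C.conj_w2 ha)]
  rw [Ctx.co, vec_one C.F C.hy, nv_zero]

theorem Ctx.w_R {r : G} (hr : r ∈ C.R) : C.w * r * C.w⁻¹ ∈ C.R := by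
  obtain ⟨a, ha, b, hb, rfl⟩ := C.decomp hr
  rw [show C.w * (a * b) * C.w⁻¹ = C.w * a * C.w⁻¹ * (C.w * b * C.w⁻¹) by group]
  exact mul_mem (C.B_le (C.conj_w2 ha)) (C.A_le (C.mem_B.1 hb))

theorem Ctx.rep_coords {u v i j : ℕ} (hu : u < 16) (hv : v < 16) (hi : i < 2) (hj : j < 2) :
    C.ra u * C.rb v * C.zel i j ∈ C.R ∧ C.fst (C.ra u * C.rb v * C.zel i j) = u ∧
      C.th (C.ra u * C.rb v * C.zel i j) = v := by
  obtain ⟨h1, h2⟩ := C.ra_spec hu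
  obtain ⟨h3, h4⟩ := C.rb_spec hv
  have h5 := (C.zel_mem i j).2
  refine ⟨mul_mem (mul_mem (C.A_le h1) (C.B_le h3)) (C.B_le h5), ?_, ?_⟩
  · rw [mul_assoc, C.fst_mul h1 (mul_mem h3 h5), h2]
  · rw [C.th_mul (mul_mem (C.A_le h1) (C.B_le h3)) (C.B_le h5), C.th_mul (C.A_le h1) (C.B_le h3), C.th_A h1,
      h4, C.th_zel, zero_xor', xor_zero']

/-- counting by coordinates -/
theorem Ctx.card_codes (P : ℕ → ℕ → Bool) :
    Nat.card {r : G // r ∈ C.R ∧ P (C.fst r) (C.th r) = true} =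
      4 * ((List.range 256).filter fun n => P (n / 16) (n % 16)).length := by
  classical
  have hspec : ∀ n : {n : Fin 256 // P (n.1 / 16) (n.1 % 16) = true}, n.1.1 / 16 < 16 ∧ n.1.1 % 16 < 16 :=
    fun n => ⟨by have := n.1.2; omega, Nat.mod_lt _ (by norm_num)⟩
  let f : (Fin 2 × Fin 2) × {n : Fin 256 // P (n.1 / 16) (n.1 % 16) = true} →
      {r : G // r ∈ C.R ∧ P (C.fst r) (C.th r) = true} := fun p =>
    ⟨C.ra (p.2.1.1 / 16) * C.rb (p.2.1.1 % 16) * C.zel p.1.1 p.1.2, by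
      obtain ⟨h1, h2, h3⟩ := C.rep_coords (hspec p.2).1 (hspec p.2).2 p.1.1.2 p.1.2.2
      exact ⟨h1, by rw [h2, h3]; exact p.2.2⟩⟩
  have hf : Function.Bijective f := by
    constructor
    · rintro ⟨⟨i, j⟩, n⟩ ⟨⟨k, l⟩, m⟩ e
      have e' := congrArg Subtype.val e
      obtain ⟨-, a1, a2⟩ := C.rep_coords (hspec n).1 (hspec n).2 i.2 j.2
      obtain ⟨-, b1, b2⟩ := C.rep_coords (hspec m).1 (hspec m).2 k.2 l.2
      have hn : n.1.1 = m.1.1 := by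
        have hu : n.1.1 / 16 = m.1.1 / 16 := by rw [← a1, ← b1]; exact congrArg C.fst e'
        have hv : n.1.1 % 16 = m.1.1 % 16 := by rw [← a2, ← b2]; exact congrArg C.th e'
        omega
      simp only [f] at e'
      rw [hn] at e'
      obtain ⟨e1, e2⟩ := C.zel_inj i.2 j.2 k.2 l.2 (mul_left_cancel e')
      rw [Fin.ext e1, Fin.ext e2, Subtype.ext (Fin.ext hn)]
    · rintro ⟨r, hr, hP⟩
      have hu := C.fst_lt r
      have hv := C.th_lt' r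
      obtain ⟨h0, a1, a2⟩ := C.rep_coords hu hv (show 0 < 2 by norm_num) (show 0 < 2 by norm_num)
      rw [C.zel_zero, mul_one] at h0 a1 a2
      have hz : ∀ φ : G → ℕ, (∀ x ∈ C.R, ∀ y ∈ C.R, φ (x * y) = Nat.xor (φ x) (φ y)) →
          φ (C.ra (C.fst r) * C.rb (C.th r)) = φ r → φ ((C.ra (C.fst r) * C.rb (C.th r))⁻¹ * r) = 0 := by
        intro φ hφ e
        have h2 := hφ _ h0 _ (mul_mem (inv_mem h0) hr)
        rw [mul_inv_cancel_left, e] at h2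
        calc φ ((C.ra (C.fst r) * C.rb (C.th r))⁻¹ * r) = Nat.xor (φ r) (Nat.xor (φ r)
              (φ ((C.ra (C.fst r) * C.rb (C.th r))⁻¹ * r))) := by
              rw [← show ∀ p q r, Nat.xor (Nat.xor p q) r = Nat.xor p (Nat.xor q r) from Nat.xor_assoc, xor_self',
                zero_xor']
          _ = 0 := by rw [← h2, xor_self']
      obtain ⟨i, j, hi, hj, ek⟩ := C.kernel (mul_mem (inv_mem h0) hr)
        (hz C.fst (fun x hx y hy => C.fst_hom hx hy) a1) (hz C.th (fun x hx y hy => C.th_mul hx hy) a2)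
      refine ⟨⟨(⟨i, hi⟩, ⟨j, hj⟩), ⟨⟨16 * C.fst r + C.th r, by omega⟩, ?_⟩⟩, Subtype.ext ?_⟩
      · rw [show (16 * C.fst r + C.th r) / 16 = C.fst r by omega, show (16 * C.fst r + C.th r) % 16 = C.th r by omega]
        exact hP
      · show C.ra ((16 * C.fst r + C.th r) / 16) * C.rb ((16 * C.fst r + C.th r) % 16) * C.zel i j = r
        rw [show (16 * C.fst r + C.th r) / 16 = C.fst r by omega, show (16 * C.fst r + C.th r) % 16 = C.th r by omega,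
          ← ek, mul_inv_cancel_left]
  have hcount : Nat.card {n : Fin 256 // P (n.1 / 16) (n.1 % 16) = true} =
      ((List.range 256).filter fun n => P (n / 16) (n % 16)).length := by
    rw [Nat.card_eq_fintype_card, Fintype.card_subtype, ← List.map_coe_finRange_eq_range, List.filter_map,
      List.length_map, ← List.toFinset_card_of_nodup ((List.nodup_finRange 256).filter _)]
    congr 1
    ext n
    simp
  rw [← Nat.card_congr (Equiv.ofBijective f hf), Nat.card_prod, Nat.card_prod, Nat.card_fin, hcount]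

end Cfsg.Agent.Spor.SuzT.Rad
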