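import Cfsg.Agent.Lib.Spor.SuzR.Model

/-!
Groups of Suzuki sporadic type: finite checks for the centraliser of an involution of the second class.
-/

set_option autoImplicit false
set_option maxRecDepth 100000

namespace Cfsg.Agent.Spor.SuzT.Rad

open Chk Dat

/-- the six partners of the second vector -/
def sixB (u : ℕ) : Bool := Nat.blt u 16 && Nat.beq (q4 u) 1 && Nat.beq (p4 u 4) 1

/-- the two singular vectors orthogonal to a partner -/
def perpR (u r : ℕ) : Bool :=
  Nat.blt r 16 && !(Nat.beq r 0) && Nat.beq (q4 r) 0 && Nat.beq (p4 r u) 0 && Nat.beq (p4 r 4) 0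

/-- the span of the four-group -/
def inV (u a b : ℕ) : Bool :=
  (Nat.beq a 0 && Nat.beq b 0) || (Nat.beq a u && Nat.beq b 4) ||
    (Nat.beq a 4 && Nat.beq b (Nat.xor u 4)) || (Nat.beq a (Nat.xor u 4) && Nat.beq b u)

/-- the span of one point on both sides -/
def inE (r a b : ℕ) : Bool := (Nat.beq a 0 || Nat.beq a r) && (Nat.beq b 0 || Nat.beq b r)

/-- the span of both -/
def inW' (u r a b : ℕ) : Bool :=
  inE r a b || inE r (Nat.xor a u) (Nat.xor b 4) || inE r (Nat.xor a 4) (Nat.xor b (Nat.xor u 4)) ||
    inE r (Nat.xor a (Nat.xor u 4)) (Nat.xor b u)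

/-- commutation -/
def cmB (a b c d : ℕ) : Bool := Nat.beq (cz a b c d) 0 && Nat.beq (cx a b c d) 0

/-- squares vanish -/
def sqB (a b : ℕ) : Bool := Nat.beq (sz a b) 0 && Nat.beq (sx a b) 0

/-- facts in the centraliser of the involution -/
def centOK : Bool :=
  (List.range 16).all fun u => !(sixB u) ||
    (Nat.beq ((List.range 256).filter fun n => cmB u 4 (n / 16) (n % 16)).length 64 &&
    Nat.beq ((List.range 16).filter fun r => perpR u r).length 2 &&
    (List.range 256).all fun n =>
      let a := n / 16
      let b := n % 16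
      !(cmB u 4 a b) ||
        ((!(sqB a b) || (List.range 16).any fun r => perpR u r && inW' u r a b) &&
         (!(((List.range 256).all fun m => !(cmB u 4 (m / 16) (m % 16)) || cmB a b (m / 16) (m % 16))) || inV u a b)))

theorem cent_ok : centOK = true := by decide +kernel

/-- facts in the elementary subgroups -/
def elemOK : Bool :=
  (List.range 16).all fun u => !(sixB u) || (List.range 16).all fun r => !(perpR u r) ||
    (Nat.beq ((List.range 256).filter fun n => inW' u r (n / 16) (n % 16)).length 16 &&
    Nat.beq ((List.range 256).filter fun n => inE r (n / 16) (n % 16)).length 4 &&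
    Nat.beq ((List.range 256).filter fun n => inV u (n / 16) (n % 16)).length 4 &&
    (List.range 256).all fun n => !(inW' u r (n / 16) (n % 16)) ||
      (sqB (n / 16) (n % 16) && cmB u 4 (n / 16) (n % 16) &&
        ((Nat.beq (q4 (n % 16)) 0) == inE r (n / 16) (n % 16)) &&
        (List.range 256).all fun m => !(inW' u r (m / 16) (m % 16)) ||
          (cmB (n / 16) (n % 16) (m / 16) (m % 16) &&
           inW' u r (Nat.xor (n / 16) (m / 16)) (Nat.xor (n % 16) (m % 16)))))

theorem elem_ok : elemOK = true := by decide +kernel

/-- facts on the six partners -/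
def sixOK : Bool :=
  Nat.beq (thL sc) 4 && Nat.beq ((List.range 16).filter sixB).length 6 &&
    (List.range 16).all fun u => !(sixB u) || (List.range 16).all fun r => !(perpR u r) ||
      ((List.range 16).all fun s => !(perpR u s) || Nat.beq r s || Nat.beq (p4 r s) 1) &&
      cmB u 4 r 0 && cmB u 4 0 r

theorem six_ok : sixOK = true := by decide +kernel

/-- action on the four-space of columns fixing the first point -/
def act4 (L : List ℕ) (u : ℕ) : ℕ :=
  n4 (app L (2 * bit u 0 + 8 * bit u 1 + 16 * bit u 2 + 32 * bit u 3))

/-- the centraliser of the representative -/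
def cenActOK : Bool :=
  (cen.map wp).all fun g =>
    Nat.beq (app g 1) 1 &&
    (!(mulL g g == idL) || (rad.any fun e => e.1 == g) || !(clsA.any fun e => e.1 == g)) &&
    (List.range 16).all fun u => !(sixB u) ||
      ((!(Nat.beq (act4 g u) u) || rad.any fun e => e.1 == g) &&
       (!(Nat.beq (act4 g u) (Nat.xor u 4)) || (List.range 16).all fun r => !(perpR u r) || !(Nat.beq (act4 g r) r)))

theorem cen_act_ok : cenActOK = true := by decide +kernel

/-- the lift from the four-space -/
def liftOK : Bool :=
  (List.range 16).all fun u =>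
    let c := 2 * bit u 0 + 8 * bit u 1 + 16 * bit u 2 + 32 * bit u 3
    Nat.blt c 64 && Nat.beq (bit c 2) 0 && Nat.beq (n4 c) u

theorem lift_ok : liftOK = true := by decide +kernel

end Cfsg.Agent.Spor.SuzT.Rad
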