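import Cfsg.Agent.Lib.Spor.SuzR.Sides

/-!
Groups of Suzuki sporadic type: squares and commutators in the radical subgroup.
-/

set_option autoImplicit false
set_option maxRecDepth 100000
set_option linter.unusedSectionVars false

namespace Cfsg.Agent.Spor.SuzT.Rad

open Chk Dat

theorem xor_self' : ∀ a : ℕ, Nat.xor a a = 0 := Nat.xor_self

theorem xor_zero' : ∀ a : ℕ, Nat.xor a 0 = a := Nat.xor_zero

theorem zero_xor' : ∀ a : ℕ, Nat.xor 0 a = a := Nat.zero_xor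

theorem xor_eq_zero' {a b : ℕ} (h : Nat.xor a b = 0) : a = b := Nat.xor_eq_zero_iff.1 h

/-- square exponent on the first side -/
def sz (u v : ℕ) : ℕ := (q4 u + p4 u v) % 2

/-- square exponent on the second side -/
def sx (u v : ℕ) : ℕ := (q4 v + p4 u v) % 2

/-- commutator exponent on the first side -/
def cz (u v s t : ℕ) : ℕ := (sz (Nat.xor u s) (Nat.xor v t) + sz u v + sz s t) % 2

/-- commutator exponent on the second side -/
def cx (u v s t : ℕ) : ℕ := (sx (Nat.xor u s) (Nat.xor v t) + sx u v + sx s t) % 2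

theorem sing_pair_check : ∀ u < 16, ∀ v < 16,
    (!(Nat.beq u 0) && !(Nat.beq v 0) && Nat.beq (q4 u) 0 && Nat.beq (q4 v) 0 && Nat.beq (p4 u v) 0) = true → u = v := by
  decide +kernel

theorem sing_pair (u : ℕ) (hu : u < 16) (hu0 : u ≠ 0) (v : ℕ) (hv : v < 16) (hv0 : v ≠ 0) (h1 : q4 u = 0)
    (h2 : q4 v = 0) (h3 : p4 u v = 0) : u = v :=
  sing_pair_check u hu v hv (by
    simp only [Bool.and_eq_true, Bool.not_eq_true', h1, h2, h3, Nat.beq_refl, and_true]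
    exact ⟨(Bool.not_eq_true _).mp fun e => hu0 (Nat.eq_of_beq_eq_true e),
      (Bool.not_eq_true _).mp fun e => hv0 (Nat.eq_of_beq_eq_true e)⟩)

theorem sing_span : ∀ u < 16, ∃ a < 16, ∃ b < 16, q4 a = 0 ∧ q4 b = 0 ∧ Nat.xor a b = u := by decide +kernel

theorem q4_lt (u : ℕ) : q4 u < 2 := Nat.mod_lt _ (by norm_num)

theorem p4_lt (u v : ℕ) : p4 u v < 2 := Nat.mod_lt _ (by norm_num)

theorem xor_lt16 {a b : ℕ} (ha : a < 16) (hb : b < 16) : Nat.xor a b < 16 :=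
  Nat.xor_lt_two_pow (n := 4) ha hb

universe u

variable {G : Type u} [Group G] [Finite G] {z : G} {Q : Subgroup G} (C : Ctx z Q)

theorem Ctx.zel_zero : C.zel 0 0 = 1 := by simp [Ctx.zel]

theorem Ctx.zel_comm (i j : ℕ) {c : G} (hz : Commute c z) (hx : Commute c C.x) : Commute c (C.zel i j) :=
  (hz.pow_right i).mul_right (hx.pow_right j)

theorem Ctx.zel_mul (i j k l : ℕ) : C.zel i j * C.zel k l = C.zel ((i + k) % 2) ((j + l) % 2) := by
  have hp : ∀ {a : G} (n : ℕ), a * a = 1 → a ^ n = a ^ (n % 2) := fun {a} n e => by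
    conv_lhs => rw [← Nat.div_add_mod n 2]
    rw [pow_add, pow_mul, pow_two, e, one_pow, one_mul]
  rw [Ctx.zel, Ctx.zel, Ctx.zel, ← hp (i + k) (zz C.hy), ← hp (j + l) C.base.sq, pow_add, pow_add,
    show z ^ i * C.x ^ j * (z ^ k * C.x ^ l) = z ^ i * (C.x ^ j * z ^ k) * C.x ^ l by group,
    (C.xz.pow_pow j k).eq]
  group

theorem Ctx.th_zel (i j : ℕ) : C.th (C.zel i j) = 0 := C.th_A (C.zel_mem i j).1

theorem Ctx.co_zel {i j : ℕ} (hi : i < 2) (hj : j < 2) : C.co (C.zel i j) = 0 :=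
  (C.co_zero (C.zel_mem i j).1).2 ⟨i, j, hi, hj, rfl⟩

/-- representative of a vector in the first part -/
noncomputable def Ctx.ra (u : ℕ) : G := if h : u < 16 then (C.exists_co h).choose else 1

theorem Ctx.ra_spec {u : ℕ} (h : u < 16) : C.ra u ∈ C.A ∧ C.co (C.ra u) = u := by
  rw [Ctx.ra, dif_pos h]; exact (C.exists_co h).choose_spec

theorem Ctx.co_eq {a a' : G} (ha : a ∈ C.A) (ha' : a' ∈ C.A) (e : C.co a = C.co a') :
    ∃ i j, i < 2 ∧ j < 2 ∧ a' = a * C.zel i j := by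
  have h1 : C.co (a⁻¹ * a') = 0 := by
    have h2 : C.co a⁻¹ = C.co a := by
      have h3 : C.co (1 : G) = 0 := by rw [Ctx.co, vec_one C.F C.hy, nv_zero]
      have h4 := C.co_mul (inv_mem ha) ha
      rw [inv_mul_cancel, h3] at h4
      exact xor_eq_zero' h4.symm
    rw [C.co_mul (inv_mem ha) ha', h2, e, xor_self']
  obtain ⟨i, j, hi, hj, e'⟩ := (C.co_zero (mul_mem (inv_mem ha) ha')).1 h1
  exact ⟨i, j, hi, hj, by rw [← e']; group⟩

/-- transfer of vectors to the second side -/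
noncomputable def Ctx.T1 (u : ℕ) : ℕ := C.th (C.w * C.ra u * C.w⁻¹)

theorem Ctx.T1_spec {a : G} (ha : a ∈ C.A) : C.T1 (C.co a) = C.th (C.w * a * C.w⁻¹) := by
  obtain ⟨h1, h2⟩ := C.ra_spec (C.co_lt a)
  obtain ⟨i, j, hi, hj, e⟩ := C.co_eq h1 ha h2
  conv_rhs => rw [e, show C.w * (C.ra (C.co a) * C.zel i j) * C.w⁻¹ =
    C.w * C.ra (C.co a) * C.w⁻¹ * (C.w * C.zel i j * C.w⁻¹) by group, C.conj_zel,
    C.th_mul (C.B_le (C.conj_w2 h1)) (C.A_le (C.zel_mem _ _).1), C.th_zel, xor_zero']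
  rfl

theorem Ctx.th_inj {b b' : G} (hb : b ∈ C.B) (hb' : b' ∈ C.B) (e : C.th b = C.th b') :
    ∃ i j, i < 2 ∧ j < 2 ∧ b' = b * C.zel i j := by
  have h1 : C.th (b⁻¹ * b') = 0 := by
    have h4 := C.th_mul (C.B_le (inv_mem hb)) (C.B_le hb)
    rw [inv_mul_cancel, show C.th 1 = 0 from C.th_A (one_mem _)] at h4
    rw [C.th_mul (C.B_le (inv_mem hb)) (C.B_le hb'), xor_eq_zero' h4.symm, e, xor_self']
  have hm := mul_mem (inv_mem hb) hb'
  obtain ⟨i, j, hi, hj, e'⟩ := C.inter (C.th_B_zero hm h1) hm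
  exact ⟨i, j, hi, hj, by rw [← e']; group⟩

theorem Ctx.back_B {a : G} (ha : a ∈ C.A) : C.w⁻¹ * a * C.w ∈ C.B := by
  rw [C.mem_B, show C.w * (C.w⁻¹ * a * C.w) * C.w⁻¹ = a by group]; exact ha

theorem Ctx.th_surj {v : ℕ} (hv : v < 16) : ∃ b ∈ C.B, C.th b = v := by
  let f : Fin 16 → Fin 16 := fun u => ⟨C.th (C.w⁻¹ * C.ra u * C.w), th_lt _⟩
  have hf : Function.Injective f := by
    intro u v e
    obtain ⟨h1, h2⟩ := C.ra_spec u.2
    obtain ⟨h3, h4⟩ := C.ra_spec v.2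
    obtain ⟨i, j, hi, hj, e'⟩ := C.th_inj (C.back_B h1) (C.back_B h3) (congrArg Fin.val e)
    have e2 : C.ra v = C.ra u * C.zel j i := by
      rw [← C.conj_zel i j, show C.ra v = C.w * (C.w⁻¹ * C.ra v * C.w) * C.w⁻¹ by group, e']
      group
    refine Fin.ext ?_
    rw [← h2, ← h4, e2, C.co_mul h1 (C.zel_mem _ _).1, C.co_zel hj hi, xor_zero']
  obtain ⟨u, hu⟩ := (Finite.injective_iff_surjective.1 hf) ⟨v, hv⟩
  exact ⟨_, C.back_B (C.ra_spec u.2).1, congrArg Fin.val hu⟩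

/-- representative of a vector in the second part -/
noncomputable def Ctx.rb (v : ℕ) : G := if h : v < 16 then (C.th_surj h).choose else 1

theorem Ctx.rb_spec {v : ℕ} (h : v < 16) : C.rb v ∈ C.B ∧ C.th (C.rb v) = v := by
  rw [Ctx.rb, dif_pos h]; exact (C.th_surj h).choose_spec

/-- transfer of vectors to the first side -/
noncomputable def Ctx.T2 (v : ℕ) : ℕ := C.co (C.w * C.rb v * C.w⁻¹)

theorem Ctx.th_lt' (c : G) : C.th c < 16 := Rad.th_lt _

theorem Ctx.T2_spec {b : G} (hb : b ∈ C.B) : C.T2 (C.th b) = C.co (C.w * b * C.w⁻¹) := by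
  obtain ⟨h1, h2⟩ := C.rb_spec (C.th_lt' b)
  obtain ⟨i, j, hi, hj, e⟩ := C.th_inj h1 hb h2
  conv_rhs => rw [e, show C.w * (C.rb (C.th b) * C.zel i j) * C.w⁻¹ =
    C.w * C.rb (C.th b) * C.w⁻¹ * (C.w * C.zel i j * C.w⁻¹) by group, C.conj_zel,
    C.co_mul (C.mem_B.1 h1) (C.zel_mem _ _).1, C.co_zel hj hi, xor_zero']
  rfl

theorem Ctx.B_invol {b : G} (hb : b ∈ C.B) (hbb : b * b = 1) : q4 (C.th b) = 0 := by
  have hrad := (C.B_le hb).2.2
  rcases rad_class hrad with e | ⟨c, -, e⟩ | ⟨c, hc, e⟩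
  · rw [Ctx.th, e, th_one]; rfl
  · exact ((rad_spec hrad).2.2.1.1 (isConj_iff.2 ⟨c⁻¹, by rw [← e]; group⟩)).2
  · rw [C.pi_eq (C.B_z hb)] at e
    exact absurd (isConj_iff.2 ⟨c, e⟩) (not_classC C.F C.hy C.base (m := cC (C.B_z hb)) (C.B_inQ hb) hbb)

theorem Ctx.q_T2 {v : ℕ} (hv : v < 16) : q4 (C.T2 v) = q4 v := by
  classical
  let f : Fin 16 → Fin 16 := fun v => ⟨C.T2 v, C.co_lt _⟩
  have hf : Function.Injective f := by
    intro u v e
    obtain ⟨h1, h2⟩ := C.rb_spec u.2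
    obtain ⟨h3, h4⟩ := C.rb_spec v.2
    obtain ⟨i, j, hi, hj, e'⟩ := C.co_eq (C.mem_B.1 h1) (C.mem_B.1 h3) (congrArg Fin.val e)
    have e2 : C.rb v = C.rb u * C.zel j i := by
      calc C.rb v = C.w⁻¹ * (C.w * C.rb v * C.w⁻¹) * C.w := by group
        _ = C.w⁻¹ * (C.w * C.rb u * C.w⁻¹ * C.zel i j) * C.w := by rw [e']
        _ = _ := by rw [← C.conj_zel j i]; group
    refine Fin.ext ?_
    rw [← h2, ← h4, e2, C.th_mul (C.B_le h1) (C.A_le (C.zel_mem _ _).1), C.th_zel, xor_zero']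
  have hsub : (Finset.univ.filter fun v => q4 (f v : ℕ) = 0) ⊆ Finset.univ.filter fun v : Fin 16 => q4 (v : ℕ) = 0 := by
    intro v hv
    obtain ⟨h1, h2⟩ := C.rb_spec v.2
    simp only [Finset.mem_filter, Finset.mem_univ, true_and] at hv ⊢
    rw [← h2]
    refine C.B_invol h1 ?_
    have e := C.sq_A (C.mem_B.1 h1)
    rw [show C.co (C.w * C.rb v * C.w⁻¹) = (f v : ℕ) from rfl, hv, C.zel_zero] at e
    have e' : C.w * (C.rb v * C.rb v) * C.w⁻¹ = 1 := by rw [← e]; group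
    exact conj_eq_one_iff.1 e'
  have hcard : (Finset.univ.filter fun v : Fin 16 => q4 (v : ℕ) = 0).card ≤
      (Finset.univ.filter fun v => q4 (f v : ℕ) = 0).card := by
    refine le_of_eq (Finset.card_bij' (fun v _ => (Equiv.ofBijective f (Finite.injective_iff_bijective.1 hf)).symm v)
      (fun v _ => f v) ?_ ?_ ?_ ?_)
    · intro a ha
      simp only [Finset.mem_filter, Finset.mem_univ, true_and] at ha ⊢
      rwa [Equiv.ofBijective_apply_symm_apply f]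
    · intro a ha
      simp only [Finset.mem_filter, Finset.mem_univ, true_and] at ha ⊢
      exact ha
    · exact fun a _ => Equiv.ofBijective_apply_symm_apply _ _ _
    · exact fun a _ => Equiv.ofBijective_symm_apply_apply _ _ _
  have heq := Finset.eq_of_subset_of_card_le hsub hcard
  have hiff := Finset.ext_iff.1 heq ⟨v, hv⟩
  simp only [Finset.mem_filter, Finset.mem_univ, true_and] at hiff
  have h1 := q4_lt (C.T2 v)
  have h2 := q4_lt v
  change q4 (C.T2 v) = 0 ↔ q4 v = 0 at hiff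
  omega

theorem Ctx.sq_B {b : G} (hb : b ∈ C.B) : b * b = C.zel 0 (q4 (C.th b)) := by
  have e := C.sq_A (C.mem_B.1 hb)
  rw [← C.T2_spec hb, C.q_T2 (C.th_lt' b), ← C.conj_zel 0] at e
  refine (MulAut.conj C.w).injective ?_
  rw [map_mul]; exact e

theorem Ctx.q_T1 {a : G} (ha : a ∈ C.A) : q4 (C.T1 (C.co a)) = q4 (C.co a) := by
  have e := C.sq_B (C.conj_w2 ha)
  rw [show C.w * a * C.w⁻¹ * (C.w * a * C.w⁻¹) = C.w * (a * a) * C.w⁻¹ by group, C.sq_A ha, C.conj_zel,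
    ← C.T1_spec ha] at e
  exact ((C.zel_inj (by omega) (q4_lt _) (by omega) (q4_lt _) e).2).symm

theorem Ctx.T1_add {u v : ℕ} (hu : u < 16) (hv : v < 16) : C.T1 (Nat.xor u v) = Nat.xor (C.T1 u) (C.T1 v) := by
  obtain ⟨h1, h2⟩ := C.ra_spec hu
  obtain ⟨h3, h4⟩ := C.ra_spec hv
  have e : C.co (C.ra u * C.ra v) = Nat.xor u v := by rw [C.co_mul h1 h3, h2, h4]
  rw [← e, C.T1_spec (mul_mem h1 h3), show C.w * (C.ra u * C.ra v) * C.w⁻¹ =
    C.w * C.ra u * C.w⁻¹ * (C.w * C.ra v * C.w⁻¹) by group, C.th_mul (C.B_le (C.conj_w2 h1)) (C.B_le (C.conj_w2 h3))]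
  rfl

theorem Ctx.T2_add {u v : ℕ} (hu : u < 16) (hv : v < 16) : C.T2 (Nat.xor u v) = Nat.xor (C.T2 u) (C.T2 v) := by
  obtain ⟨h1, h2⟩ := C.rb_spec hu
  obtain ⟨h3, h4⟩ := C.rb_spec hv
  have e : C.th (C.rb u * C.rb v) = Nat.xor u v := by rw [C.th_mul (C.B_le h1) (C.B_le h3), h2, h4]
  rw [← e, C.T2_spec (mul_mem h1 h3), show C.w * (C.rb u * C.rb v) * C.w⁻¹ =
    C.w * C.rb u * C.w⁻¹ * (C.w * C.rb v * C.w⁻¹) by group, C.co_mul (C.mem_B.1 h1) (C.mem_B.1 h3)]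
  rfl

theorem Ctx.comm_swap {a b : G} (ha : a ∈ C.A) (hb : b ∈ C.B) :
    b * a * b⁻¹ = a * C.zel (p4 (C.T2 (C.th b)) (C.T1 (C.co a))) (p4 (C.co a) (C.th b)) := by
  obtain ⟨i, hi, e⟩ := C.comm_AB ha hb
  obtain ⟨k, hk, e'⟩ := C.comm_AB (C.mem_B.1 hb) (C.conj_w2 ha)
  rw [← C.T2_spec hb, ← C.T1_spec ha] at e'
  set p := p4 (C.co a) (C.th b)
  set p' := p4 (C.T2 (C.th b)) (C.T1 (C.co a))
  have h2 : a * b * a⁻¹ = b * C.zel p' k := by
    refine (MulAut.conj C.w).injective ?_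
    show C.w * (a * b * a⁻¹) * C.w⁻¹ = C.w * (b * C.zel p' k) * C.w⁻¹
    rw [show C.w * (a * b * a⁻¹) * C.w⁻¹ =
      C.w * a * C.w⁻¹ * (C.w * b * C.w⁻¹) * (C.w * a * C.w⁻¹)⁻¹ by group, e',
      show C.w * (b * C.zel p' k) * C.w⁻¹ = C.w * b * C.w⁻¹ * (C.w * C.zel p' k * C.w⁻¹) by group, C.conj_zel]
  have h3 : a * b * a⁻¹ * b⁻¹ = C.zel p' k := by
    rw [h2, (C.zel_comm p' k (C.B_z hb) (C.B_x hb)).eq, mul_inv_cancel_right]
  have h4 : b * a * b⁻¹ * a⁻¹ = C.zel i p := by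
    rw [e, (C.zel_comm i p (C.A_z ha) (C.A_x ha)).eq, mul_inv_cancel_right]
  have h5 : C.zel p' k = C.zel i p := by
    rw [← h3, ← C.zel_inv i p, ← h4]; group
  obtain ⟨rfl, -⟩ := C.zel_inj (p4_lt _ _) hk hi (p4_lt _ _) h5
  exact e

theorem Ctx.T_eq {v : ℕ} (hv : v < 16) (hq : q4 v = 0) : C.T1 v = C.T2 v := by
  have h0 : C.T1 0 = 0 ∧ C.T2 0 = 0 := by
    have e1 := C.T1_add (u := 0) (v := 0) (by omega) (by omega)
    have e2 := C.T2_add (u := 0) (v := 0) (by omega) (by omega)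
    rw [xor_zero', xor_self'] at e1 e2
    exact ⟨e1, e2⟩
  rcases Nat.eq_zero_or_pos v with rfl | hv0
  · rw [h0.1, h0.2]
  obtain ⟨hb, hbv⟩ := C.rb_spec hv
  set b := C.rb v
  obtain ⟨q, hq', hqx⟩ := swap C.F C.hy C.base.mem (by rw [C.base.vec]; exact e0_facts.1)
  have hqz : Commute q z := Qz C.hy hq'
  set a := q * b * q⁻¹ * b⁻¹ with hadef
  have hd1 : Commute (q * b * q⁻¹) z := (hqz.mul_left (C.B_z hb)).mul_left hqz.inv_left
  have hd2 : Commute (q * b * q⁻¹) (C.x * z) := by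
    rw [← hqx]; exact (Commute.conj_iff q).2 (C.B_x hb)
  have hd3 : Commute (q * b * q⁻¹) C.x := by
    have := hd2.mul_right hd1
    rwa [mul_assoc C.x, zz C.hy, mul_one] at this
  have haQ : a ∈ Q := by
    rw [hadef, show q * b * q⁻¹ * b⁻¹ = q * (b * q⁻¹ * b⁻¹) by group]
    exact mul_mem hq' (C.hy.norm b (C.B_z hb) _ (inv_mem hq'))
  have ha : a ∈ C.A := C.mem_A.2 ⟨haQ, hd3.mul_left (C.B_x hb).inv_left⟩
  have hvec : C.F.vec a = C.pi b • C.F.vec q + C.F.vec q := by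
    rw [hadef, show q * b * q⁻¹ * b⁻¹ = q * (b * q⁻¹ * b⁻¹) by group,
      C.F.vec_mul _ hq' _ (C.hy.norm b (C.B_z hb) _ (inv_mem hq')), C.vec_conj (C.B_z hb) (inv_mem hq'),
      vec_inv C.F C.hy hq', add_comm]
  have hrad := (C.B_le hb).2.2
  have hu0 : C.co a ≠ 0 := by
    rw [Ctx.co, hvec]
    refine (rad_spec hrad).2.2.2.2 _ (fun e => C.base.nez ?_) (fun e => ?_)
    · have hc : Commute C.x q := (C.F.comm_iff C.x C.base.mem q hq').2 (by rw [C.base.vec]; exact e)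
      rw [← hc.eq, mul_inv_cancel_right] at hqx
      exact absurd (left_eq_mul.1 hqx) (z_ne C.hy)
    · rw [Ctx.th, (rad_spec hrad).2.1.2 e] at hbv; omega
  have hbb : b * b = 1 := by rw [C.sq_B hb, hbv, hq, C.zel_zero]
  set p := p4 (C.co a) (C.th b)
  set p' := p4 (C.T2 (C.th b)) (C.T1 (C.co a))
  have hsq : a * b * (a * b) = 1 := by
    rw [show a * b = q * b * q⁻¹ by rw [hadef]; group, conj_mul, hbb]; group
  have hexp : a * b * (a * b) = C.zel ((q4 (C.co a) + p') % 2) ((0 + p) % 2) := by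
    calc a * b * (a * b) = a * (b * a * b⁻¹) * (b * b) := by group
      _ = _ := by rw [C.comm_swap ha hb, hbb, mul_one, ← mul_assoc, C.sq_A ha, C.zel_mul]
  rw [hexp, ← C.zel_zero] at hsq
  obtain ⟨e1, e2⟩ := C.zel_inj (Nat.mod_lt _ (by omega)) (Nat.mod_lt _ (by omega)) (by omega) (by omega) hsq
  have hp : p = 0 := by have h := p4_lt (C.co a) (C.th b); omega
  have hTa : q4 (C.T1 (C.co a)) = 0 := by
    set a'' := C.w * (q * b * q⁻¹) * C.w⁻¹ with ha''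
    have ha'A : C.w * b * C.w⁻¹ ∈ C.A := C.mem_B.1 hb
    have h2 := C.conj_w2 ha
    have hdec : a'' = C.w * a * C.w⁻¹ * (C.w * b * C.w⁻¹) := by rw [ha'', hadef]; group
    have hz'' : Commute a'' z := by rw [hdec]; exact (C.B_z h2).mul_left (C.A_z ha'A)
    have hth : C.th a'' = C.T1 (C.co a) := by
      rw [hdec, C.th_mul (C.B_le h2) (C.A_le ha'A), C.th_A ha'A, xor_zero', ← C.T1_spec ha]
    have hR : a'' ∈ C.R := by rw [hdec]; exact mul_mem (C.B_le h2) (C.A_le ha'A)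
    have hinv : a'' * a'' = 1 := by rw [ha'', conj_mul, conj_mul, hbb]; group
    have hD : IsConj z a'' := by
      have hbQ := (C.mem_A.1 ha'A).1
      have hb' : C.w * b * C.w⁻¹ * (C.w * b * C.w⁻¹) = 1 := by rw [conj_mul, hbb]; group
      have hne : ∀ i j, i < 2 → j < 2 → b ≠ C.zel i j := fun i j hi hj e' => by
        rw [e', C.th_zel] at hbv; omega
      refine (core_conj C.F C.hy hbQ hb' (fun e' => hne 0 0 (by omega) (by omega) ?_)
        (fun e' => hne 0 1 (by omega) (by omega) ?_)).trans (isConj_iff.2 ⟨C.w * q * C.w⁻¹, ?_⟩)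
      · rw [conj_eq_one_iff.1 e', C.zel_zero]
      · refine (MulAut.conj C.w).injective ?_
        show C.w * b * C.w⁻¹ = C.w * C.zel 0 1 * C.w⁻¹
        rw [C.conj_zel, e']; simp [Ctx.zel]
      · rw [ha'']; group
    rcases rad_class hR.2.2 with e | ⟨c, -, e⟩ | ⟨c, hc, e⟩
    · rw [← hth, Ctx.th, e, th_one]; rfl
    · rw [← hth]
      exact ((rad_spec hR.2.2).2.2.1.1 (isConj_iff.2 ⟨c⁻¹, by rw [← e]; group⟩)).2
    · exfalso
      obtain ⟨d, hd⟩ := C.F.π_surj c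
      have hm : ((d * cC hz'' * d⁻¹ : Subgroup.centralizer ({z} : Set G)) : G) *
          (d * cC hz'' * d⁻¹ : Subgroup.centralizer ({z} : Set G)) = 1 := by
        show (d : G) * a'' * (d : G)⁻¹ * ((d : G) * a'' * (d : G)⁻¹) = 1
        rw [conj_mul, hinv]; group
      refine not_conj_z C.F C.hy C.base hm ?_ (hD.trans (isConj_iff.2 ⟨(d : G), rfl⟩))
      rw [map_mul, map_mul, map_inv, hd, ← C.pi_eq hz'', e]
  have hTu := C.q_T1 ha
  rw [hTa] at hTu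
  have huv : C.co a = v := sing_pair _ (C.co_lt a) hu0 v hv (by omega) hTu.symm hq (by rw [← hbv]; exact hp)
  have hp' : p' = 0 := by
    rw [← hTu] at e1
    have h := p4_lt (C.T2 (C.th b)) (C.T1 (C.co a))
    omega
  simp only [p', huv, hbv] at hp'
  have hT1 : C.T1 v ≠ 0 := fun e => hu0 (by
    have h1 := C.T1_spec ha
    rw [huv, e] at h1
    obtain ⟨i, j, hi, hj, e'⟩ := C.inter (C.th_B_zero (C.conj_w2 ha) h1.symm) (C.conj_w2 ha)
    have e2 : a = C.zel j i := by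
      refine (MulAut.conj C.w).injective ?_
      show C.w * a * C.w⁻¹ = C.w * C.zel j i * C.w⁻¹
      rw [C.conj_zel, e']
    rw [e2, C.co_zel hj hi])
  have hT2 : C.T2 v ≠ 0 := fun e => by
    have h1 := C.T2_spec hb
    rw [hbv, e] at h1
    obtain ⟨i, j, hi, hj, e'⟩ := (C.co_zero (C.mem_B.1 hb)).1 h1.symm
    have e2 : b = C.zel j i := by
      refine (MulAut.conj C.w).injective ?_
      show C.w * b * C.w⁻¹ = C.w * C.zel j i * C.w⁻¹
      rw [C.conj_zel, e']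
    rw [e2, C.th_zel] at hbv; omega
  exact (sing_pair _ (C.co_lt _) hT2 _ (C.th_lt' _) hT1 ((C.q_T2 hv).trans hq) (huv ▸ hTa) hp').symm

theorem Ctx.T_all {u : ℕ} (hu : u < 16) : C.T1 u = C.T2 u := by
  obtain ⟨a, ha, b, hb, qa, qb, rfl⟩ := sing_span u hu
  rw [C.T1_add ha hb, C.T2_add ha hb, C.T_eq ha qa, C.T_eq hb qb]

/-- the commutation law of the two parts -/
theorem Ctx.comm_law {a b : G} (ha : a ∈ C.A) (hb : b ∈ C.B) :
    b * a * b⁻¹ = a * C.zel (p4 (C.co a) (C.th b)) (p4 (C.co a) (C.th b)) := by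
  have e : p4 (C.T2 (C.th b)) (C.T1 (C.co a)) = p4 (C.co a) (C.th b) := by
    rw [C.T_all (C.co_lt a), p4, ← C.T2_add (C.th_lt' b) (C.co_lt a), C.q_T2 (C.th_lt' b), C.q_T2 (C.co_lt a),
      C.q_T2 (xor_lt16 (C.th_lt' b) (C.co_lt a)), p4, show Nat.xor (C.th b) (C.co a) = Nat.xor (C.co a) (C.th b) from
        Nat.xor_comm _ _]
    omega
  conv_lhs => rw [C.comm_swap ha hb, e]

/-- the first coordinate on the radical subgroup -/
noncomputable def Ctx.fst (c : G) : ℕ := C.co (c * (C.rb (C.th c))⁻¹)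

theorem Ctx.fst_mul {a b : G} (ha : a ∈ C.A) (hb : b ∈ C.B) : C.fst (a * b) = C.co a := by
  have hth : C.th (a * b) = C.th b := by rw [C.th_mul (C.A_le ha) (C.B_le hb), C.th_A ha, zero_xor']
  obtain ⟨h1, h2⟩ := C.rb_spec (C.th_lt' b)
  obtain ⟨i, j, hi, hj, e⟩ := C.th_inj h1 hb h2
  have e' : a * b * (C.rb (C.th b))⁻¹ = a * C.zel i j := by
    rw [show a * b = a * (C.rb (C.th b) * C.zel i j) from congrArg (a * ·) e,
    show a * (C.rb (C.th b) * C.zel i j) * (C.rb (C.th b))⁻¹ =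
      a * (C.rb (C.th b) * C.zel i j * (C.rb (C.th b))⁻¹) by group,
      (C.zel_comm i j (C.B_z h1) (C.B_x h1)).eq, mul_inv_cancel_right]
  rw [Ctx.fst, hth, e', C.co_mul ha (C.zel_mem _ _).1, C.co_zel hi hj, xor_zero']

theorem Ctx.coords {c : G} (hc : c ∈ C.R) :
    ∃ a ∈ C.A, ∃ b ∈ C.B, c = a * b ∧ C.fst c = C.co a ∧ C.th c = C.th b := by
  obtain ⟨a, ha, b, hb, rfl⟩ := C.decomp hc
  exact ⟨a, ha, b, hb, rfl, C.fst_mul ha hb, by
    rw [C.th_mul (C.A_le ha) (C.B_le hb), C.th_A ha, zero_xor']⟩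

theorem Ctx.fst_lt (c : G) : C.fst c < 16 := C.co_lt _

theorem Ctx.fst_hom {c d : G} (hc : c ∈ C.R) (hd : d ∈ C.R) :
    C.fst (c * d) = Nat.xor (C.fst c) (C.fst d) := by
  obtain ⟨a, ha, b, hb, rfl, e1, -⟩ := C.coords hc
  obtain ⟨a', ha', b', hb', rfl, e3, -⟩ := C.coords hd
  have e := C.comm_law ha' hb
  have h1 : b * a' * b⁻¹ ∈ C.A := by rw [e]; exact mul_mem ha' (C.zel_mem _ _).1
  rw [e1, e3, show a * b * (a' * b') = a * (b * a' * b⁻¹) * (b * b') by group,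
    C.fst_mul (mul_mem ha h1) (mul_mem hb hb'), C.co_mul ha h1, e, C.co_mul ha' (C.zel_mem _ _).1,
    C.co_zel (p4_lt _ _) (p4_lt _ _), xor_zero']

theorem Ctx.kernel {c : G} (hc : c ∈ C.R) (h1 : C.fst c = 0) (h2 : C.th c = 0) :
    ∃ i j, i < 2 ∧ j < 2 ∧ c = C.zel i j := by
  obtain ⟨a, ha, b, hb, rfl, e1, e2⟩ := C.coords hc
  obtain ⟨i, j, hi, hj, rfl⟩ := (C.co_zero ha).1 (e1.symm.trans h1)
  obtain ⟨k, l, hk, hl, rfl⟩ := C.inter (C.th_B_zero hb (e2.symm.trans h2)) hb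
  exact ⟨_, _, Nat.mod_lt _ (by omega), Nat.mod_lt _ (by omega), C.zel_mul _ _ _ _⟩

theorem Ctx.sq_law {c : G} (hc : c ∈ C.R) :
    c * c = C.zel (sz (C.fst c) (C.th c)) (sx (C.fst c) (C.th c)) := by
  obtain ⟨a, ha, b, hb, rfl, e1, e2⟩ := C.coords hc
  rw [e1, e2]
  calc a * b * (a * b) = a * (b * a * b⁻¹) * (b * b) := by group
    _ = _ := by
      rw [C.comm_law ha hb, C.sq_B hb, ← mul_assoc, C.sq_A ha, C.zel_mul, C.zel_mul]
      congr 1 <;> simp only [sz, sx] <;> omega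

theorem Ctx.comm_iff {c d : G} (hc : c ∈ C.R) (hd : d ∈ C.R) :
    Commute c d ↔ cz (C.fst c) (C.th c) (C.fst d) (C.th d) = 0 ∧ cx (C.fst c) (C.th c) (C.fst d) (C.th d) = 0 := by
  have h := C.sq_law (mul_mem hc hd)
  rw [C.fst_hom hc hd, C.th_mul hc hd] at h
  have hk : ∃ k l, k < 2 ∧ l < 2 ∧ d * c = c * d * C.zel k l := by
    have hR : (c * d)⁻¹ * (d * c) ∈ C.R := mul_mem (inv_mem (mul_mem hc hd)) (mul_mem hd hc)
    have e : ∀ f : G → ℕ, (∀ x ∈ C.R, ∀ y ∈ C.R, f (x * y) = Nat.xor (f x) (f y)) →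
        f ((c * d)⁻¹ * (d * c)) = 0 := fun f hf => by
      have h1 : c * d * ((c * d)⁻¹ * (d * c)) = d * c := by group
      have h2 := congrArg f h1
      rw [hf _ (mul_mem hc hd) _ hR, hf _ hc _ hd, hf _ hd _ hc,
        show Nat.xor (f d) (f c) = Nat.xor (f c) (f d) from Nat.xor_comm _ _] at h2
      calc f ((c * d)⁻¹ * (d * c)) = Nat.xor (Nat.xor (f c) (f d))
            (Nat.xor (Nat.xor (f c) (f d)) (f ((c * d)⁻¹ * (d * c)))) :=
          (by rw [← show ∀ p q r, Nat.xor (Nat.xor p q) r = Nat.xor p (Nat.xor q r) from Nat.xor_assoc, xor_self', zero_xor'])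
        _ = 0 := by rw [h2, xor_self']
    obtain ⟨k, l, hk, hl, ek⟩ := C.kernel hR (e C.fst fun x hx y hy => C.fst_hom hx hy)
      (e C.th fun x hx y hy => C.th_mul hx hy)
    exact ⟨k, l, hk, hl, by rw [← ek]; group⟩
  obtain ⟨k, l, hk, hl, ek⟩ := hk
  have hcd : c * d * (c * d) = C.zel (sz (C.fst c) (C.th c)) (sx (C.fst c) (C.th c)) *
      C.zel k l * C.zel (sz (C.fst d) (C.th d)) (sx (C.fst d) (C.th d)) := by
    rw [← C.sq_law hc, ← C.sq_law hd]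
    calc c * d * (c * d) = c * (d * c) * d := by group
      _ = c * c * (d * C.zel k l) * d := by rw [ek]; group
      _ = _ := by rw [(C.zel_comm k l hd.1 hd.2.1).eq]; group
  rw [h, C.zel_mul, C.zel_mul] at hcd
  obtain ⟨a1, a2⟩ := C.zel_inj (Nat.mod_lt _ (by omega)) (Nat.mod_lt _ (by omega)) (Nat.mod_lt _ (by omega))
    (Nat.mod_lt _ (by omega)) hcd
  have hc' : Commute c d ↔ k = 0 ∧ l = 0 := by
    constructor
    · intro hcom
      refine C.zel_inj hk hl (by omega) (by omega) ?_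
      rw [C.zel_zero]; exact mul_eq_left.1 (ek.symm.trans hcom.symm.eq)
    · rintro ⟨rfl, rfl⟩
      rw [C.zel_zero, mul_one] at ek
      exact ek.symm
  rw [hc']
  simp only [cz, cx]
  simp only [sz, sx] at a1 a2 ⊢
  omega

end Cfsg.Agent.Spor.SuzT.Rad
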