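import Cfsg.Agent.Lib.Spor.SuzR.Codes

/-!
Groups of Suzuki sporadic type: the isometries fixing a point and acting trivially around it, as vectors.
-/

set_option autoImplicit false
set_option maxRecDepth 100000

namespace Cfsg.Agent.Spor.SuzT.Rad

open Chk Dat Cfsg.Agent.Classical

/-- the hyperplane at the first point -/
def Hyp0 (v : V) : Prop := pol e0 v = 0

/-- projection of a vector -/
def nv (v : V) : ℕ := n4 (enc v)

theorem hyp0_iff (v : V) : Hyp0 v ↔ bit (enc v) 2 = 0 := by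
  rw [Hyp0, pol_eq_zero, e0_facts.2.2]
  have h := List.all_eq_true.mp perp_ok (enc v) (List.mem_range.mpr (enc_lt v))
  rw [Nat.eq_of_beq_eq_true h]

theorem proj_spec {c : ℕ} (hc : c < 64) :
    n4 c < 16 ∧ (bit c 2 = 0 → qc c = q4 (n4 c)) ∧ (bit c 2 = 0 → n4 c = 0 → c ≤ 1) ∧
      ∀ d < 64, n4 (Nat.xor c d) = Nat.xor (n4 c) (n4 d) ∧
        (bit c 2 = 0 → bit d 2 = 0 → pc c d = p4 (n4 c) (n4 d)) := by
  have h := List.all_eq_true.mp proj_ok c (List.mem_range.mpr hc)
  simp only [Bool.and_eq_true, List.all_eq_true, List.mem_range, Bool.or_eq_true, Bool.not_eq_true'] at h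
  obtain ⟨⟨⟨h1, h2⟩, h3⟩, h4⟩ := h
  refine ⟨Nat.le_of_ble_eq_true h1, fun e => ?_, fun e e' => ?_, fun d hd => ⟨Nat.eq_of_beq_eq_true (h4 d hd).1,
    fun e e' => ?_⟩⟩
  · rcases h2 with h2 | h2
    · rw [e] at h2; cases h2
    · exact Nat.eq_of_beq_eq_true h2
  · rcases h3 with (h3 | h3) | h3
    · rw [e] at h3; cases h3
    · rw [e'] at h3; cases h3
    · exact Nat.le_of_ble_eq_true h3
  · rcases (h4 d hd).2 with (h5 | h5) | h5
    · rw [e] at h5; cases h5
    · rw [e'] at h5; cases h5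
    · exact Nat.eq_of_beq_eq_true h5

theorem nv_lt (v : V) : nv v < 16 := (proj_spec (enc_lt v)).1

theorem nv_add (v w : V) : nv (v + w) = Nat.xor (nv v) (nv w) := by
  rw [nv, enc_add]
  exact ((proj_spec (enc_lt v)).2.2.2 _ (enc_lt w)).1

theorem nv_zero : nv 0 = 0 := by rw [nv, enc_zero]; rfl

theorem nv_e0 : nv e0 = 0 := by rw [nv, e0_facts.2.2]; rfl

theorem qm_nv {v : V} (h : Hyp0 v) : qm v = (q4 (nv v) : ZMod 2) := by
  rw [qm_enc, (proj_spec (enc_lt v)).2.1 ((hyp0_iff v).1 h)]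
  rfl

theorem pol_nv {v w : V} (hv : Hyp0 v) (hw : Hyp0 w) : pol v w = (p4 (nv v) (nv w) : ZMod 2) := by
  rw [pol_enc, ((proj_spec (enc_lt v)).2.2.2 _ (enc_lt w)).2 ((hyp0_iff v).1 hv) ((hyp0_iff w).1 hw)]
  rfl

theorem nv_eq_zero {v : V} (hv : Hyp0 v) (h : nv v = 0) : v = 0 ∨ v = e0 := by
  have h1 := (proj_spec (enc_lt v)).2.2.1 ((hyp0_iff v).1 hv) h
  rcases Nat.le_one_iff_eq_zero_or_eq_one.mp h1 with e | e
  · exact Or.inl (enc_injective (e.trans enc_zero.symm))
  · exact Or.inr (enc_injective (e.trans e0_facts.2.2.symm))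

theorem hyp0_add {v w : V} (hv : Hyp0 v) (hw : Hyp0 w) : Hyp0 (v + w) := by
  rw [Hyp0] at *
  rw [pol_add_right, hv, hw, add_zero]

theorem hyp0_e0 : Hyp0 e0 := pol_self e0

/-- the vector opposite the first point -/
def f0 : V := vec 4

theorem enc_f0 : enc f0 = 4 := enc_vec 4 (by norm_num)

/-- the radical vector of an isometry -/
noncomputable def th (g : Ga) : ℕ := nv (g • f0 + f0)

theorem th_cols {g : Ga} {L : List ℕ} (h : IsCols (g : OG) L) : th g = thL L := by
  rw [th, nv, enc_add, enc_smul h, enc_f0]; rfl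

theorem th_lt (g : Ga) : th g < 16 := nv_lt _

theorem th_one : th 1 = 0 := by rw [th, one_smul, ZModModule.add_self, nv_zero]

theorem rad_spec {g : Ga} (h : RadAt g) :
    Hyp0 (g • f0 + f0) ∧ (th g = 0 ↔ g = 1) ∧ (IsConj sA g ↔ th g ≠ 0 ∧ q4 (th g) = 0) ∧
      (∀ v, Hyp0 v → enc (g • v) = Nat.xor (enc v) (p4 (nv v) (th g))) ∧
      (∀ v, ¬ Hyp0 v → g ≠ 1 → nv (g • v + v) ≠ 0) := by
  obtain ⟨e, he, hc⟩ := rad_cols h
  have hr := List.all_eq_true.mp radVec_ok e he
  simp only [Bool.and_eq_true, List.all_eq_true, List.mem_range, beq_iff_eq] at hr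
  obtain ⟨⟨⟨h2, h0⟩, hA⟩, hall⟩ := hr
  have hone : g = 1 ↔ e.1 = idL :=
    ⟨fun e' => hc.unique (by rw [e']; exact IsCols.one), fun e' => Subtype.ext (hc.ext (e' ▸ IsCols.one))⟩
  have h0' : th g = 0 ↔ g = 1 := by
    rw [th_cols hc, hone]
    constructor
    · intro e'; rw [e', Nat.beq_refl] at h0; exact beq_iff_eq.1 h0.symm
    · intro e'; rw [beq_iff_eq.2 e'] at h0; exact Nat.eq_of_beq_eq_true h0
  refine ⟨?_, h0', ?_, fun v hv => ?_, fun v hv hg => ?_⟩
  · rw [hyp0_iff, enc_add, enc_smul hc, enc_f0]; exact Nat.eq_of_beq_eq_true h2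
  · have hin : IsConj sA g ↔ (clsA.any fun f => f.1 == e.1) = true := by
      simp only [List.any_eq_true, beq_iff_eq]
      constructor
      · intro hg
        obtain ⟨f, hf, hf'⟩ := (cls_spec clsA_ok rep_spec.1).2 g hg
        exact ⟨f, hf, hf'.unique hc⟩
      · rintro ⟨f, hf, hf'⟩
        have hk := clsA_ok
        simp only [clsOK, Bool.and_eq_true, List.all_eq_true, List.any_eq_true, decide_eq_true_eq, beq_iff_eq,
          List.mem_range] at hk
        obtain ⟨⟨⟨⟨hw, he'⟩, hl⟩, hlt⟩, -⟩ := hk.2 f hf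
        refine isConj_iff.2 ⟨we f.2, Subtype.ext ?_⟩
        have h4 : IsCols ((we f.2 * sA * (we f.2)⁻¹ : Ga) : OG) f.1 := by
          refine IsCols.of_mul (Nat.eq_of_beq_eq_true hl) (fun a ha => Nat.le_of_ble_eq_true (hlt a ha)) (we_cols hw) ?_
          rw [show ((we f.2 * sA * (we f.2)⁻¹ : Ga) : OG) * ((we f.2 : Ga) : OG) =
              ((we f.2 : Ga) : OG) * sA by push_cast; group, ← show mulL (wp f.2) sa = mulL f.1 (wp f.2) from he']
          exact (we_cols hw).mul rep_spec.1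
        exact h4.ext (hf' ▸ hc)
    rw [hin, th_cols hc, hA]
    simp only [Bool.and_eq_true, Bool.not_eq_true']
    constructor
    · intro h'
      refine ⟨fun e' => ?_, Nat.eq_of_beq_eq_true h'.2⟩
      rw [e', Nat.beq_refl] at h'
      exact absurd h'.1 (by simp)
    · intro h'
      refine ⟨?_, by rw [h'.2]; exact Nat.beq_refl _⟩
      rw [← Bool.not_eq_true]
      exact fun e' => h'.1 (Nat.eq_of_beq_eq_true e')
  · have hb := hall _ (enc_lt v)
    rw [(hyp0_iff v).1 hv, Nat.beq_refl, cond_true] at hb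
    rw [enc_smul hc, th_cols hc, Nat.eq_of_beq_eq_true hb]
    rfl
  · have hb := hall _ (enc_lt v)
    have hf : Nat.beq (bit (enc v) 2) 0 = false := by
      rw [← Bool.not_eq_true]; exact fun e' => hv ((hyp0_iff v).2 (Nat.eq_of_beq_eq_true e'))
    rw [hf, cond_false, Bool.or_eq_true, Bool.not_eq_true'] at hb
    rw [nv, enc_add, enc_smul hc]
    intro e'
    rcases hb with hb | hb
    · exact hg (h0'.1 (by rw [th_cols hc]; exact Nat.eq_of_beq_eq_true hb))
    · rw [e', Nat.beq_refl] at hb; cases hb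

theorem rad_mul {g h : Ga} (hg : RadAt g) (hh : RadAt h) : RadAt (g * h) := by
  refine ⟨by rw [mul_smul, hh.1, hg.1], fun v hv => ?_⟩
  rw [mul_smul]
  rcases hh.2 v hv with e | e <;> rw [e]
  · exact hg.2 v hv
  · rw [smul_add', hg.1]
    rcases hg.2 v hv with e' | e' <;> rw [e']
    · exact Or.inr rfl
    · exact Or.inl (by rw [add_assoc, ZModModule.add_self, add_zero])

theorem rad_one : RadAt (1 : Ga) := ⟨one_smul _ _, fun v _ => Or.inl (one_smul _ v)⟩

theorem th_mul {g h : Ga} (hg : RadAt g) (hh : RadAt h) : th (g * h) = Nat.xor (th g) (th h) := by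
  have hd := (rad_spec hh).1
  have e : g • (h • f0 + f0) = h • f0 + f0 ∨ g • (h • f0 + f0) = h • f0 + f0 + e0 := hg.2 _ hd
  rw [smul_add', ← mul_smul] at e
  rw [th, th, th, show ∀ a b, Nat.xor a b = Nat.xor b a from Nat.xor_comm, ← nv_add]
  rcases e with e | e
  · refine congrArg nv ?_
    calc (g * h) • f0 + f0 = (g * h) • f0 + g • f0 + (g • f0 + f0) := by
          rw [add_assoc, ← add_assoc (g • f0) (g • f0), ZModModule.add_self, zero_add]
      _ = _ := by rw [e]
  · calc nv ((g * h) • f0 + f0) = nv ((g * h) • f0 + g • f0 + (g • f0 + f0)) := by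
          rw [add_assoc, ← add_assoc (g • f0) (g • f0), ZModModule.add_self, zero_add]
      _ = nv (h • f0 + f0 + (g • f0 + f0)) := by
        rw [e, nv_add, nv_add (h • f0 + f0) e0, nv_e0, nv_add (h • f0 + f0), show ∀ a, Nat.xor a 0 = a from Nat.xor_zero]

end Cfsg.Agent.Spor.SuzT.Rad
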