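import Mathlib
import Cfsg.Agent.Lib.Solv.CIT.Basic

/-!
Normalisers of subgroups of order seven in a simple group of order 20160 with two-closed involution centralisers.
-/

set_option autoImplicit false
set_option maxRecDepth 100000
set_option linter.unusedSectionVars false
set_option linter.style.haveILetI false

namespace Cfsg.Agent.Spor.SuzT.Seven

open Cfsg.Agent.Solv.CITGroups (CIT orderOf_two_iff)

universe u

variable {M : Type u} [Group M] [Finite M]

/-- Burnside's criterion in a simple group -/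
theorem norm_ne_cent [IsSimpleGroup M] {p : ℕ} [Fact p.Prime] (P : Sylow p M) (h1 : Nat.card P ≠ 1)
    (h2 : Nat.card P ≠ Nat.card M) :
    ¬ Subgroup.normalizer ((P : Subgroup M) : Set M) ≤ Subgroup.centralizer ((P : Subgroup M) : Set M) := by
  intro h
  have hc := MonoidHom.ker_transferSylow_isComplement' P h
  have hcm := hc.card_mul
  rcases (MonoidHom.transferSylow P h).normal_ker.eq_bot_or_eq_top with e | e
  · rw [e, Subgroup.card_bot, one_mul] at hcm
    exact h2 hcm
  · rw [e, Subgroup.card_top] at hcm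
    exact h1 (Nat.eq_of_mul_eq_mul_left Nat.card_pos (hcm.trans (mul_one _).symm))

theorem card_norm (Q : Subgroup M) :
    ∃ e, e ∣ Nat.card (MulAut Q) ∧
      Nat.card ↥(Subgroup.normalizer (Q : Set M)) = Nat.card ↥(Subgroup.centralizer (Q : Set M)) * e := by
  let f := Q.normalizerMonoidHom
  refine ⟨Nat.card f.range, f.range.card_subgroup_dvd_card, ?_⟩
  rw [Subgroup.card_eq_card_quotient_mul_card_subgroup f.ker, mul_comm,
    Nat.card_congr (QuotientGroup.quotientKerEquivRange f).toEquiv]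
  congr 1
  rw [show f.ker = (Subgroup.centralizer (Q : Set M)).subgroupOf (Subgroup.normalizer (Q : Set M)) from
    Subgroup.normalizerMonoidHom_ker _]
  exact Nat.card_congr (Subgroup.subgroupOfEquivOfLe (Subgroup.centralizer_le_normalizer _)).toEquiv

theorem card_aut_prime {Q : Subgroup M} {p : ℕ} (hp : p.Prime) (hQ : Nat.card Q = p) :
    Nat.card (MulAut Q) = p - 1 := by
  haveI := Fact.mk hp
  haveI : IsCyclic Q := isCyclic_of_prime_card hQ
  rw [IsCyclic.card_mulAut, hQ, Nat.totient_prime hp]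

theorem odd_cent (hcit : CIT M) {Q : Subgroup M} (hQ : Odd (Nat.card Q)) (hne : Q ≠ ⊥) :
    Odd (Nat.card ↥(Subgroup.centralizer (Q : Set M))) := by
  refine Nat.not_even_iff_odd.1 fun he => ?_
  haveI : Fact (Nat.Prime 2) := ⟨Nat.prime_two⟩
  obtain ⟨⟨t, ht⟩, hto⟩ := exists_prime_orderOf_dvd_card' 2 (even_iff_two_dvd.1 he)
  rw [Subgroup.orderOf_mk] at hto
  refine hne ((Subgroup.eq_bot_iff_forall Q).2 fun q hq => ?_)
  exact hcit.eq_one_of_commute hto (hQ.of_dvd_nat (Subgroup.orderOf_dvd_natCard Q hq))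
    (Subgroup.mem_centralizer_iff.1 ht q hq)

/-- number of Sylow subgroups of a subgroup -/
theorem sylow_count {p : ℕ} [Fact p.Prime] (D : Subgroup M) (Q : Subgroup M) (hQD : Q ≤ D)
    (hQ : Nat.card Q = p) (hD : ¬ p * p ∣ Nat.card D) :
    ∃ n, n % p = 1 ∧ n * Nat.card ↥(D ⊓ Subgroup.normalizer (Q : Set M)) = Nat.card D := by
  have hp : p.Prime := Fact.out
  let S : Sylow p D := (IsPGroup.of_card (n := 1)
    (by rw [Nat.card_congr (Subgroup.subgroupOfEquivOfLe hQD).toEquiv, hQ, pow_one]) :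
      IsPGroup p (Q.subgroupOf D)).toSylow (by
    intro hd
    refine hD ?_
    have h := (Q.subgroupOf D).card_mul_index
    rw [Nat.card_congr (Subgroup.subgroupOfEquivOfLe hQD).toEquiv, hQ] at h
    rw [← h]
    exact Nat.mul_dvd_mul_left p hd)
  refine ⟨Nat.card (Sylow p D), ?_, ?_⟩
  · have := card_sylow_modEq_one p D
    rw [Nat.ModEq, Nat.one_mod_eq_one.2 hp.ne_one] at this
    exact this
  · rw [S.card_eq_index_normalizer]
    have e : Subgroup.normalizer (S : Set D) = (D ⊓ Subgroup.normalizer (Q : Set M)).subgroupOf D := by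
      ext x
      show x ∈ Subgroup.normalizer ((S : Subgroup D) : Set D) ↔ _
      rw [Subgroup.mem_normalizer_iff, Subgroup.mem_subgroupOf]
      constructor
      · intro h
        refine ⟨x.2, Subgroup.mem_normalizer_iff.2 fun y => ⟨fun hy => ?_, fun hy => ?_⟩⟩
        · exact (h ⟨y, hQD hy⟩).1 hy
        · have hyD : y ∈ D := by
            have h2 := D.mul_mem (D.mul_mem (D.inv_mem x.2) (hQD hy)) x.2
            rwa [show (x : M)⁻¹ * (x * y * (x : M)⁻¹) * x = y by group] at h2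
          exact (h ⟨y, hyD⟩).2 hy
      · rintro ⟨-, h⟩ y
        exact Subgroup.mem_normalizer_iff.1 h (y : M)
    rw [e, mul_comm,
      ← Nat.card_congr (Subgroup.subgroupOfEquivOfLe (inf_le_left : D ⊓ Subgroup.normalizer (Q : Set M) ≤ D)).toEquiv]
    exact Subgroup.card_mul_index _

theorem pairs : ∀ c < 46, ∀ e < 7, ∀ n < 2881, c ∣ 45 → e ∣ 6 → n * (c * e) = 2880 → n % 7 = 1 →
    e = 1 ∨ (c, e) = (1, 3) ∨ (c, e) = (5, 2) ∨ (c, e) = (15, 3) := by
  intro c hc e he n hn hc45 he6 h1 h2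
  have hn' : n = 2880 / (c * e) := by
    rw [← h1, Nat.mul_div_cancel _ (Nat.pos_of_ne_zero fun e0 => by rw [e0, mul_zero] at h1; omega)]
  have hdv : c * e ∣ 2880 := ⟨n, by rw [← h1, mul_comm]⟩
  subst hn'
  exact (by decide +kernel : ∀ c : Fin 46, ∀ e : Fin 7, (c : ℕ) ∣ 45 → (e : ℕ) ∣ 6 → (c : ℕ) * e ∣ 2880 → 2880 / ((c : ℕ) * e) % 7 = 1 →
    (e : ℕ) = 1 ∨ ((c : ℕ), (e : ℕ)) = (1, 3) ∨ ((c : ℕ), (e : ℕ)) = (5, 2) ∨ ((c : ℕ), (e : ℕ)) = (15, 3))
    ⟨c, hc⟩ ⟨e, he⟩ hc45 he6 hdv h2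

variable [IsSimpleGroup M] (hcit : CIT M) (hc : Nat.card M = 20160)
include hcit hc

theorem cent_five (Q : Subgroup M) (hQ : Nat.card Q = 7) {c e : ℕ}
    (hcc : Nat.card ↥(Subgroup.centralizer (Q : Set M)) = 7 * c)
    (hNe : Nat.card ↥(Subgroup.normalizer (Q : Set M)) = 7 * c * e)
    (h52' : (c, e) = (5, 2) ∨ (c, e) = (15, 3)) : False := by
  have h52 : c = 5 ∧ e = 2 ∨ c = 15 ∧ e = 3 := by simpa [Prod.ext_iff] using h52'
  clear h52'
  haveI : Fact (Nat.Prime 7) := ⟨by norm_num⟩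
  haveI : Fact (Nat.Prime 5) := ⟨by norm_num⟩
  haveI : Fact (Nat.Prime 2) := ⟨Nat.prime_two⟩
  have hQne : Q ≠ ⊥ := fun e => by rw [e, Subgroup.card_bot] at hQ; omega
  haveI : IsCyclic Q := isCyclic_of_prime_card hQ
  have hQab : ∀ a ∈ Q, ∀ b ∈ Q, a * b = b * a := fun a ha b hb =>
    congrArg Subtype.val ((IsCyclic.commGroup (α := Q)).mul_comm ⟨a, ha⟩ ⟨b, hb⟩)
  have hQC : Q ≤ Subgroup.centralizer (Q : Set M) := fun a ha =>
    Subgroup.mem_centralizer_iff.2 fun b hb => hQab b hb a ha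
  set C := Subgroup.centralizer (Q : Set M) with hC
  set N := Subgroup.normalizer (Q : Set M) with hN
  have hodd : Odd (Nat.card C) := odd_cent hcit (by rw [hQ]; decide) hQne
  have h5 : 5 ∣ Nat.card C := by
    rw [hcc]; rcases h52 with ⟨rfl, rfl⟩ | ⟨rfl, rfl⟩ <;> norm_num
  obtain ⟨⟨a, haC⟩, hao⟩ := exists_prime_orderOf_dvd_card' (G := C) 5 h5
  rw [Subgroup.orderOf_mk] at hao
  set A := Subgroup.zpowers a with hA
  have hAc : Nat.card A = 5 := (Nat.card_zpowers a).trans hao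
  have hAC : A ≤ C := Subgroup.zpowers_le.2 haC
  have hCA : C ≤ Subgroup.normalizer (A : Set M) := by
    obtain ⟨m, hm5, hm⟩ := sylow_count C A hAC hAc (by
      rw [hcc]; rcases h52 with ⟨rfl, rfl⟩ | ⟨rfl, rfl⟩ <;> norm_num)
    have h35 : 35 ∣ Nat.card ↥(C ⊓ Subgroup.normalizer (A : Set M)) := by
      refine Nat.Coprime.mul_dvd_of_dvd_of_dvd (m := 5) (n := 7) (by norm_num) ?_ ?_
      · exact hAc ▸ Subgroup.card_dvd_of_le (le_inf hAC Subgroup.le_normalizer)
      · refine hQ ▸ Subgroup.card_dvd_of_le (le_inf hQC fun q hq => Subgroup.centralizer_le_normalizer _ ?_)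
        refine Subgroup.mem_centralizer_iff.2 fun x hx => ?_
        exact ((Subgroup.mem_centralizer_iff.1 (hAC hx)) q hq).symm
    obtain ⟨k, hk⟩ := h35
    rw [hk, hcc] at hm
    have hm1 : m = 1 := by
      have hk0 : k ≠ 0 := fun e0 => by rw [e0, mul_zero, mul_zero] at hm; omega
      have hmk : m * k ≤ 3 := by rcases h52 with ⟨rfl, rfl⟩ | ⟨rfl, rfl⟩ <;> linarith
      have := Nat.le_mul_of_pos_right m (Nat.pos_of_ne_zero hk0)
      omega
    rw [hm1, one_mul, ← hk, ← hcc] at hm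
    exact inf_eq_left.1 (Subgroup.eq_of_le_of_card_ge inf_le_left hm.ge)
  have hCA' : C ≤ Subgroup.centralizer (A : Set M) := by
    intro x hx
    have h1 : orderOf ((A.normalizerMonoidHom) ⟨x, hCA hx⟩) = 1 := by
      refine Nat.eq_one_of_dvd_coprimes (k := orderOf ((A.normalizerMonoidHom) ⟨x, hCA hx⟩)) (a := Nat.card C) (b := 4)
        ((show (4 : ℕ) = 2 ^ 2 from rfl) ▸ (Nat.coprime_two_right.2 hodd).pow_right 2) ?_
        ((orderOf_dvd_natCard _).trans (dvd_of_eq (card_aut_prime (by norm_num) hAc)))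
      refine (orderOf_map_dvd _ _).trans ?_
      rw [Subgroup.orderOf_mk]
      exact Subgroup.orderOf_dvd_natCard C hx
    have h2 : (⟨x, hCA hx⟩ : Subgroup.normalizer (A : Set M)) ∈ A.normalizerMonoidHom.ker :=
      orderOf_eq_one_iff.1 h1
    rw [Subgroup.normalizerMonoidHom_ker] at h2
    exact h2
  set D := Subgroup.centralizer (A : Set M) with hD
  have hDodd : Odd (Nat.card D) :=
    odd_cent hcit (by rw [hAc]; decide) fun e => by rw [e, Subgroup.card_bot] at hAc; omega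
  have hD315 : Nat.card D ∣ 315 :=
    ((show (64 : ℕ) = 2 ^ 6 from rfl) ▸ (Nat.coprime_two_right.2 hDodd).pow_right 6 :
      Nat.Coprime (Nat.card D) 64).dvd_of_dvd_mul_left (by
        rw [show 64 * 315 = Nat.card M from hc.symm]; exact D.card_subgroup_dvd_card)
  have hDN : D ≤ N := by
    obtain ⟨m, hm7, hm⟩ := sylow_count D Q (hQC.trans hCA') hQ (by
      intro hd; have := hd.trans hD315; norm_num at this)
    have hCle : 7 * c ∣ Nat.card ↥(D ⊓ N) :=
      hcc ▸ Subgroup.card_dvd_of_le (le_inf hCA' (Subgroup.centralizer_le_normalizer _))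
    obtain ⟨k, hk⟩ := hCle
    rw [hk] at hm
    have hm1 : m = 1 := by
      obtain ⟨l, hl⟩ := hD315
      rw [← hm] at hl
      have hmd : m ∣ 9 := by
        rcases h52 with ⟨rfl, rfl⟩ | ⟨rfl, rfl⟩
        · exact ⟨k * l, by linarith⟩
        · exact ⟨k * l * 3, by linarith⟩
      have hle := Nat.le_of_dvd (by norm_num) hmd
      interval_cases m <;> omega
    rw [hm1, one_mul, ← hk] at hm
    exact inf_eq_left.1 (Subgroup.eq_of_le_of_card_ge inf_le_left hm.ge)
  obtain ⟨e5, he5, hNA⟩ := card_norm A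
  rw [card_aut_prime (by norm_num) hAc] at he5
  rw [← hD] at hNA
  have he51 : e5 ≠ 1 := by
    intro e1
    let S : Sylow 5 M := (IsPGroup.of_card (n := 1) (by rw [hAc, pow_one]) : IsPGroup 5 A).toSylow (by
      intro hd
      have h := A.card_mul_index
      rw [hAc, hc] at h
      obtain ⟨k, hk⟩ := hd
      omega)
    refine norm_ne_cent S (by rw [show Nat.card S = Nat.card A from rfl, hAc]; omega)
      (by rw [show Nat.card S = Nat.card A from rfl, hAc, hc]; omega) ?_
    refine (Subgroup.eq_of_le_of_card_ge (Subgroup.centralizer_le_normalizer _) ?_).ge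
    show Nat.card ↥(Subgroup.normalizer (A : Set M)) ≤ Nat.card D
    rw [hNA, e1, mul_one]
  rcases h52 with ⟨rfl, rfl⟩ | ⟨rfl, rfl⟩
  · -- a normaliser of order seventy
    obtain ⟨m, hm5, hm⟩ := sylow_count ⊤ A le_top hAc (by rw [Subgroup.card_top, hc]; norm_num)
    rw [top_inf_eq, Subgroup.card_top, hc, hNA] at hm
    have hD35 : Nat.card D = 35 := by
      refine Nat.dvd_antisymm ?_ (by rw [show 35 = Nat.card C from hcc.symm]; exact Subgroup.card_dvd_of_le hCA')
      have h2 : Nat.card D ∣ 2 * 35 := by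
        rw [show 2 * 35 = 7 * 5 * 2 by norm_num, ← hNe]; exact Subgroup.card_dvd_of_le hDN
      exact (Nat.coprime_two_right.2 hDodd).dvd_of_dvd_mul_left h2
    rw [hD35] at hm
    have h4 : e5 = 2 ∨ e5 = 4 := by
      have hle := Nat.le_of_dvd (by norm_num) he5
      interval_cases e5 <;> simp_all
    rcases h4 with rfl | rfl <;> omega
  · -- an involution in a group of odd order
    have hev : 2 ∣ Nat.card ↥(Subgroup.normalizer (A : Set M)) := by
      rw [hNA]
      refine Dvd.dvd.mul_left ?_ _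
      have hle := Nat.le_of_dvd (by norm_num) he5
      interval_cases e5 <;> simp_all
    obtain ⟨⟨y, hy⟩, hyo⟩ := exists_prime_orderOf_dvd_card' 2 hev
    rw [Subgroup.orderOf_mk] at hyo
    have hyN : y ∈ N := by
      have hDn : ∀ d ∈ D, y * d * y⁻¹ ∈ D := fun d hd => Subgroup.mem_centralizer_iff.2 fun x hx => by
        have hx' : y⁻¹ * x * y ∈ A := (Subgroup.mem_normalizer_iff''.1 hy x).1 hx
        have h := Subgroup.mem_centralizer_iff.1 hd _ hx'
        calc x * (y * d * y⁻¹) = y * ((y⁻¹ * x * y) * d) * y⁻¹ := by group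
          _ = y * (d * (y⁻¹ * x * y)) * y⁻¹ := by rw [h]
          _ = y * d * y⁻¹ * x := by group
      have hseven : ∀ g ∈ N, g ^ 7 = 1 → g ∈ Q := by
        intro g hg hg7
        have hnor : (Q.subgroupOf N).Normal := Subgroup.normal_in_normalizer
        haveI := hnor
        have h1 : orderOf (QuotientGroup.mk' (Q.subgroupOf N) ⟨g, hg⟩) = 1 := by
          refine Nat.eq_one_of_dvd_coprimes (k := orderOf (QuotientGroup.mk' (Q.subgroupOf N) ⟨g, hg⟩)) (a := 7) (b := 45)
            (by norm_num) (orderOf_dvd_of_pow_eq_one (by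
              rw [← map_pow, show (⟨g, hg⟩ : N) ^ 7 = 1 from Subtype.ext hg7, map_one])) ?_
          refine (orderOf_dvd_natCard _).trans (dvd_of_eq ?_)
          have h := Subgroup.card_eq_card_quotient_mul_card_subgroup (Q.subgroupOf N)
          rw [hNe, Nat.card_congr (Subgroup.subgroupOfEquivOfLe Subgroup.le_normalizer).toEquiv, hQ] at h
          omega
        have h2 : (⟨g, hg⟩ : N) ∈ Q.subgroupOf N := (QuotientGroup.eq_one_iff _).1 (orderOf_eq_one_iff.1 h1)
        exact h2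
      have hmap : ∀ q ∈ Q, y * q * y⁻¹ ∈ Q := fun q hq => hseven _ (hDN (hDn q (hCA' (hQC hq)))) (by
        rw [conj_pow, show q ^ 7 = 1 from hQ ▸ orderOf_dvd_iff_pow_eq_one.1 (Subgroup.orderOf_dvd_natCard Q hq)]
        group)
      refine Subgroup.mem_normalizer_iff.2 fun q => ⟨hmap q, fun hq => ?_⟩
      have hyi : y⁻¹ = y := inv_eq_of_mul_eq_one_right (orderOf_two_iff.1 hyo).1
      have h := hmap _ hq
      rwa [hyi, show y * (y * q * y) * y = (y * y) * q * (y * y) by group, (orderOf_two_iff.1 hyo).1, one_mul,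
        mul_one] at h
    have h2 := Subgroup.orderOf_dvd_natCard N hyN
    rw [hNe, hyo] at h2
    norm_num at h2


theorem seven_norm (Q : Subgroup M) (hQ : Nat.card Q = 7) :
    Nat.card ↥(Subgroup.normalizer (Q : Set M)) = 21 ∧ Subgroup.centralizer (Q : Set M) = Q := by
  haveI : Fact (Nat.Prime 7) := ⟨by norm_num⟩
  haveI : Fact (Nat.Prime 5) := ⟨by norm_num⟩
  haveI : Fact (Nat.Prime 2) := ⟨Nat.prime_two⟩
  have hQne : Q ≠ ⊥ := fun e => by rw [e, Subgroup.card_bot] at hQ; omega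
  haveI : IsCyclic Q := isCyclic_of_prime_card hQ
  have hQab : ∀ a ∈ Q, ∀ b ∈ Q, a * b = b * a := fun a ha b hb =>
    congrArg Subtype.val ((IsCyclic.commGroup (α := Q)).mul_comm ⟨a, ha⟩ ⟨b, hb⟩)
  have hQC : Q ≤ Subgroup.centralizer (Q : Set M) := fun a ha =>
    Subgroup.mem_centralizer_iff.2 fun b hb => hQab b hb a ha
  set C := Subgroup.centralizer (Q : Set M) with hC
  set N := Subgroup.normalizer (Q : Set M) with hN
  have hodd : Odd (Nat.card C) := odd_cent hcit (by rw [hQ]; decide) hQne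
  obtain ⟨c, hcc⟩ : ∃ c, Nat.card C = 7 * c := by
    obtain ⟨c, e⟩ := Subgroup.card_dvd_of_le hQC
    exact ⟨c, by rw [e, hQ]⟩
  have hc45 : c ∣ 45 := by
    have h1 : 7 * c ∣ 7 * (64 * 45) := by
      rw [← hcc, show 7 * (64 * 45) = Nat.card M from hc.symm]; exact C.card_subgroup_dvd_card
    refine Nat.Coprime.dvd_of_dvd_mul_left ?_ (Nat.dvd_of_mul_dvd_mul_left (by norm_num) h1)
    rw [hcc] at hodd
    exact (show (64 : ℕ) = 2 ^ 6 from rfl) ▸
      (Nat.coprime_two_right.2 (Nat.odd_mul.1 hodd).2).pow_right 6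
  obtain ⟨e, he, hNe⟩ := card_norm Q
  rw [card_aut_prime (by norm_num) hQ] at he
  rw [← hN, ← hC, hcc] at hNe
  obtain ⟨n, hn7, hn⟩ := sylow_count ⊤ Q le_top hQ (by rw [Subgroup.card_top, hc]; norm_num)
  rw [top_inf_eq, ← hN, Subgroup.card_top, hc, hNe] at hn
  have hn' : n * (c * e) = 2880 := by
    have : 7 * (n * (c * e)) = 7 * 2880 := by rw [show 7 * 2880 = 20160 from rfl, ← hn]; ring
    omega
  have hc46 : c < 46 := Nat.lt_succ_of_le (Nat.le_of_dvd (by norm_num) hc45)
  have he7 : e < 7 := Nat.lt_succ_of_le (Nat.le_of_dvd (by norm_num) he)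
  have hn2881 : n < 2881 := by
    refine Nat.lt_succ_of_le (Nat.le_of_dvd (by norm_num) ⟨_, hn'.symm⟩)
  rcases pairs c hc46 e he7 n hn2881 hc45 he hn' hn7 with rfl | hce | hce | hce
  · exfalso
    let S : Sylow 7 M := (IsPGroup.of_card (n := 1) (by rw [hQ, pow_one]) : IsPGroup 7 Q).toSylow (by
      intro hd
      have h := Q.card_mul_index
      rw [hQ, hc] at h
      obtain ⟨k, hk⟩ := hd
      omega)
    refine norm_ne_cent S (by rw [show Nat.card S = Nat.card Q from rfl, hQ]; omega)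
      (by rw [show Nat.card S = Nat.card Q from rfl, hQ, hc]; omega) ?_
    refine (Subgroup.eq_of_le_of_card_ge (Subgroup.centralizer_le_normalizer _) ?_).ge
    show Nat.card N ≤ Nat.card C
    rw [hNe, hcc, mul_one]
  · obtain ⟨rfl, rfl⟩ : c = 1 ∧ e = 3 := Prod.ext_iff.1 hce
    exact ⟨hNe, (Subgroup.eq_of_le_of_card_ge hQC (by rw [hcc, hQ])).symm⟩
  all_goals exact (cent_five hcit hc Q hQ hcc hNe (by tauto)).elim

end Cfsg.Agent.Spor.SuzT.Seven
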