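import Cfsg.Agent.Lib.Spor.SuzR.SevenInner
import Cfsg.Agent.Lib.Spor.SuzR.SevenM
import Cfsg.Agent.Lib.Char.ZStar

/-!
Groups of Suzuki sporadic type: elements centralising or normalising a subgroup of order seven.
-/

set_option autoImplicit false
set_option maxRecDepth 100000
set_option linter.unusedSectionVars false
set_option linter.style.haveILetI false

namespace Cfsg.Agent.Spor.SuzT.Rad

open Chk Dat
open Cfsg.Agent.Solv.CITGroups (CIT orderOf_two_iff)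

universe u

variable {G : Type u} [Group G] [Finite G] {z : G} {Q : Subgroup G} {C : Ctx z Q} (L : Cfg C)

theorem Cfg.V_pow_odd {w : G} (hw : w ∈ L.V) {n : ℕ} (hn : Odd n) : w ^ n = w := by
  have hww : w * w = 1 := by
    rcases hw with e | e | e | e <;> rw [e]
    · rw [one_mul]
    · exact L.sq
    · exact L.v_sq
    · rw [show L.t * L.v * (L.t * L.v) = L.t * (L.v * L.t) * L.v by group, L.v_t.eq,
        show L.t * (L.t * L.v) * L.v = L.t * L.t * (L.v * L.v) by group, L.sq, L.v_sq, one_mul]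
  obtain ⟨k, rfl⟩ := hn
  rw [pow_succ, pow_mul, pow_two, hww, one_pow, one_mul]

theorem Cfg.bar_pow {a : G} (ha : a ∈ L.Hv) (n : ℕ) : L.bar (pow_mem ha n) = L.bar ha ^ n :=
  map_pow (QuotientGroup.mk' L.VH) ⟨a, ha⟩ n

/-- lifts of elements of odd exponent are unique -/
theorem Cfg.lift_eq {a c : G} (ha : a ∈ L.Hv) (hc : c ∈ L.Hv) {n : ℕ} (hn : Odd n) (h1 : a ^ n = 1) (h2 : c ^ n = 1)
    (h : L.bar ha = L.bar hc) : a = c := by
  have hw := (L.bar_eq ha hc).1 h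
  set w := a⁻¹ * c
  have hac : a * w = c := mul_inv_cancel_left a c
  have e : (a * w) ^ n = a ^ n * w ^ n := Commute.mul_pow (L.Hv_V ha hw) n
  rw [hac, h2, h1, one_mul, L.V_pow_odd hw hn] at e
  rwa [← e, mul_one] at hac

theorem Cfg.MQ_center {m : L.MQ} (h : ∀ n, Commute m n) : m = 1 := by
  obtain ⟨-, hs, a, b, hab⟩ := L.MQ_facts
  haveI := hs
  rcases (inferInstance : (Subgroup.center L.MQ).Normal).eq_bot_or_eq_top with e | e
  · exact Subgroup.mem_bot.1 (e ▸ Subgroup.mem_center_iff.2 fun n => (h n).eq.symm)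
  · exact absurd (Subgroup.mem_center_iff.1 (e ▸ Subgroup.mem_top b : b ∈ Subgroup.center L.MQ) a) hab

theorem Cfg.Hv_center {a : G} (ha : a ∈ L.Hv) (h : ∀ c ∈ L.Hv, Commute a c) : a ∈ L.V := by
  refine (L.bar_one_iff ha).1 (L.MQ_center fun n => ?_)
  obtain ⟨c, hc, rfl⟩ := L.bar_surj n
  rw [Commute, SemiconjBy, ← L.bar_mul, ← L.bar_mul]
  exact L.bar_congr _ _ (h c hc).eq

theorem Cfg.σ_H : L.σ ∈ L.H := L.mem_H.2 L.σ_t

theorem Cfg.H_NV {g : G} (hg : g ∈ L.H) : g ∈ L.NV := by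
  refine Tw.mem_normalizer_of fun w hw => ?_
  have ht : g * L.t * g⁻¹ = L.t := by rw [(L.mem_H.1 hg).eq, mul_inv_cancel_right]
  rcases hw with e | e | e | e <;> rw [e]
  · rw [mul_one, mul_inv_cancel]; exact one_mem _
  · rw [ht]; exact L.t_V
  · rcases L.V_normal hg with h | h <;> rw [h]
    exacts [L.v_V, mul_mem L.t_V L.v_V]
  · rw [show g * (L.t * L.v) * g⁻¹ = g * L.t * g⁻¹ * (g * L.v * g⁻¹) by group, ht]
    rcases L.V_normal hg with h | h <;> rw [h]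
    exacts [mul_mem L.t_V L.v_V, mul_mem L.t_V (mul_mem L.t_V L.v_V)]

theorem Cfg.H_split {g : G} (hg : g ∈ L.H) : g ∈ L.Hv ∨ g * L.v * g⁻¹ = L.t * L.v :=
  (L.V_normal hg).imp (fun h => L.mem_Hv.2 ⟨L.mem_H.1 hg, mul_inv_eq_iff_eq_mul.1 h⟩) id

theorem Cfg.outer_mul {g k : G} (hg : g ∈ L.Hv) (hk : k * L.v * k⁻¹ = L.t * L.v) :
    g * k * L.v * (g * k)⁻¹ = L.t * L.v := by
  rw [show g * k * L.v * (g * k)⁻¹ = g * (k * L.v * k⁻¹) * g⁻¹ by group, hk,
    (L.Hv_V hg (mul_mem L.t_V L.v_V)).eq, mul_inv_cancel_right]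

theorem Cfg.outer_notin {g : G} (h : g * L.v * g⁻¹ = L.t * L.v) : g ∉ L.Hv := fun hg => by
  rw [(L.mem_Hv.1 hg).2.eq, mul_inv_cancel_right] at h
  exact L.t_v_ne h.symm

theorem Cfg.outer_odd {g : G} (hg : g ∈ L.H) (h : g * L.v * g⁻¹ = L.t * L.v) {n : ℕ} (hn : Odd n) :
    g ^ n * L.v * (g ^ n)⁻¹ = L.t * L.v := by
  have h2 : g * g ∈ L.Hv := by
    refine L.mem_Hv.2 ⟨(L.mem_H.1 hg).mul_left (L.mem_H.1 hg), mul_inv_eq_iff_eq_mul.1 ?_⟩
    rw [show g * g * L.v * (g * g)⁻¹ = g * (g * L.v * g⁻¹) * g⁻¹ by group, h,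
      show g * (L.t * L.v) * g⁻¹ = g * L.t * g⁻¹ * (g * L.v * g⁻¹) by group, h, (L.mem_H.1 hg).eq,
      mul_inv_cancel_right, ← mul_assoc, L.sq, one_mul]
  obtain ⟨k, rfl⟩ := hn
  rw [pow_succ, pow_mul, pow_two]
  exact L.outer_mul (pow_mem h2 k) h

/-- an element of order seven of the centraliser of the four-group -/
structure Cfg.Sev (b : G) : Prop where
  mem : b ∈ L.Hv
  ord : orderOf b = 7

variable {L} {b : G} (B : L.Sev b)
include B

theorem Cfg.Sev.pow7 : b ^ 7 = 1 := B.ord ▸ pow_orderOf_eq_one b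

theorem Cfg.Sev.bar_ord : orderOf (L.bar B.mem) = 7 := by
  haveI : Fact (Nat.Prime 7) := ⟨by norm_num⟩
  refine orderOf_eq_prime (by rw [← L.bar_pow, L.bar_one_iff, B.pow7]; exact one_mem _) fun e => ?_
  have h := L.V_pow_odd ((L.bar_one_iff B.mem).1 e) (n := 7) (by decide)
  rw [B.pow7] at h
  have := B.ord
  rw [← h, orderOf_one] at this
  omega

theorem Cfg.Sev.norm_M : Nat.card ↥(Subgroup.normalizer (Subgroup.zpowers (L.bar B.mem) : Set L.MQ)) = 21 ∧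
    Subgroup.centralizer (Subgroup.zpowers (L.bar B.mem) : Set L.MQ) = Subgroup.zpowers (L.bar B.mem) := by
  obtain ⟨hc, hs, -⟩ := L.MQ_facts
  haveI := hs
  exact Seven.seven_norm L.cit hc _ ((Nat.card_zpowers _).trans B.bar_ord)

theorem Cfg.Sev.cent_bar7 {m : L.MQ} (h : Commute m (L.bar B.mem)) : ∃ i : ℕ, m = L.bar B.mem ^ i := by
  have hm : m ∈ Subgroup.centralizer (Subgroup.zpowers (L.bar B.mem) : Set L.MQ) := by
    refine Subgroup.mem_centralizer_iff.2 fun x hx => ?_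
    obtain ⟨i, rfl⟩ := hx
    exact (h.zpow_right i).eq.symm
  rw [B.norm_M.2, ← mem_powers_iff_mem_zpowers] at hm
  obtain ⟨i, hi⟩ := hm
  exact ⟨i, hi.symm⟩

theorem Cfg.Sev.norm_pow21 {m : L.MQ} {i : ℕ} (h : m * L.bar B.mem * m⁻¹ = L.bar B.mem ^ i) : m ^ 21 = 1 := by
  have hm : m ∈ Subgroup.normalizer (Subgroup.zpowers (L.bar B.mem) : Set L.MQ) := by
    refine Tw.mem_normalizer_of fun x hx => ?_
    obtain ⟨j, rfl⟩ := hx
    show m * L.bar B.mem ^ j * m⁻¹ ∈ _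
    rw [← conj_zpow, h]
    exact zpow_mem (pow_mem (Subgroup.mem_zpowers _) i) j
  rw [← B.norm_M.1]
  exact orderOf_dvd_iff_pow_eq_one.1 (Subgroup.orderOf_dvd_natCard _ hm)

/-- no outer element of the centraliser of the involution centralises it -/
theorem Cfg.Sev.no_outer {y : G} (hy : y ∈ L.H) (hout : y * L.v * y⁻¹ = L.t * L.v) : ¬ Commute y b := by
  intro hyb
  classical
  -- a two-element
  have hy2 : y ^ 2 ∈ L.Hv := by
    rcases L.H_split (pow_mem hy 2) with h | h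
    · exact h
    exfalso
    rw [pow_two, show y * y * L.v * (y * y)⁻¹ = y * (y * L.v * y⁻¹) * y⁻¹ by group, hout,
      show y * (L.t * L.v) * y⁻¹ = y * L.t * y⁻¹ * (y * L.v * y⁻¹) by group, hout, (L.mem_H.1 hy).eq,
      mul_inv_cancel_right, ← mul_assoc, L.sq, one_mul] at h
    exact L.t_v_ne h.symm
  have hcom2 : Commute (L.bar hy2) (L.bar B.mem) := by
    show L.bar hy2 * L.bar B.mem = L.bar B.mem * L.bar hy2
    rw [← L.bar_mul hy2 B.mem, ← L.bar_mul B.mem hy2]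
    exact L.bar_congr (mul_mem hy2 B.mem) (mul_mem B.mem hy2) (hyb.pow_left 2).eq
  obtain ⟨i, hi⟩ := B.cent_bar7 hcom2
  have h14 : (y ^ 2) ^ 7 ∈ L.V := by
    rw [← L.bar_one_iff (pow_mem hy2 7), L.bar_pow hy2, hi, ← pow_mul, mul_comm, pow_mul, ← L.bar_pow B.mem, L.bar_congr
      (pow_mem B.mem 7) (one_mem _) B.pow7]
    rw [(L.bar_one_iff (one_mem _)).2 (one_mem _), one_pow]
  set y7 := y ^ 7 with hy7
  have h7H : y7 ∈ L.H := pow_mem hy 7
  have h7two : Tw.TwoElt y7 := by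
    refine ⟨2, ?_⟩
    rw [hy7, ← pow_mul, show 7 * 2 ^ 2 = 2 * 7 * 2 by norm_num, pow_mul, pow_mul, pow_two]
    rcases h14 with e | e | e | e <;> rw [e]
    · rw [one_mul]
    · exact L.sq
    · exact L.v_sq
    · rw [show L.t * L.v * (L.t * L.v) = L.t * (L.v * L.t) * L.v by group, L.v_t.eq,
        show L.t * (L.t * L.v) * L.v = L.t * L.t * (L.v * L.v) by group, L.sq, L.v_sq, one_mul]
  obtain ⟨c, hc, hcS⟩ := L.S_syl.conj_elt h7H h7two
  set s := c * y7 * c⁻¹ with hs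
  set a := c * b * c⁻¹ with ha
  have haH : a ∈ L.Hv := L.NV_Hv (L.H_NV hc) B.mem
  have A : L.Sev a := ⟨haH, by rw [ha, ← MulAut.conj_apply, MulEquiv.orderOf_eq, B.ord]⟩
  have hsa : Commute s a := (Commute.conj_iff c).2 (hyb.pow_left 7)
  have hss : s * s ∈ L.V := by
    have e : s * s = c * ((y ^ 2) ^ 7) * c⁻¹ := by
      rw [hs, conj_mul, hy7, ← pow_add, ← pow_mul]
    rw [e]
    exact L.NV_V (L.H_NV hc) h14
  have hs0 : s ∉ L.S₀ := fun h0 => by
    have h7 := L.outer_odd hy hout (n := 7) (by decide)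
    refine L.outer_notin h7 ?_
    have := L.NV_Hv (inv_mem (L.H_NV hc)) (L.S₀_le_Hv h0)
    rwa [hs, inv_inv, show c⁻¹ * (c * y7 * c⁻¹) * c = y7 by group] at this
  have hsNV : s ∈ L.NV := L.H_NV (L.S_le hcS)
  have hsz : Commute s z := (L.mem_S.1 hcS).2
  obtain ⟨-, hbound⟩ := L.out_bound hcS (L.out_x hcS hs0)
  set K : Subgroup L.MQ := Seven.fixSub (L.phi hsNV) with hK
  have hzK : L.bar L.z_Hv ∈ K := by
    show L.phi hsNV (L.bar L.z_Hv) = L.bar L.z_Hv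
    rw [L.phi_bar]; exact L.bar_congr _ _ (by rw [hsz.eq, mul_inv_cancel_right])
  have haK : L.bar haH ∈ K := by
    show L.phi hsNV (L.bar haH) = L.bar haH
    rw [L.phi_bar]; exact L.bar_congr _ _ (by rw [hsa.eq, mul_inv_cancel_right])
  obtain ⟨hz2, hz1⟩ := L.z_bar_sq
  have huniq : ∀ m ∈ K ⊓ L.U, m * m = 1 → m ≠ 1 → m = L.bar L.z_Hv := by
    rintro m ⟨hmK, hmU⟩ hm hm1
    obtain ⟨g, hg, rfl⟩ := L.mem_U.1 hmU
    obtain ⟨r, hr, hW⟩ := L.invol_W hg (L.invol_bar hg (by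
      rw [← L.bar_one_iff (mul_mem (L.S₀_le_Hv hg) (L.S₀_le_Hv hg)), L.bar_mul]; exact hm))
    obtain ⟨e, he, w, hw, hew⟩ := L.W_split hr hW
    have heH := L.S₀_le_Hv (L.E_S₀ hr he)
    have hge : L.bar heH = L.bar (L.S₀_le_Hv hg) :=
      (L.bar_eq _ _).2 (by rw [hew, inv_mul_cancel_left]; exact hw)
    rw [← hge] at hmK hm1 ⊢
    have he1 : e ≠ 1 := fun e1 => hm1 ((L.bar_one_iff heH).2 (e1 ▸ one_mem _))
    have hD := (L.W_D hr (L.E_le_W hr he) he1).2 he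
    have h : L.bar (L.NV_Hv hsNV heH) = L.bar heH := hmK
    rw [eq_comm, L.bar_eq] at h
    have he2 := L.coset_D hD heH h (by rw [mul_inv_cancel_left]; exact Cfg.D_conj hD)
    rcases hbound r hr e he (mul_inv_eq_iff_eq_mul.1 (inv_mul_eq_one.1 he2).symm : Commute s e).symm with h1 | h1
    · exact absurd h1 he1
    · exact L.bar_congr _ _ h1
  have hKUz : L.bar L.z_Hv ∈ K ⊓ L.U := ⟨hzK, L.z_U⟩
  have hT : Tw.RelSyl (K ⊓ L.U) K := by
    refine Tw.RelSyl.of_normal inf_le_left (L.USyl.isPGroup'.to_le inf_le_right) fun m hm _ hn => ⟨hm, L.cent_z ?_⟩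
    refine mul_inv_eq_iff_eq_mul.1 (huniq _ ((Subgroup.mem_normalizer_iff.1 hn _).1 hKUz) ?_ ?_)
    · rw [conj_mul, hz2]; group
    · exact fun e => hz1 (conj_eq_one_iff.1 e)
  set zK : K := ⟨L.bar L.z_Hv, hzK⟩ with hzKdef
  have hzo : orderOf zK = 2 := by rw [Subgroup.orderOf_mk]; exact orderOf_two_iff.2 L.z_bar_sq
  have hodd := Cfsg.Agent.Char.oddInvol_of_isolated_sylow hzo (P := hT.sylow) hKUz fun g hg => Subtype.ext
    (huniq _ hg (by
      show (g : L.MQ) * L.bar L.z_Hv * (g : L.MQ)⁻¹ * ((g : L.MQ) * L.bar L.z_Hv * (g : L.MQ)⁻¹) = 1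
      rw [conj_mul, hz2]; group) fun e => hz1 (conj_eq_one_iff.1 e))
  have hcm := Cfsg.Agent.Char.zStar hodd ⟨L.bar haH, haK⟩
  set O := Cfsg.oddCore K with hO
  have hOodd : Odd (Nat.card O) := Cfsg.Agent.Char.card_oddCore_odd K
  haveI hON : O.Normal := inferInstance
  have hcitK : CIT K := L.cit.subgroup K
  have hinv := hcitK.inverts hzo hOodd fun x hx => hON.conj_mem x hx zK
  set bK : K := ⟨L.bar haH, haK⟩ with hbK
  set o := zK * bK * zK⁻¹ * bK⁻¹ with ho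
  obtain ⟨k, hk⟩ := hOodd
  have hon : o ^ (2 * k + 1) = 1 :=
    hk ▸ orderOf_dvd_iff_pow_eq_one.1 (Subgroup.orderOf_dvd_natCard O hcm)
  set r := o⁻¹ ^ (k + 1) with hr
  have hrO : r ∈ O := pow_mem (inv_mem hcm) _
  have hrr : r * r = o⁻¹ := by
    rw [hr, ← pow_add, show k + 1 + (k + 1) = (2 * k + 1) + 1 by ring, pow_succ, inv_pow o (2 * k + 1), hon,
      inv_one, one_mul]
  have hzi : zK⁻¹ = zK := Subtype.ext (inv_eq_of_mul_eq_one_right hz2)
  have hz2' : zK * zK = 1 := Subtype.ext hz2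
  have hrz : r * zK * r⁻¹ = o⁻¹ * zK := by
    have h := hinv _ (inv_mem hrO)
    rw [inv_inv, mul_inv_eq_iff_eq_mul] at h
    rw [mul_assoc, h, ← mul_assoc, hrr]
  have hbz : bK * zK * bK⁻¹ = o⁻¹ * zK := by
    have h := hinv _ hcm
    rw [ho, mul_inv_rev, mul_inv_rev, mul_inv_rev, inv_inv, inv_inv, hzi]
    calc bK * zK * bK⁻¹ = bK * zK * bK⁻¹ * (zK * zK) := by rw [hz2', mul_one]
      _ = bK * (zK * (bK⁻¹ * zK)) * zK := by group
  have hcom : Commute (r⁻¹ * bK) zK := by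
    refine mul_inv_eq_iff_eq_mul.1 ?_
    rw [show r⁻¹ * bK * zK * (r⁻¹ * bK)⁻¹ = r⁻¹ * (bK * zK * bK⁻¹) * r by group, hbz, ← hrz]
    group
  obtain ⟨n, hn⟩ := hcitK.two_of_commute hzo hcom
  have hbO : bK ∈ O := by
    rw [← QuotientGroup.eq_one_iff]
    refine orderOf_eq_one_iff.1 (Nat.eq_one_of_dvd_coprimes
      (Nat.Coprime.pow_right n (by norm_num : Nat.Coprime 7 2)) (orderOf_dvd_of_pow_eq_one ?_) ?_)
    · rw [← QuotientGroup.mk_pow, show bK ^ 7 = 1 from Subtype.ext (by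
        show L.bar haH ^ 7 = 1
        rw [← A.bar_ord, pow_orderOf_eq_one]), QuotientGroup.mk_one]
    · rw [show (QuotientGroup.mk bK : K ⧸ O) = QuotientGroup.mk (r⁻¹ * bK) by
        rw [QuotientGroup.eq]
        simpa [mul_assoc] using hON.conj_mem _ (inv_mem hrO) bK⁻¹]
      exact hn ▸ orderOf_map_dvd (QuotientGroup.mk' O) (r⁻¹ * bK)
  have hib := congrArg Subtype.val (hinv _ hbO)
  have hneg : L.bar L.z_Hv * L.bar A.mem * (L.bar L.z_Hv)⁻¹ = L.bar A.mem ^ 6 := by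
    refine Eq.trans hib ?_
    show (L.bar A.mem)⁻¹ = _
    refine inv_eq_of_mul_eq_one_right ?_
    rw [← pow_succ', show 6 + 1 = orderOf (L.bar A.mem) from A.bar_ord.symm, pow_orderOf_eq_one]
  have h21 := A.norm_pow21 hneg
  rw [pow_succ, show 20 = 2 * 10 from rfl, pow_mul, pow_two, hz2, one_pow, one_mul] at h21
  exact hz1 h21

/-- the centraliser of the involution and the element -/
theorem Cfg.Sev.cent_t {x : G} (hxt : Commute x L.t) (hxb : Commute x b) : ∃ w ∈ L.V, ∃ i : ℕ, x = w * b ^ i := by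
  have hx : x ∈ L.Hv := (L.H_split (L.mem_H.2 hxt)).resolve_right fun h => B.no_outer (L.mem_H.2 hxt) h hxb
  obtain ⟨i, hi⟩ := B.cent_bar7 (m := L.bar hx) (by
    rw [Commute, SemiconjBy, ← L.bar_mul, ← L.bar_mul]; exact L.bar_congr _ _ hxb.eq)
  rw [← L.bar_pow, eq_comm, L.bar_eq] at hi
  exact ⟨_, hi, i, by rw [← (L.Hv_V (pow_mem B.mem i) hi).eq, mul_inv_cancel_left]⟩

end Cfsg.Agent.Spor.SuzT.Rad
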