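import Mathlib

/-!
Small facts on permutations of four and five points.
-/

set_option autoImplicit false
set_option maxRecDepth 100000

namespace Cfsg.Agent.Spor.SuzT.Seven

open Equiv

theorem five_cent_comm : ∀ T : Perm (Fin 5), T * T = 1 → T ≠ 1 → Perm.sign T = 1 → ∀ a : Perm (Fin 5), a * T = T * a →
    Perm.sign a = 1 → ∀ c : Perm (Fin 5), c * T = T * c → Perm.sign c = 1 → a * c = c * a := by
  decide +kernel

theorem five_odd_invol : ∀ y : Perm (Fin 5), y * y = 1 → Perm.sign y ≠ 1 →
    ∃ r : Perm (Fin 5), Perm.sign r = 1 ∧ r ≠ 1 ∧ r * r * r = 1 ∧ r * y = y * r := by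
  decide +kernel

theorem four_six : ∀ a : alternatingGroup (Fin 4), a * a * a * (a * a * a) = 1 := by decide +kernel

theorem four_center : ∀ a : alternatingGroup (Fin 4), (∀ c : alternatingGroup (Fin 4), a * c = c * a) → a = 1 := by
  decide +kernel

end Cfsg.Agent.Spor.SuzT.Seven
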