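import Cfsg.Agent.Lib.Spor.SuzR.SevenX
import Cfsg.Agent.Lib.Spor.SuzR.SevenPerm

/-!
Groups of Suzuki sporadic type: the centraliser of a subgroup of order seven is not the larger one.
-/

set_option autoImplicit false
set_option maxRecDepth 100000
set_option linter.unusedSectionVars false
set_option linter.style.haveILetI false

namespace Cfsg.Agent.Spor.SuzT.Rad

open Chk Dat
open Cfsg.Agent.Solv.CITGroups (CIT orderOf_two_iff)

universe u

variable {G : Type u} [Group G] [Finite G] {z : G} {Q : Subgroup G} {C : Ctx z Q} {L : Cfg C}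

theorem double {X Y : Subgroup G} {y : G} (hXY : X ≤ Y) (hy : y ∈ Y) (hyX : y ∉ X)
    (hc : ∀ g ∈ Y, g ∈ X ∨ y⁻¹ * g ∈ X) : Nat.card Y = 2 * Nat.card X := by
  let f : X ⊕ X → Y := fun a => Sum.elim (fun x : X => ⟨(x : G), hXY x.2⟩) (fun x : X => ⟨y * x, mul_mem hy (hXY x.2)⟩) a
  have hf : Function.Bijective f := by
    constructor
    · rintro (⟨a, ha⟩ | ⟨a, ha⟩) (⟨c, hc'⟩ | ⟨c, hc'⟩) e <;>
        simp only [f, Sum.elim_inl, Sum.elim_inr, Subtype.mk.injEq] at e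
      · simp [e]
      · exfalso; subst e; exact hyX (by simpa using X.mul_mem ha (X.inv_mem hc'))
      · exfalso; subst e; exact hyX (by simpa using X.mul_mem hc' (X.inv_mem ha))
      · simp [mul_left_cancel e]
    · rintro ⟨g, hg⟩
      rcases hc g hg with h | h
      · exact ⟨Sum.inl ⟨g, h⟩, rfl⟩
      · exact ⟨Sum.inr ⟨_, h⟩, Subtype.ext (mul_inv_cancel_left y g)⟩
  rw [← Nat.card_congr (Equiv.ofBijective f hf), Nat.card_sum]; ring

/-- two involutions that are not conjugate commute with a third one centralised by their common centraliser -/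
theorem Cfg.no_common {d y c : G} (hd : IsConj z d) (hyy : y * y = 1) (hy1 : y ≠ 1) (hyD : ¬ IsConj z y)
    (hcd : Commute c d) (hcy : Commute c y) (L : Cfg C) : Tw.TwoElt c := by
  obtain ⟨hdd, -⟩ := D_sq C.hy hd
  set u := d * y with hu
  have hui : u⁻¹ = y * d := by
    rw [hu, mul_inv_rev, inv_eq_of_mul_eq_one_right hyy, inv_eq_of_mul_eq_one_right hdd]
  have hdu : d * u * d⁻¹ = u⁻¹ := by
    rw [hui, hu, inv_eq_of_mul_eq_one_right hdd, ← mul_assoc d d, hdd, one_mul]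
  obtain ⟨n, hn⟩ : ∃ n, orderOf u = n := ⟨_, rfl⟩
  rcases Nat.even_or_odd n with ⟨k, hk⟩ | ⟨k, hk⟩
  · -- a commuting third involution
    have hn0 := orderOf_pos u
    set w := u ^ k with hw
    have hww : w * w = 1 := by rw [hw, ← pow_add, ← hk, ← hn, pow_orderOf_eq_one]
    have hw1 : w ≠ 1 := fun e => by
      have := Nat.le_of_dvd (by omega) (orderOf_dvd_of_pow_eq_one e)
      omega
    have hwd : Commute d w := mul_inv_eq_iff_eq_mul.1 (by
      rw [hw, ← conj_pow, hdu, inv_pow, inv_eq_of_mul_eq_one_right (show u ^ k * u ^ k = 1 from hww)])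
    have hwy : Commute y w := by
      have e : y = d * u := by rw [hu, ← mul_assoc, hdd, one_mul]
      rw [e]
      exact hwd.mul_left ((Commute.refl u).pow_right k)
    have hcw : Commute c w := (hcd.mul_right hcy).pow_right k
    by_cases hwD : IsConj z w
    · exact L.mixed hwD hyy hy1 hyD hwy hcy hcw
    · exact L.mixed hd hww hw1 hwD hwd.symm hcw hcd
  · exfalso
    refine hyD (hd.trans (isConj_iff.2 ⟨u ^ k, ?_⟩))
    have h1 : d * u ^ k * d⁻¹ = (u ^ k)⁻¹ := by rw [← conj_pow, hdu, inv_pow]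
    have h2 : (u ^ k)⁻¹ = (d * (u ^ k) * d⁻¹) := h1.symm
    calc u ^ k * d * (u ^ k)⁻¹ = u ^ k * d * (d * u ^ k * d⁻¹) := by rw [h1]
      _ = u ^ k * (d * d) * u ^ k * d⁻¹ := by group
      _ = u ^ (2 * k) * d⁻¹ := by rw [hdd, mul_one, ← pow_add, two_mul]
      _ = u⁻¹ * d⁻¹ := by
        congr 1
        refine eq_inv_of_mul_eq_one_left ?_
        rw [← pow_succ, ← hk, ← hn, pow_orderOf_eq_one]
      _ = y := by rw [hui, mul_inv_cancel_right]

/-- the elements inverting or centralising -/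
def pm (b : G) : Subgroup G where
  carrier := {g | g * b * g⁻¹ = b ∨ g * b * g⁻¹ = b⁻¹}
  one_mem' := Or.inl (by simp)
  mul_mem' := fun {g h} hg hh => by
    show g * h * b * (g * h)⁻¹ = b ∨ g * h * b * (g * h)⁻¹ = b⁻¹
    rw [show g * h * b * (g * h)⁻¹ = g * (h * b * h⁻¹) * g⁻¹ by group]
    rcases hh with e | e <;> rcases hg with e' | e' <;> rw [e]
    · exact Or.inl e'
    · exact Or.inr e'
    · exact Or.inr (by rw [← conj_inv, e'])
    · exact Or.inl (by rw [← conj_inv, e', inv_inv])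
  inv_mem' := fun {g} hg => by
    show g⁻¹ * b * g⁻¹⁻¹ = b ∨ g⁻¹ * b * g⁻¹⁻¹ = b⁻¹
    rcases hg with e | e
    · exact Or.inl (by nth_rewrite 1 [← e]; group)
    · refine Or.inr ?_
      have e' := congrArg (·⁻¹) e
      simp only [inv_inv, mul_inv_rev] at e'
      nth_rewrite 1 [← e']
      group

theorem mem_pm {b g : G} : g ∈ pm b ↔ g * b * g⁻¹ = b ∨ g * b * g⁻¹ = b⁻¹ := Iff.rfl

theorem conj_npow (c a : G) (i : ℕ) : c⁻¹ * a ^ i * c = (c⁻¹ * a * c) ^ i := by
  simpa using (conj_pow (a := c⁻¹) (b := a) (i := i)).symm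

theorem conj_zpow' (c a : G) (i : ℤ) : c⁻¹ * a ^ i * c = (c⁻¹ * a * c) ^ i := by
  simpa using (conj_zpow (a := c⁻¹) (b := a) (i := i)).symm

variable {b : G} (B : L.Sev b)
include B

theorem Cfg.Sev.b_ne : b ≠ 1 := fun e => by
  have := B.ord
  rw [e, orderOf_one] at this
  omega

variable {g : G} (hg : L.Cyc g) (hgb : Commute g b) (h3 : g ^ 3 = 1)
include hg hgb h3

theorem Cfg.Sev.card_P : Nat.card ↥(L.NV ⊓ cX b) = 84 := by
  have hmem : ∀ (k : Fin 3) (w : L.V) (β : Subgroup.zpowers b), g ^ (k : ℕ) * (w : G) * (β : G) ∈ L.NV ⊓ cX b := by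
    intro k w β
    have hβ : (β : G) ∈ L.Hv := (Subgroup.zpowers_le.2 B.mem) β.2
    have hβb : Commute (β : G) b := by
      obtain ⟨i, hi⟩ := β.2
      rw [← hi]
      exact Commute.zpow_self b i
    exact ⟨mul_mem (mul_mem (pow_mem hg.nv _) (L.Hv_NV (L.S₀_le_Hv (L.V_le w.2)))) (L.Hv_NV hβ),
      mem_cX.2 (((hgb.pow_left _).mul_left (L.Hv_V B.mem w.2).symm).mul_left hβb)⟩
  let f : Fin 3 × L.V × Subgroup.zpowers b → ↥(L.NV ⊓ cX b) := fun p => ⟨_, hmem p.1 p.2.1 p.2.2⟩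
  have hf : Function.Bijective f := by
    constructor
    · rintro ⟨k, w, β⟩ ⟨k', w', β'⟩ e
      have e' : g ^ (k : ℕ) * (w : G) * β = g ^ (k' : ℕ) * (w' : G) * β' := congrArg Subtype.val e
      have hc : ∀ (k : Fin 3) (w : L.V) (β : Subgroup.zpowers b),
          g ^ (k : ℕ) * (w : G) * β * L.t * (g ^ (k : ℕ) * (w : G) * β)⁻¹ = g ^ (k : ℕ) * L.t * (g ^ (k : ℕ))⁻¹ := by
        intro k w β
        have h1 : (w : G) * β ∈ L.Hv := mul_mem (L.S₀_le_Hv (L.V_le w.2)) ((Subgroup.zpowers_le.2 B.mem) β.2)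
        rw [show g ^ (k : ℕ) * (w : G) * β * L.t * (g ^ (k : ℕ) * (w : G) * β)⁻¹ =
          g ^ (k : ℕ) * ((w : G) * β * L.t * ((w : G) * β)⁻¹) * (g ^ (k : ℕ))⁻¹ by group, (L.mem_Hv.1 h1).1.eq,
          mul_inv_cancel_right]
      have hk := hc k w β
      rw [e', hc k' w' β'] at hk
      have h2 : g * g * L.t * (g * g)⁻¹ = L.t * L.v := by
        rw [show g * g * L.t * (g * g)⁻¹ = g * (g * L.t * g⁻¹) * g⁻¹ by group, hg.1, hg.2]
      have hkk : k = k' := by
        have n1 : L.t * L.v ≠ L.t := fun h => Cfg.v_ne_one (L := L) (mul_eq_left.1 h)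
        fin_cases k <;> fin_cases k' <;>
          simp only [pow_zero, pow_one, pow_two, one_mul, inv_one, mul_one, hg.1, h2] at hk
        · rfl
        · exact absurd hk.symm L.t_ne_v
        · exact absurd hk n1
        · exact absurd hk L.t_ne_v
        · rfl
        · exact absurd hk L.t_v_ne
        · exact absurd hk.symm n1
        · exact absurd hk.symm L.t_v_ne
        · rfl
      subst hkk
      rw [mul_assoc, mul_assoc] at e'
      have e2 := mul_left_cancel e'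
      have hw : (w : G) = w' := by
        refine inv_mul_eq_one.1 (B.V_b (mul_mem (inv_mem w.2) w'.2) ?_)
        have h : (w : G)⁻¹ * w' = (β : G) * (β' : G)⁻¹ := by
          rw [eq_mul_inv_iff_mul_eq, mul_assoc, ← e2, inv_mul_cancel_left]
        rw [h]
        exact mul_mem β.2 (inv_mem β'.2)
      rw [hw] at e2
      exact Prod.ext rfl (Prod.ext (Subtype.ext hw) (Subtype.ext (mul_left_cancel e2)))
    · rintro ⟨x, hx1, hx2⟩
      obtain ⟨k, w, hw, i, e⟩ := B.NV_cases hg hgb hx1 (mem_cX.1 hx2)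
      exact ⟨(k, ⟨w, hw⟩, ⟨b ^ i, Subgroup.npow_mem_zpowers b i⟩), Subtype.ext e.symm⟩
  rw [← Nat.card_congr (Equiv.ofBijective f hf), Nat.card_prod, Nat.card_prod, Nat.card_fin, L.card_V, Nat.card_zpowers,
    B.ord]

theorem Cfg.Sev.invol_P {h : G} (hh : h ∈ L.NV) (hhb : Commute h b) (h2 : h * h = 1) : h ∈ L.V := by
  obtain ⟨k, w, hw, i, e⟩ := B.NV_cases hg hgb hh hhb
  have hwb : w * b ^ i ∈ L.Hv := mul_mem (L.S₀_le_Hv (L.V_le hw)) (pow_mem B.mem i)
  have hbad : ∀ c, L.Cyc c → c * c = 1 → False := fun c hc hcc => by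
    have h4 := (hc.pow L (n := 4) (by norm_num)).1
    rw [show c ^ 4 = (c * c) * (c * c) by rw [← pow_two, ← pow_two, ← pow_mul], hcc, one_mul, one_mul, inv_one,
      mul_one] at h4
    exact L.t_ne_v h4
  fin_cases k
  · simp only [pow_zero, one_mul] at e
    rw [e, (L.Hv_V (pow_mem B.mem i) hw).mul_mul_mul_comm, L.V_sq hw, one_mul] at h2
    have h7 : (b ^ i) ^ 7 = 1 := B.mem_pow (Subgroup.npow_mem_zpowers b i)
    rw [show 7 = 2 * 3 + 1 from rfl, pow_succ, pow_mul, pow_two, h2, one_pow, one_mul] at h7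
    rw [e, h7, mul_one]; exact hw
  · simp only [pow_one] at e
    exact (hbad h (by rw [e, mul_assoc]; exact hg.mul_right L hwb) h2).elim
  · simp only at e
    exfalso
    have hi : h⁻¹ = h := inv_eq_of_mul_eq_one_right h2
    have hc : L.Cyc (g * g) → False := fun hc => by
      have := hc.1
      rw [show g * g * L.t * (g * g)⁻¹ = g * (g * L.t * g⁻¹) * g⁻¹ by group, hg.1, hg.2] at this
      exact L.t_v_ne this
    have hh' : L.Cyc (h⁻¹) := by
      rw [e, mul_assoc, mul_inv_rev]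
      refine Cfg.Cyc.mul_left L ?_ (inv_mem hwb)
      rw [show (g ^ 2)⁻¹ = g from inv_eq_of_mul_eq_one_right (by rw [← pow_succ, h3])]
      exact hg
    rw [hi] at hh'
    exact hbad h hh' h2

/-- the larger order does not occur -/
theorem Cfg.Sev.not_420 : Nat.card (cX b) ≠ 420 := by
  intro hX
  classical
  haveI : Fact (Nat.Prime 3) := ⟨Nat.prime_three⟩
  obtain ⟨y, hyH, hyy, hyv, hyb, hyD⟩ := B.exists_y
  have hy1 : y ≠ 1 := fun e => by
    rw [e, one_mul, inv_one, mul_one] at hyv; exact L.t_v_ne hyv.symm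
  have hyX : y ∉ cX b := fun h => B.no_outer hyH hyv (mem_cX.1 h)
  set Y : Subgroup G := pm b with hY
  have hyY : y ∈ Y := mem_pm.2 (Or.inr hyb)
  have hXY : cX b ≤ Y := fun x hx => mem_pm.2 (Or.inl (by rw [(mem_cX.1 hx).eq, mul_inv_cancel_right]))
  have hyi : y⁻¹ = y := inv_eq_of_mul_eq_one_right hyy
  have hcases : ∀ x ∈ Y, x ∈ cX b ∨ y⁻¹ * x ∈ cX b := by
    intro x hx
    rcases mem_pm.1 hx with hx | hx
    · exact Or.inl (mem_cX.2 (mul_inv_eq_iff_eq_mul.1 hx))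
    · refine Or.inr (mem_cX.2 (mul_inv_eq_iff_eq_mul.1 ?_))
      rw [show y⁻¹ * x * b * (y⁻¹ * x)⁻¹ = y⁻¹ * (x * b * x⁻¹) * y by group, hx, ← hyb]; group
  have hcY : Nat.card Y = 840 := by rw [double hXY hyY hyX hcases, hX]
  have hyNV : y ∈ L.NV := L.H_NV hyH
  have hcK : Nat.card ↥(L.NV ⊓ Y) = 168 := by
    rw [double (X := L.NV ⊓ cX b) (inf_le_inf_left _ hXY) ⟨hyNV, hyY⟩ (fun h => hyX h.2) (fun x hx => ?_),
      B.card_P hg hgb h3]
    rcases hcases x hx.2 with h | h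
    · exact Or.inl ⟨hx.1, h⟩
    · exact Or.inr ⟨L.NV.mul_mem (L.NV.inv_mem hyNV) hx.1, h⟩
  set K : Subgroup Y := L.NV.subgroupOf Y with hK
  have hK5 : Nat.card (Y ⧸ K) = 5 := by
    have h := Subgroup.card_eq_card_quotient_mul_card_subgroup K
    rw [hcY, show Nat.card K = 168 from (Nat.card_congr
      { toFun := fun a => ⟨((a : Y) : G), a.2, (a : Y).2⟩
        invFun := fun a => ⟨⟨(a : G), a.2.2⟩, a.2.1⟩
        left_inv := fun _ => rfl
        right_inv := fun _ => rfl }).trans hcK] at h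
    omega
  let e5 : (Y ⧸ K) ≃ Fin 5 := Finite.equivFinOfCardEq hK5
  let f : Y →* Equiv.Perm (Fin 5) := e5.permCongrHom.toMonoidHom.comp (MulAction.toPermHom Y (Y ⧸ K))
  have hker : ∀ a : Y, f a = 1 → ∀ c : Y, (c : G)⁻¹ * a * c ∈ L.NV := by
    intro a ha c
    have h1 : MulAction.toPermHom Y (Y ⧸ K) a = 1 := e5.permCongrHom.injective (ha.trans (map_one _).symm)
    have h2 := congrArg (fun p : Equiv.Perm (Y ⧸ K) => p (c : Y ⧸ K)) h1
    change ((a * c : Y) : Y ⧸ K) = (c : Y ⧸ K) at h2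
    rw [QuotientGroup.eq] at h2
    have h3' : (a * c : Y)⁻¹ * c ∈ K := h2
    have := L.NV.inv_mem (show ((a : G) * c)⁻¹ * c ∈ L.NV from h3')
    rwa [mul_inv_rev, inv_inv, ← mul_assoc] at this
  let fX : cX b →* Equiv.Perm (Fin 5) := f.comp (Subgroup.inclusion hXY)
  have hkV : ∀ w, ∀ hw : w ∈ L.V, fX ⟨w, B.V_X hw⟩ = 1 → w = 1 := by
    intro w hw hw1
    by_contra hne
    obtain ⟨k, hk⟩ : ∃ k : ℕ, (g ^ k)⁻¹ * w * g ^ k = L.t := by
      rcases hw with e | e | e | e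
      · exact absurd e hne
      · exact ⟨0, by simpa using e⟩
      · exact ⟨1, by rw [pow_one, e, ← hg.1]; group⟩
      · exact ⟨2, by rw [pow_two, e, ← hg.2, ← hg.1]; group⟩
    have hgX : g ^ k ∈ cX b := mem_cX.2 (hgb.pow_left k)
    have ht : fX ⟨L.t, B.V_X L.t_V⟩ = 1 := by
      rw [show (⟨L.t, B.V_X L.t_V⟩ : cX b) = ⟨g ^ k, hgX⟩⁻¹ * ⟨w, B.V_X hw⟩ * ⟨g ^ k, hgX⟩ from Subtype.ext hk.symm,
        map_mul, map_mul, hw1, mul_one, ← map_mul, inv_mul_cancel, map_one]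
    have hall : cX b ≤ L.NV := by
      intro x hx
      have h := hker ⟨L.t, hXY (B.V_X L.t_V)⟩ ht ⟨x, hXY hx⟩
      have hxb := mem_cX.1 hx
      have hV := B.invol_P hg hgb h3 h ((hxb.inv_left.mul_left (mem_cX.1 (B.V_X L.t_V))).mul_left hxb) (by
        rw [show x⁻¹ * L.t * x * (x⁻¹ * L.t * x) = x⁻¹ * (L.t * L.t) * x by group, L.sq]; group)
      obtain ⟨j, hj⟩ : ∃ j : ℕ, g ^ j * L.t * (g ^ j)⁻¹ = x⁻¹ * L.t * x := by
        rcases hV with e | e | e | e
        · exact absurd (by rw [show L.t = x * (x⁻¹ * L.t * x) * x⁻¹ by group,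
            show x⁻¹ * L.t * x = 1 from e]; group) L.ne_one
        · exact ⟨0, by simpa using e.symm⟩
        · exact ⟨1, by rw [pow_one, hg.1]; exact e.symm⟩
        · exact ⟨2, by rw [pow_two, show g * g * L.t * (g * g)⁻¹ = g * (g * L.t * g⁻¹) * g⁻¹ by group, hg.1, hg.2]; exact e.symm⟩
      have hc : Commute (x * g ^ j) L.t := mul_inv_eq_iff_eq_mul.1 (by
        rw [show x * g ^ j * L.t * (x * g ^ j)⁻¹ = x * (g ^ j * L.t * (g ^ j)⁻¹) * x⁻¹ by group, hj]; group)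
      obtain ⟨w', hw', i, e⟩ := B.cent_t hc (hxb.mul_left (hgb.pow_left j))
      rw [show x = w' * b ^ i * (g ^ j)⁻¹ by rw [← e, mul_inv_cancel_right]]
      exact mul_mem (mul_mem (L.Hv_NV (L.S₀_le_Hv (L.V_le hw'))) (L.Hv_NV (pow_mem B.mem i))) (inv_mem (pow_mem hg.nv j))
    have := B.card_P hg hgb h3
    rw [inf_eq_right.2 hall, hX] at this
    omega
  have hkB : ∀ x : cX b, fX x = 1 ↔ (x : G) ∈ Subgroup.zpowers b := by
    intro x
    constructor
    · intro hx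
      have hxNV : (x : G) ∈ L.NV := by simpa using hker _ hx (⟨1, one_mem _⟩)
      have hcent : ∀ w, ∀ hw : w ∈ L.V, (x : G) * w * (x : G)⁻¹ = w := fun w hw => by
        refine mul_inv_eq_one.1 (hkV _ (mul_mem (L.NV_V hxNV hw) (inv_mem hw)) ?_)
        rw [show (⟨(x : G) * w * (x : G)⁻¹ * w⁻¹, B.V_X (mul_mem (L.NV_V hxNV hw) (inv_mem hw))⟩ : cX b) =
          x * ⟨w, B.V_X hw⟩ * x⁻¹ * ⟨w, B.V_X hw⟩⁻¹ from rfl, map_mul, map_mul, map_mul, map_inv, map_inv, hx]
        group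
      obtain ⟨w, hw, i, e⟩ := B.cent_t (mul_inv_eq_iff_eq_mul.1 (hcent _ L.t_V)) (mem_cX.1 x.2)
      have hbX : b ^ i ∈ cX b := mem_cX.2 (Commute.pow_self b i)
      have hb1 : fX ⟨b ^ i, hbX⟩ = 1 := by
        refine (map_eq_one_iff _ e5.permCongrHom.injective).2 ?_
        ext m
        induction m using QuotientGroup.induction_on with
        | _ c =>
          show ((Subgroup.inclusion hXY ⟨b ^ i, hbX⟩ * c : Y) : Y ⧸ K) = (c : Y ⧸ K)
          rw [QuotientGroup.eq]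
          show ((b ^ i * (c : G))⁻¹ * c) ∈ L.NV
          have hcb : (c : G)⁻¹ * b ^ i * c ∈ L.Hv := by
            rcases mem_pm.1 (Y.inv_mem c.2 : (c : G)⁻¹ ∈ Y) with h | h
            · rw [inv_inv] at h
              rw [show (c : G)⁻¹ * b ^ i * c = ((c : G)⁻¹ * b * c) ^ i from conj_npow _ _ _, h]
              exact pow_mem B.mem i
            · rw [inv_inv] at h
              rw [show (c : G)⁻¹ * b ^ i * c = ((c : G)⁻¹ * b * c) ^ i from conj_npow _ _ _, h]
              exact pow_mem (inv_mem B.mem) i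
          have := L.Hv_NV (inv_mem hcb)
          rwa [show (b ^ i * (c : G))⁻¹ * c = ((c : G)⁻¹ * b ^ i * c)⁻¹ by group]
      have hw1 := hkV w hw (by
        have e2 : x = ⟨w, B.V_X hw⟩ * ⟨b ^ i, hbX⟩ := Subtype.ext e
        rw [e2, map_mul, hb1, mul_one] at hx
        exact hx)
      rw [e, hw1, one_mul]
      exact Subgroup.npow_mem_zpowers b i
    · intro hx
      refine (map_eq_one_iff _ e5.permCongrHom.injective).2 ?_
      ext m
      induction m using QuotientGroup.induction_on with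
      | _ c =>
        show ((Subgroup.inclusion hXY x * c : Y) : Y ⧸ K) = (c : Y ⧸ K)
        rw [QuotientGroup.eq]
        show (((x : G) * (c : G))⁻¹ * c) ∈ L.NV
        obtain ⟨i, hi⟩ := hx
        have hcb : (c : G)⁻¹ * (x : G) * c ∈ L.Hv := by
          rw [← show b ^ i = (x : G) from hi,
            show (c : G)⁻¹ * b ^ i * c = ((c : G)⁻¹ * b * c) ^ i from conj_zpow' _ _ _]
          refine zpow_mem ?_ i
          rcases mem_pm.1 (Y.inv_mem c.2 : (c : G)⁻¹ ∈ Y) with h | h <;> rw [inv_inv] at h <;> rw [h]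
          exacts [B.mem, inv_mem B.mem]
        have := L.Hv_NV (inv_mem hcb)
        rwa [show ((x : G) * (c : G))⁻¹ * c = ((c : G)⁻¹ * (x : G) * c)⁻¹ by group]
  -- the image is alternating
  have hkerC : fX.ker = cB b := by ext x; rw [MonoidHom.mem_ker, hkB, cB, Subgroup.mem_subgroupOf]
  have hB : Nat.card (cB b) = 7 := by
    rw [cB, Nat.card_congr (Subgroup.subgroupOfEquivOfLe (Subgroup.zpowers_le.2 (mem_cX.2 (Commute.refl b)))).toEquiv,
      Nat.card_zpowers, B.ord]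
  have hrange : fX.range = alternatingGroup (Fin 5) := by
    refine Equiv.Perm.eq_alternatingGroup_of_index_eq_two ?_
    have h := fX.range.card_mul_index
    have h2 := Subgroup.card_eq_card_quotient_mul_card_subgroup fX.ker
    rw [Nat.card_congr (QuotientGroup.quotientKerEquivRange fX).toEquiv, hkerC, hB, hX] at h2
    rw [Nat.card_perm, Nat.card_fin, show Nat.card fX.range = 60 by omega, show Nat.factorial 5 = 120 from rfl] at h
    omega
  have hsign : ∀ x : cX b, Equiv.Perm.sign (fX x) = 1 := fun x =>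
    Equiv.Perm.mem_alternatingGroup.1 (hrange ▸ (⟨x, rfl⟩ : fX x ∈ fX.range))
  set tX : cX b := ⟨L.t, B.V_X L.t_V⟩ with htX
  set vX : cX b := ⟨L.v, B.V_X L.v_V⟩ with hvX
  set T := fX tX with hT
  set W := fX vX with hW
  set Yp := f ⟨y, hyY⟩ with hYp
  have hT1 : T ≠ 1 := fun e => L.ne_one (hkV _ L.t_V e)
  have hT2 : T * T = 1 := by rw [hT, ← map_mul, show tX * tX = 1 from Subtype.ext L.sq, map_one]
  have hTY : Yp * T = T * Yp := by
    show f ⟨y, hyY⟩ * f (Subgroup.inclusion hXY tX) = f (Subgroup.inclusion hXY tX) * f ⟨y, hyY⟩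
    rw [← map_mul, ← map_mul]
    exact congrArg f (Subtype.ext (L.mem_H.1 hyH).eq)
  have hTW : W * T = T * W := by
    rw [hW, hT, ← map_mul, ← map_mul]; exact congrArg fX (Subtype.ext L.v_t.eq)
  have hYW : Yp * W = T * W * Yp := by
    show f ⟨y, hyY⟩ * f (Subgroup.inclusion hXY vX) =
      f (Subgroup.inclusion hXY tX) * f (Subgroup.inclusion hXY vX) * f ⟨y, hyY⟩
    rw [← map_mul, ← map_mul, ← map_mul]
    exact congrArg f (Subtype.ext (mul_inv_eq_iff_eq_mul.1 hyv))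
  have hY2 : Yp * Yp = 1 := by
    rw [hYp, ← map_mul, show (⟨y, hyY⟩ : Y) * ⟨y, hyY⟩ = 1 from Subtype.ext hyy, map_one]
  have hodd : Equiv.Perm.sign Yp ≠ 1 := fun e => by
    have h := Seven.five_cent_comm T hT2 hT1 (hsign tX) Yp hTY e W hTW (hsign vX)
    rw [h] at hYW
    exact hT1 (mul_eq_right.1 (mul_right_cancel hYW).symm)
  obtain ⟨r, hr1, hr0, hr3, hrY⟩ := Seven.five_odd_invol Yp hY2 hodd
  obtain ⟨x, hx⟩ : r ∈ fX.range := hrange ▸ Equiv.Perm.mem_alternatingGroup.2 hr1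
  set x1 : cX b := x ^ 7 with hx1
  have hr3' : r ^ 3 = 1 := by rw [pow_succ, pow_two, hr3]
  have hx13 : ((x1 : cX b) : G) ^ 3 = 1 := by
    have h : ((x ^ 3 : cX b) : G) ∈ Subgroup.zpowers b := (hkB _).1 (by rw [map_pow, hx, hr3'])
    have h' := B.mem_pow h
    rw [hx1, Subgroup.coe_pow, ← pow_mul, show 7 * 3 = 3 * 7 from rfl, pow_mul]
    rwa [Subgroup.coe_pow] at h'
  have hfx1 : fX x1 = r := by
    rw [hx1, map_pow, hx, show 7 = 3 * 2 + 1 from rfl, pow_succ, pow_mul, hr3', one_pow, one_mul]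
  have hx1y : Commute (x1 : G) y := by
    have hyX' : y * (x : G) * y⁻¹ ∈ cX b := by
      refine mem_cX.2 (mul_inv_eq_iff_eq_mul.1 ?_)
      have hxi : (x : G) * b⁻¹ * (x : G)⁻¹ = b⁻¹ := by rw [(mem_cX.1 x.2).inv_right.eq, mul_inv_cancel_right]
      rw [show y * (x : G) * y⁻¹ * b * (y * (x : G) * y⁻¹)⁻¹ = y * ((x : G) * (y⁻¹ * b * y) * (x : G)⁻¹) * y⁻¹ by group,
        show y⁻¹ * b * y = y * b * y⁻¹ by rw [hyi], hyb, hxi, ← conj_inv, hyb, inv_inv]
    have hk : (⟨y * (x : G) * y⁻¹, hyX'⟩ : cX b) * x⁻¹ ∈ fX.ker := by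
      rw [MonoidHom.mem_ker, map_mul, map_inv, hx]
      show f (Subgroup.inclusion hXY ⟨y * (x : G) * y⁻¹, hyX'⟩) * r⁻¹ = 1
      rw [show Subgroup.inclusion hXY ⟨y * (x : G) * y⁻¹, hyX'⟩ =
        ⟨y, hyY⟩ * Subgroup.inclusion hXY x * ⟨y, hyY⟩⁻¹ from rfl, map_mul, map_mul, map_inv]
      show Yp * fX x * Yp⁻¹ * r⁻¹ = 1
      rw [hx, ← hrY, mul_inv_cancel_right, mul_inv_cancel]
    rw [MonoidHom.mem_ker, hkB] at hk
    set β := y * (x : G) * y⁻¹ * (x : G)⁻¹ with hβ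
    have hβm : β ∈ Subgroup.zpowers b := hk
    have hcom : Commute β (x : G) := by
      obtain ⟨i, hi⟩ := hβm
      rw [← show b ^ i = β from hi]
      exact (mem_cX.1 x.2).symm.zpow_left i
    refine (mul_inv_eq_iff_eq_mul.1 ?_ : Commute y (x1 : G)).symm
    rw [hx1, Subgroup.coe_pow, ← conj_pow, show y * (x : G) * y⁻¹ = β * x by rw [hβ, inv_mul_cancel_right],
      hcom.mul_pow, B.mem_pow hβm, one_mul]
  -- a Sylow subgroup of order three
  have hgX : g ∈ cX b := mem_cX.2 hgb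
  have hg1 : g ≠ 1 := fun e => by
    have := hg.1; rw [e, one_mul, inv_one, mul_one] at this; exact L.t_ne_v this
  have hx1o : orderOf x1 = 3 := orderOf_eq_prime (Subtype.ext (by rw [Subgroup.coe_pow, hx13]; rfl))
    fun e => hr0 (by rw [← hfx1, e, map_one])
  have hgo : orderOf (⟨g, hgX⟩ : cX b) = 3 := orderOf_eq_prime (Subtype.ext (by rw [Subgroup.coe_pow]; exact h3))
    fun e => hg1 (congrArg Subtype.val e)
  have hsyl : ∀ u : cX b, orderOf u = 3 → ∃ P : Sylow 3 (cX b), (P : Subgroup (cX b)) = Subgroup.zpowers u := by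
    intro u hu
    refine ⟨(IsPGroup.of_card (n := 1) (by rw [Nat.card_zpowers, hu, pow_one]) :
      IsPGroup 3 (Subgroup.zpowers u)).toSylow ?_, rfl⟩
    intro hd
    have h := (Subgroup.zpowers u).card_mul_index
    rw [Nat.card_zpowers, hu, hX] at h
    omega
  obtain ⟨P1, hP1⟩ := hsyl x1 hx1o
  obtain ⟨P2, hP2⟩ := hsyl _ hgo
  obtain ⟨c, hc⟩ := MulAction.exists_smul_eq (cX b) P1 P2
  have hm : c * x1 * c⁻¹ ∈ Subgroup.zpowers (⟨g, hgX⟩ : cX b) := by
    rw [← hP2, ← hc]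
    exact ⟨x1, hP1 ▸ Subgroup.mem_zpowers _, rfl⟩
  obtain ⟨j, hj⟩ := hm
  have hcz : Commute ((c : G) * (x1 : G) * (c : G)⁻¹) z := by
    have hj' : g ^ j = (c : G) * (x1 : G) * (c : G)⁻¹ := congrArg Subtype.val hj
    rw [← hj']
    exact (B.three_D hg hgb h3).zpow_left j
  have h2 := (Commute.conj_iff (c : G)⁻¹).2 hcz
  rw [inv_inv, show (c : G)⁻¹ * ((c : G) * (x1 : G) * (c : G)⁻¹) * c = x1 by group] at h2
  obtain ⟨n, hn⟩ := Cfg.no_common (d := (c : G)⁻¹ * z * c) (isConj_iff.2 ⟨(c : G)⁻¹, by rw [inv_inv]⟩) hyy hy1 hyD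
    h2 hx1y L
  have h3o : orderOf (x1 : G) = 3 := (Subgroup.orderOf_coe x1).trans hx1o
  have hd := orderOf_dvd_of_pow_eq_one hn
  rw [h3o] at hd
  exact absurd (Nat.prime_three.dvd_of_dvd_pow hd) (by decide)

end Cfsg.Agent.Spor.SuzT.Rad
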