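import Mathlib
import Cfsg.Agent.Lib.Solv.CIT.Basic

/-!
Automorphisms of order three fixing a self-centralising elementary subgroup.
-/

set_option autoImplicit false
set_option maxRecDepth 100000
set_option linter.unusedSectionVars false
set_option linter.style.haveILetI false

namespace Cfsg.Agent.Spor.SuzT.Seven

open Cfsg.Agent.Solv.CITGroups (CIT orderOf_two_iff)

universe u

variable {M : Type u} [Group M] [Finite M]

/-- the fixed subgroup -/
def fixSub (φ : MulAut M) : Subgroup M where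
  carrier := {m | φ m = m}
  one_mem' := map_one φ
  mul_mem' := fun {a b} (ha : φ a = a) (hb : φ b = b) => by show φ (a * b) = a * b; rw [map_mul, ha, hb]
  inv_mem' := fun {a} (ha : φ a = a) => by show φ a⁻¹ = a⁻¹; rw [map_inv, ha]

theorem mem_fixSub {φ : MulAut M} {m : M} : m ∈ fixSub φ ↔ φ m = m := Iff.rfl

variable {φ : MulAut M} (h3 : ∀ m, φ (φ (φ m)) = m) {D : Subgroup M} (hsq : ∀ d ∈ D, d * d = 1)
  (hcen : Subgroup.centralizer (D : Set M) ≤ D) (hfix : D ≤ fixSub φ)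
include h3 hsq hcen hfix

theorem norm_fixed {K : Subgroup M} (hDK : D ≤ K) (hK : K ≤ fixSub φ) {c : M}
    (hc : ∀ k ∈ K, c * k * c⁻¹ ∈ K) : c ∈ fixSub φ := by
  have hδ : c⁻¹ * φ c ∈ D := hcen (Subgroup.mem_centralizer_iff.2 fun d hd => by
    have hd' : φ d = d := hfix hd
    have h : φ c * φ d * (φ c)⁻¹ = c * d * c⁻¹ := by
      rw [← map_inv, ← map_mul, ← map_mul]; exact hK (hc d (hDK hd))
    rw [hd'] at h
    calc d * (c⁻¹ * φ c) = c⁻¹ * (c * d * c⁻¹) * φ c := by group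
      _ = c⁻¹ * (φ c * d * (φ c)⁻¹) * φ c := by rw [h]
      _ = c⁻¹ * φ c * d := by group)
  obtain ⟨δ, hδ', e⟩ : ∃ δ ∈ D, φ c = c * δ := ⟨_, hδ, (mul_inv_cancel_left c (φ c)).symm⟩
  have h := h3 c
  have eδ : φ δ = δ := hfix hδ'
  simp only [e, map_mul, eδ] at h
  have hδ1 : δ = 1 := by
    have h2 := hsq δ hδ'
    have : c * δ = c := by
      conv_rhs => rw [← h, mul_assoc (c * δ) δ δ, h2, mul_one]
    exact mul_eq_left.1 this
  rw [mem_fixSub, e, hδ1, mul_one]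

theorem two_fixed {T : Subgroup M} (hT : IsPGroup 2 T) (hDT : D ≤ T) : T ≤ fixSub φ := by
  haveI : Fact (Nat.Prime 2) := ⟨Nat.prime_two⟩
  by_contra hne
  haveI := hT.isNilpotent
  have hlt : (fixSub φ ⊓ T).subgroupOf T < ⊤ := lt_top_iff_ne_top.2 fun e =>
    hne ((Subgroup.subgroupOf_eq_top.1 e).trans inf_le_left)
  obtain ⟨x, hx, hxT⟩ := SetLike.exists_of_lt (normalizerCondition_of_isNilpotent _ hlt)
  refine hxT ⟨norm_fixed h3 hsq hcen hfix (le_inf hfix hDT) inf_le_left fun k hk => ?_, x.2⟩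
  exact (Subgroup.mem_normalizer_iff.1 hx ⟨k, hk.2⟩).1 hk

omit h3 hsq hcen hfix in
theorem modeq_one {U F : Subgroup M} (hUF : U ≤ F) {n : ℕ} (hU : Nat.card U = n)
    (hfree : ∀ g : M, g ∉ F → ∀ u ∈ U, g⁻¹ * u * g ∈ F → u = 1) : n ∣ F.index - 1 := by
  classical
  haveI : Fintype (M ⧸ F) := Fintype.ofFinite _
  haveI : Fintype (MulAction.orbitRel.Quotient U (M ⧸ F)) := Fintype.ofFinite _
  have h := Nat.card_congr (MulAction.selfEquivSigmaOrbitsQuotientStabilizer U (M ⧸ F))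
  rw [Nat.card_sigma] at h
  let x₀ : M ⧸ F := ((1 : M) : M ⧸ F)
  let ω₀ : MulAction.orbitRel.Quotient U (M ⧸ F) := Quotient.mk'' x₀
  have hfix0 : ∀ u : U, u • x₀ = x₀ := fun u => by
    show (((u : M) * 1 : M) : M ⧸ F) = ((1 : M) : M ⧸ F)
    rw [QuotientGroup.eq, mul_one, mul_one]
    exact inv_mem (hUF u.2)
  have hout0 : ω₀.out = x₀ := by
    have : MulAction.orbitRel U (M ⧸ F) ω₀.out x₀ := Quotient.exact' (Quotient.out_eq' ω₀)
    obtain ⟨u, hu⟩ := (MulAction.orbitRel_apply.1 this : ω₀.out ∈ MulAction.orbit U x₀)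
    rw [← hu]
    exact hfix0 u
  have h0 : Nat.card (U ⧸ MulAction.stabilizer U ω₀.out) = 1 := by
    rw [hout0, show MulAction.stabilizer U x₀ = ⊤ from Subgroup.ext fun u => iff_of_true (hfix0 u) (Subgroup.mem_top u)]
    exact Subgroup.index_top
  have hrest : ∀ ω ∈ (Finset.univ : Finset (MulAction.orbitRel.Quotient U (M ⧸ F))).erase ω₀,
      n ∣ Nat.card (U ⧸ MulAction.stabilizer U ω.out) := by
    intro ω hω
    obtain ⟨g, hg⟩ := QuotientGroup.mk_surjective (ω.out : M ⧸ F)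
    have hgF : g ∉ F := fun hgF => (Finset.mem_erase.1 hω).1 (by
      rw [← Quotient.out_eq' ω, ← hg]
      show Quotient.mk'' ((g : M) : M ⧸ F) = Quotient.mk'' ((1 : M) : M ⧸ F)
      rw [show ((g : M) : M ⧸ F) = ((1 : M) : M ⧸ F) from QuotientGroup.eq.2 (by simpa using hgF)])
    have hbot : MulAction.stabilizer U ω.out = ⊥ := (Subgroup.eq_bot_iff_forall _).2 fun u hu => by
      rw [MulAction.mem_stabilizer_iff, ← hg] at hu
      change (((u : M) * g : M) : M ⧸ F) = _ at hu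
      rw [QuotientGroup.eq] at hu
      refine Subtype.ext (hfree g hgF _ u.2 ?_)
      have := inv_mem hu
      rwa [mul_inv_rev, inv_inv, ← mul_assoc] at this
    rw [hbot]
    exact dvd_of_eq (hU.symm.trans (Subgroup.index_bot).symm)
  rw [← Finset.add_sum_erase _ _ (Finset.mem_univ ω₀), h0] at h
  show n ∣ Nat.card (M ⧸ F) - 1
  rw [h, Nat.add_sub_cancel_left]
  exact Finset.dvd_sum hrest

theorem aut_one (hcit : CIT M) (hc : Nat.card M = 20160) (U : Sylow 2 M) (hcU : Nat.card U = 64) (hDU : D ≤ U)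
    {z0 : M} (hz : orderOf z0 = 2) (hzU : ∀ m, Commute m z0 ↔ m ∈ (U : Subgroup M))
    (hconj : ∀ m, orderOf m = 2 → ∃ g, g * z0 * g⁻¹ = m) {D' : Subgroup M} (hsq' : ∀ d ∈ D', d * d = 1)
    (hcen' : Subgroup.centralizer (D' : Set M) ≤ D') (hDU' : D' ≤ U)
    (hinv : ∀ w ∈ (U : Subgroup M), orderOf w = 2 → w ∈ D ∨ w ∈ D') : ∀ m, φ m = m := by
  haveI : Fact (Nat.Prime 2) := ⟨Nat.prime_two⟩
  set F := fixSub φ with hF
  have hU2 : IsPGroup 2 (U : Subgroup M) := U.isPGroup'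
  have hUF : (U : Subgroup M) ≤ F := two_fixed h3 hsq hcen hfix hU2 hDU
  have hfix' : D' ≤ F := hDU'.trans hUF
  have hcent : ∀ w ∈ (U : Subgroup M), orderOf w = 2 → Subgroup.centralizer ({w} : Set M) ≤ F := by
    intro w hw hwo
    have hsub : ∀ {E : Subgroup M}, (∀ d ∈ E, d * d = 1) → w ∈ E → E ≤ Subgroup.centralizer ({w} : Set M) := by
      intro E hE hwE d hd
      refine Subgroup.mem_centralizer_singleton_iff.2 ?_
      calc d * w = (d * w)⁻¹ := (inv_eq_of_mul_eq_one_right (hE _ (mul_mem hd hwE))).symm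
        _ = w * d := by
          rw [mul_inv_rev, inv_eq_of_mul_eq_one_right (hE d hd), inv_eq_of_mul_eq_one_right (hE w hwE)]
    rcases hinv w hw hwo with h | h
    · exact two_fixed h3 hsq hcen hfix (hcit w hwo) (hsub hsq h)
    · exact two_fixed h3 hsq' hcen' hfix' (hcit w hwo) (hsub hsq' h)
  let US : Sylow 2 F := U.subtype hUF
  have hz0U : z0 ∈ (U : Subgroup M) := (hzU z0).1 (Commute.refl _)
  -- involutions of the fixed subgroup are conjugate there
  have hloc : ∀ w ∈ (U : Subgroup M), orderOf w = 2 → ∃ f ∈ F, f * z0 * f⁻¹ = w := by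
    intro w hw hwo
    obtain ⟨g, hg⟩ := hconj w hwo
    have hT : ∀ u ∈ (U : Subgroup M), g * u * g⁻¹ ∈ F := fun u hu => hcent w hw hwo
      (Subgroup.mem_centralizer_singleton_iff.2 (hg ▸ ((Commute.conj_iff g).2 ((hzU u).2 hu)).eq))
    let T : Subgroup F := ((U : Subgroup M).map (MulAut.conj g).toMonoidHom).subgroupOf F
    have hT2 : IsPGroup 2 T := (hU2.map _).comap_subtype
    obtain ⟨R, hR⟩ := hT2.exists_le_sylow
    obtain ⟨f, hf⟩ := MulAction.exists_smul_eq F R US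
    have hn : ∀ u ∈ (U : Subgroup M), ((f : M) * g) * u * ((f : M) * g)⁻¹ ∈ (U : Subgroup M) := by
      intro u hu
      have hm : f * ⟨g * u * g⁻¹, hT u hu⟩ * f⁻¹ ∈ (US : Subgroup F) := by
        rw [← hf]
        exact ⟨⟨g * u * g⁻¹, hT u hu⟩, hR ⟨u, hu, rfl⟩, rfl⟩
      rw [show ((f : M) * g) * u * ((f : M) * g)⁻¹ = (f : M) * (g * u * g⁻¹) * (f : M)⁻¹ by group]
      exact hm
    have hfg := norm_fixed h3 hsq hcen hfix hDU hUF hn
    refine ⟨g, ?_, hg⟩
    have := F.mul_mem (F.inv_mem f.2) hfg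
    rwa [inv_mul_cancel_left] at this
  have hall : ∀ w ∈ F, orderOf w = 2 → ∃ f ∈ F, f * z0 * f⁻¹ = w := by
    intro w hw hwo
    have hz2 : IsPGroup 2 (Subgroup.zpowers (⟨w, hw⟩ : F)) :=
      IsPGroup.of_card (n := 1) (by rw [Nat.card_zpowers, Subgroup.orderOf_mk, hwo, pow_one])
    obtain ⟨R, hR⟩ := hz2.exists_le_sylow
    obtain ⟨f, hf⟩ := MulAction.exists_smul_eq F R US
    have hm : f * ⟨w, hw⟩ * f⁻¹ ∈ (US : Subgroup F) := by
      rw [← hf]; exact ⟨⟨w, hw⟩, hR (Subgroup.mem_zpowers _), rfl⟩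
    obtain ⟨k, hk, e⟩ := hloc ((f : M) * w * (f : M)⁻¹) hm
      (by rw [← MulAut.conj_apply, MulEquiv.orderOf_eq, hwo])
    refine ⟨(f : M)⁻¹ * k, F.mul_mem (F.inv_mem f.2) hk, ?_⟩
    rw [show (f : M)⁻¹ * k * z0 * ((f : M)⁻¹ * k)⁻¹ = (f : M)⁻¹ * (k * z0 * k⁻¹) * f by group, e]
    group
  have hfree : ∀ g : M, g ∉ F → ∀ u ∈ (U : Subgroup M), g⁻¹ * u * g ∈ F → u = 1 := by
    intro g hg u hu hug
    by_contra hu1
    obtain ⟨k, hk⟩ := IsPGroup.iff_orderOf.1 hU2 ⟨u, hu⟩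
    rw [Subgroup.orderOf_mk] at hk
    have hk0 : k ≠ 0 := fun e => hu1 (orderOf_eq_one_iff.1 (by rw [hk, e, pow_zero]))
    have hwo : orderOf (u ^ 2 ^ (k - 1)) = 2 := by
      rw [orderOf_pow' u (by positivity), hk, Nat.gcd_eq_right (pow_dvd_pow 2 (Nat.sub_le k 1)),
        Nat.pow_div (Nat.sub_le k 1) (by norm_num), show k - (k - 1) = 1 by omega, pow_one]
    set w := u ^ 2 ^ (k - 1)
    have hwg : g⁻¹ * w * g ∈ F := by
      have := F.pow_mem hug (2 ^ (k - 1))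
      rwa [show (g⁻¹ * u * g) ^ 2 ^ (k - 1) = g⁻¹ * w * g by
        rw [show g⁻¹ * u * g = g⁻¹ * u * g⁻¹⁻¹ by rw [inv_inv], conj_pow, inv_inv]] at this
    obtain ⟨a, ha, ea⟩ := hall w (hUF (pow_mem hu _)) hwo
    obtain ⟨b, hb, eb⟩ := hall _ hwg (by
      rw [show g⁻¹ * w * g = MulAut.conj g⁻¹ w by simp, MulEquiv.orderOf_eq, hwo])
    have hcom : Commute (a⁻¹ * g * b) z0 := mul_inv_eq_iff_eq_mul.1 (by
      rw [show a⁻¹ * g * b * z0 * (a⁻¹ * g * b)⁻¹ = a⁻¹ * g * (b * z0 * b⁻¹) * g⁻¹ * a by group, eb,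
        show a⁻¹ * g * (g⁻¹ * w * g) * g⁻¹ * a = a⁻¹ * w * a by group, ← ea]
      group)
    refine hg ?_
    have := F.mul_mem (F.mul_mem ha (hUF ((hzU _).1 hcom))) (F.inv_mem hb)
    rwa [show a * (a⁻¹ * g * b) * b⁻¹ = g by group] at this
  have hd := modeq_one hUF hcU hfree
  have hci := F.card_mul_index
  rw [hc] at hci
  obtain ⟨c, hcF⟩ := Subgroup.card_dvd_of_le hUF
  rw [hcU] at hcF
  rw [hcF] at hci
  have h1 : F.index = 1 := by
    have hi : F.index ∣ 315 := ⟨c, by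
      have : 64 * (F.index * c) = 64 * 315 := by rw [show 64 * 315 = 20160 from rfl, ← hci]; ring
      omega⟩
    have hle := Nat.le_of_dvd (by norm_num) hi
    obtain ⟨j, hj⟩ := hd
    have hj4 : j ≤ 4 := by omega
    have hpos : F.index ≠ 0 := Subgroup.index_ne_zero_of_finite
    interval_cases j <;> first | omega | (rw [show F.index = _ from (by omega : F.index = 65)] at hi; norm_num at hi) | (rw [show F.index = _ from (by omega : F.index = 129)] at hi; norm_num at hi) | (rw [show F.index = _ from (by omega : F.index = 193)] at hi; norm_num at hi) | (rw [show F.index = _ from (by omega : F.index = 257)] at hi; norm_num at hi)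
  intro m
  exact (Subgroup.index_eq_one.1 h1 ▸ Subgroup.mem_top m : m ∈ F)

end Cfsg.Agent.Spor.SuzT.Seven
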