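import Cfsg.Agent.Lib.Spor.SuzR.Top
import Cfsg.Agent.Lib.Spor.SuzR.SevenFix

/-!
Groups of Suzuki sporadic type: elements permuting the four-group and centralising the central involution act
trivially on the quotient of its centraliser.
-/

set_option autoImplicit false
set_option maxRecDepth 100000
set_option linter.unusedSectionVars false
set_option linter.style.haveILetI false

namespace Cfsg.Agent.Spor.SuzT.Rad

open Chk Dat
open Cfsg.Agent.Solv.CITGroups (CIT orderOf_two_iff)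

/-- the elementary subgroups are self-centralising modulo the four-group -/
def eCentOK : Bool :=
  (List.range 16).all fun u => !(sixB u) || (List.range 16).all fun r => !(perpR u r) ||
    (List.range 256).all fun n => !(cmB u 4 (n / 16) (n % 16) && cmB (n / 16) (n % 16) r 0 &&
      cmB (n / 16) (n % 16) 0 r) || inW' u r (n / 16) (n % 16)

theorem e_cent_ok : eCentOK = true := by decide +kernel

universe u

variable {G : Type u} [Group G] [Finite G] {z : G} {Q : Subgroup G} {C : Ctx z Q} (L : Cfg C)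

/-- the elementary subgroup in the quotient -/
noncomputable def Cfg.Eb (r : ℕ) : Subgroup L.MQ :=
  ((Cfg.E (C := C) r).subgroupOf L.Hv).map (QuotientGroup.mk' L.VH)

theorem Cfg.mem_Eb {r : ℕ} {m : L.MQ} :
    m ∈ L.Eb r ↔ ∃ (e : G) (he : e ∈ L.Hv), e ∈ Cfg.E (C := C) r ∧ L.bar he = m :=
  ⟨fun ⟨⟨e, he⟩, he', h⟩ => ⟨e, he, he', h⟩, fun ⟨e, he, he', h⟩ => ⟨⟨e, he⟩, he', h⟩⟩

theorem Cfg.E_S₀ {r : ℕ} (hr : perpR L.u r = true) {e : G} (he : e ∈ Cfg.E (C := C) r) : e ∈ L.S₀ :=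
  L.W_le hr (L.E_le_W hr he)

theorem Cfg.Eb_sq {r : ℕ} (hr : perpR L.u r = true) : ∀ m ∈ L.Eb r, m * m = 1 := by
  intro m hm
  obtain ⟨e, he, he', rfl⟩ := L.mem_Eb.1 hm
  rw [← L.bar_mul, L.bar_one_iff, L.W_sq hr (L.E_le_W hr he')]
  exact one_mem _

theorem Cfg.Eb_le {r : ℕ} (hr : perpR L.u r = true) : L.Eb r ≤ L.U := by
  intro m hm
  obtain ⟨e, he, he', rfl⟩ := L.mem_Eb.1 hm
  exact L.mem_U.2 ⟨e, L.E_S₀ hr he', rfl⟩

theorem Cfg.Eb_cent {r : ℕ} (hr : perpR L.u r = true) : Subgroup.centralizer (L.Eb r : Set L.MQ) ≤ L.Eb r := by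
  intro m hm
  have hc : ∀ {n}, n ∈ L.Eb r → Commute m n := fun {n} hn => (Subgroup.mem_centralizer_iff.1 hm n hn).symm
  obtain ⟨g, hg, rfl⟩ := L.mem_U.1 (L.cent_z (hc (L.mem_Eb.2 ⟨z, L.z_Hv, Cfg.z_E, rfl⟩)))
  have hgH := L.S₀_le_Hv hg
  have hcomm : ∀ e ∈ Cfg.E (C := C) r, Commute g e := by
    intro e he
    by_cases he1 : e = 1
    · rw [he1]; exact Commute.one_right g
    have heH := L.S₀_le_Hv (L.E_S₀ hr he)
    have hD := (L.W_D hr (L.E_le_W hr he) he1).2 he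
    have h1 : L.bar heH = L.bar (mul_mem (mul_mem hgH heH) (inv_mem hgH)) := by
      rw [← L.bar_conj heH hgH, (hc (L.mem_Eb.2 ⟨e, heH, he, rfl⟩)).eq, mul_inv_cancel_right]
    rw [L.bar_eq] at h1
    have := L.coset_D hD heH h1 (by rw [mul_inv_cancel_left]; exact Cfg.D_conj hD)
    exact mul_inv_eq_iff_eq_mul.1 (inv_mul_eq_one.1 this).symm
  obtain ⟨hR, hgt⟩ := L.mem_S₀.1 hg
  have hr16 := (perp_spec hr).1
  have key : ∀ a b, (a = 0 ∨ a = r) → (b = 0 ∨ b = r) → a < 16 → b < 16 →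
      cmB (C.fst g) (C.th g) a b = true := by
    intro a b ha hb ha' hb'
    obtain ⟨e1, a1, a2⟩ := C.rep_coords (u := a) (v := b) (i := 0) (j := 0) ha' hb' (by norm_num) (by norm_num)
    have h := (C.comm_iff hR e1).1 (hcomm _ (Cfg.mem_E.2 ⟨e1, by rw [a1, a2]; exact inE_iff.2 ⟨ha, hb⟩⟩))
    rw [a1, a2] at h
    simp [cmB, h.1, h.2]
  have hck := List.all_eq_true.mp e_cent_ok L.u (List.mem_range.mpr L.u_lt)
  rw [L.six, Bool.not_true, Bool.false_or] at hck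
  have h1 := List.all_eq_true.mp hck r (List.mem_range.mpr hr16)
  rw [hr, Bool.not_true, Bool.false_or] at h1
  have hu := C.fst_lt g
  have hv := C.th_lt' g
  have h2 := List.all_eq_true.mp h1 (16 * C.fst g + C.th g) (List.mem_range.mpr (by omega))
  rw [show (16 * C.fst g + C.th g) / 16 = C.fst g by omega, show (16 * C.fst g + C.th g) % 16 = C.th g by omega,
    (L.comm_t hR).1 hgt, key r 0 (Or.inr rfl) (Or.inl rfl) hr16 (by norm_num),
    key 0 r (Or.inl rfl) (Or.inr rfl) (by norm_num) hr16] at h2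
  simp only [Bool.and_self, Bool.not_true, Bool.false_or] at h2
  obtain ⟨e, he, w, hw, hew⟩ := L.W_split hr ((L.mem_W hr).2 ⟨hR, h2⟩)
  refine L.mem_Eb.2 ⟨e, L.S₀_le_Hv (L.E_S₀ hr he), he, (L.bar_eq _ _).2 ?_⟩
  rw [hew, inv_mul_cancel_left]
  exact hw

theorem Cfg.bar_invol {r : ℕ} (hr : perpR L.u r = true) {w : L.MQ} (hw : w ∈ L.U) (hwo : orderOf w = 2) :
    w ∈ L.Eb r ∨ w ∈ L.Eb (L.sw r) := by
  obtain ⟨g, hg, rfl⟩ := L.mem_U.1 hw
  have hgg : g * g = 1 := L.invol_bar hg (by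
    rw [← L.bar_one_iff (mul_mem (L.S₀_le_Hv hg) (L.S₀_le_Hv hg)), L.bar_mul]
    exact (orderOf_two_iff.1 hwo).1)
  obtain ⟨s, hs, hW⟩ := L.invol_W hg hgg
  obtain ⟨e, he, v, hv, hev⟩ := L.W_split hs hW
  have hm : L.bar (L.S₀_le_Hv hg) ∈ L.Eb s := L.mem_Eb.2 ⟨e, L.S₀_le_Hv (L.E_S₀ hs he), he,
    (L.bar_eq _ _).2 (by rw [hev, inv_mul_cancel_left]; exact hv)⟩
  rcases (L.sw_perp hr).2.2.2 s hs with rfl | rfl
  exacts [Or.inl hm, Or.inr hm]

/-- the normaliser of the four-group -/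
noncomputable def Cfg.NV : Subgroup G := Subgroup.normalizer (L.V : Set G)

theorem Cfg.NV_V {g w : G} (hg : g ∈ L.NV) (hw : w ∈ L.V) : g * w * g⁻¹ ∈ L.V :=
  (Subgroup.mem_normalizer_iff.1 hg w).1 hw

theorem Cfg.NV_Hv {g a : G} (hg : g ∈ L.NV) (ha : a ∈ L.Hv) : g * a * g⁻¹ ∈ L.Hv := by
  have h : ∀ w ∈ L.V, Commute (g * a * g⁻¹) w := fun w hw => by
    have hw' : g⁻¹ * w * g ∈ L.V := (Subgroup.mem_normalizer_iff''.1 hg w).1 hw
    have := (Commute.conj_iff g).2 (L.Hv_V ha hw')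
    rwa [show g * (g⁻¹ * w * g) * g⁻¹ = w by group] at this
  exact L.mem_Hv.2 ⟨h _ L.t_V, h _ L.v_V⟩

theorem Cfg.Hv_NV {g : G} (hg : g ∈ L.Hv) : g ∈ L.NV :=
  Tw.mem_normalizer_of fun w hw => by rwa [(L.Hv_V hg hw).eq, mul_inv_cancel_right]

/-- conjugation on the centraliser of the four-group -/
noncomputable def Cfg.cj {g : G} (hg : g ∈ L.NV) : L.Hv ≃* L.Hv where
  toFun a := ⟨g * a * g⁻¹, L.NV_Hv hg a.2⟩
  invFun a := ⟨g⁻¹ * a * g, by simpa using L.NV_Hv (inv_mem hg) a.2⟩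
  left_inv a := Subtype.ext (by show g⁻¹ * (g * a * g⁻¹) * g = a; group)
  right_inv a := Subtype.ext (by show g * (g⁻¹ * a * g) * g⁻¹ = a; group)
  map_mul' a b := Subtype.ext (by show g * (a * b) * g⁻¹ = g * a * g⁻¹ * (g * b * g⁻¹); group)

theorem Cfg.cj_VH {g : G} (hg : g ∈ L.NV) : L.VH.map (L.cj hg).toMonoidHom = L.VH := by
  ext a
  constructor
  · rintro ⟨b, hb, rfl⟩
    exact L.NV_V hg hb
  · intro ha
    exact ⟨(L.cj hg).symm a, (Subgroup.mem_normalizer_iff''.1 hg (a : G)).1 ha, (L.cj hg).apply_symm_apply a⟩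

/-- conjugation on the quotient -/
noncomputable def Cfg.phi {g : G} (hg : g ∈ L.NV) : MulAut L.MQ :=
  QuotientGroup.congr L.VH L.VH (L.cj hg) (L.cj_VH hg)

theorem Cfg.phi_bar {g : G} (hg : g ∈ L.NV) {a : G} (ha : a ∈ L.Hv) :
    L.phi hg (L.bar ha) = L.bar (L.NV_Hv hg ha) := rfl

theorem Cfg.zel_cases {i j : ℕ} (hi : i < 2) (hj : j < 2) :
    C.zel i j = 1 ∨ C.zel i j = z ∨ C.zel i j = C.x ∨ C.zel i j = C.x * z := by
  interval_cases i <;> interval_cases j <;> simp [Ctx.zel, C.xz.eq]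

theorem Cfg.cube_fix_x {g : G} (hg : g ∈ L.NV) (hz : Commute g z) (h3 : g ^ 3 = 1) : Commute g C.x := by
  have hxH := L.S₀_le_Hv L.x_S₀
  have hxD := (L.four_D (a := C.x) (Or.inr (Or.inl rfl))).1
  have hx1 := (D_sq C.hy hxD).2
  have hzz : ∀ a ∈ L.S₀, g * a * g⁻¹ ∈ L.S₀ := fun a ha => by
    refine L.cent_bar (L.NV_Hv hg (L.S₀_le_Hv ha)) ?_
    rw [Commute, SemiconjBy, ← L.bar_mul, ← L.bar_mul]
    exact L.bar_congr _ _ ((hz.mul_left (L.mem_S₀.1 ha).1.1).mul_left hz.inv_left).eq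
  have hcen : ∀ n ∈ L.U, Commute (L.bar (L.NV_Hv hg hxH)) n := by
    intro n hn
    obtain ⟨a, ha, rfl⟩ := L.mem_U.1 hn
    have ha' : g⁻¹ * a * g ∈ L.S₀ := by
      have h2 := hzz _ (hzz _ ha)
      rwa [show g * (g * a * g⁻¹) * g⁻¹ = g⁻¹ * ((g * g * g) * a * (g * g * g)⁻¹) * g by group,
        show g * g * g = 1 by rw [← h3, pow_succ, pow_two], one_mul, inv_one,
        mul_one] at h2
    have hc : Commute C.x (g⁻¹ * a * g) := (L.mem_S₀.1 ha').1.2.1.symm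
    have := (Commute.conj_iff g).2 hc
    rw [show g * (g⁻¹ * a * g) * g⁻¹ = a by group] at this
    rw [Commute, SemiconjBy, ← L.bar_mul, ← L.bar_mul]
    exact L.bar_congr _ _ this.eq
  obtain ⟨i, j, hi, hj, e⟩ := L.center_U (L.mem_U.2 ⟨_, hzz _ L.x_S₀, rfl⟩) hcen
  rw [eq_comm, L.bar_eq] at e
  have hDx : IsConj z (g * C.x * g⁻¹) := Cfg.D_conj hxD
  have hzel : C.zel i j ≠ 1 := fun e1 => L.V_not_D (by rw [e1, inv_one, one_mul] at e; exact e) hDx
  have hDz : IsConj z (C.zel i j) := by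
    rcases Cfg.zel_cases (C := C) hi hj with h | h | h | h
    · exact absurd h hzel
    · rw [h]
    all_goals rw [h]
    · exact hxD
    · exact (L.four_D (Or.inr (Or.inr rfl))).1
  have e2 := L.coset_D hDz (L.S₀_le_Hv (L.zel_S₀ i j)) e (by rw [mul_inv_cancel_left]; exact hDx)
  rw [inv_mul_eq_one] at e2
  rcases Cfg.zel_cases (C := C) hi hj with h | h | h | h
  · exact absurd h hzel
  · exfalso
    rw [h] at e2
    have : C.x = z := by
      calc C.x = g⁻¹ * (g * C.x * g⁻¹) * g := by group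
        _ = z := by rw [← e2, mul_assoc, ← hz.eq, inv_mul_cancel_left]
    have hh := L.hx
    rw [this, zz C.hy, L.hz] at hh
    exact hx1 hh
  · rw [h] at e2; exact mul_inv_eq_iff_eq_mul.1 e2.symm
  · exfalso
    rw [h] at e2
    have hgz : g * z * g⁻¹ = z := by rw [hz.eq, mul_inv_cancel_right]
    have h2 : g * (g * C.x * g⁻¹) * g⁻¹ = C.x := by
      rw [← e2, show g * (C.x * z) * g⁻¹ = g * C.x * g⁻¹ * (g * z * g⁻¹) by group, ← e2, hgz, mul_assoc,
        zz C.hy, mul_one]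
    have h4 : g * g * g * C.x * (g * g * g)⁻¹ = C.x * z := by
      rw [show g * g * g * C.x * (g * g * g)⁻¹ = g * (g * (g * C.x * g⁻¹) * g⁻¹) * g⁻¹ by group, h2, ← e2]
    rw [show g * g * g = 1 by rw [← h3, pow_succ, pow_two], one_mul, inv_one, mul_one] at h4
    exact z_ne C.hy (mul_eq_left.1 h4.symm)

theorem Cfg.V_code {w : G} (hw : w ∈ L.V) :
    (C.fst w = 0 ∨ C.fst w = L.u ∨ C.fst w = 4 ∨ C.fst w = Nat.xor L.u 4) ∧
      (C.th w = 0 ∨ C.th w = L.u ∨ C.th w = 4 ∨ C.th w = Nat.xor L.u 4) := by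
  rcases hw with rfl | rfl | rfl | rfl
  · exact ⟨Or.inl C.fst_one, Or.inl C.th_one'⟩
  · exact ⟨Or.inr (Or.inl rfl), Or.inr (Or.inr (Or.inl L.four))⟩
  · exact ⟨Or.inr (Or.inr (Or.inl L.v_fst)), Or.inr (Or.inr (Or.inr L.v_th))⟩
  · exact ⟨Or.inr (Or.inr (Or.inr L.tv_code.1)), Or.inr (Or.inl L.tv_code.2)⟩

theorem Cfg.cube_fix_perp {g : G} (hg : g ∈ L.NV) (hz : Commute g z) (h3 : g ^ 3 = 1) {r : ℕ}
    (hr : perpR L.u r = true) : act (C.pi g) r = r := by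
  have hx := L.cube_fix_x hg hz h3
  have hx' : g * C.x * g⁻¹ = C.x ∨ g * C.x * g⁻¹ = C.x * z := Or.inl (by rw [hx.eq, mul_inv_cancel_right])
  have hf := C.pi_fix hz hx'
  set A := act (C.pi g) with hA
  have hw : g⁻¹ * L.t * g ∈ L.V := (Subgroup.mem_normalizer_iff''.1 hg L.t).1 L.t_V
  obtain ⟨-, h1, h2⟩ := C.conj_fix hz hx (L.mem_S₀.1 (L.V_le hw)).1
  rw [show g * (g⁻¹ * L.t * g) * g⁻¹ = L.t by group] at h1 h2
  obtain ⟨hfw, htw⟩ := L.V_code hw
  have hstep : ∀ {s}, perpR L.u s = true → perpR L.u (A s) = true := by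
    intro s hs
    obtain ⟨s1, s2, s3, s4, s5⟩ := perp_spec hs
    have hp : ∀ a, (a = 0 ∨ a = L.u ∨ a = 4 ∨ a = Nat.xor L.u 4) → a < 16 → p4 (A s) (A a) = 0 := by
      intro a ha ha'
      rw [hA, act_p4 hf s1 ha']
      have h0 : p4 s 0 = 0 := by
        have := p4_add s s1 L.u L.u_lt L.u L.u_lt
        rw [xor_self'] at this
        omega
      rcases ha with rfl | rfl | rfl | rfl
      · exact h0
      · exact s4
      · exact s5
      · rw [p4_add s s1 _ L.u_lt 4 (by norm_num), s4, s5]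
    refine perp_of (act_lt _ _) (fun e => s2 ?_) (by rw [hA, act_q4 hf s1, s3]) ?_ ?_
    · have hzi := hz.inv_left
      have hfi : C.pi g⁻¹ • e0 = e0 := C.pi_fix hzi (Or.inl (by rw [hx.inv_left.eq, mul_inv_cancel_right]))
      calc s = act (C.pi g⁻¹ * C.pi g) s := by rw [← C.pi_mul hzi hz, inv_mul_cancel, C.pi_one, act_one s1]
        _ = act (C.pi g⁻¹) (A s) := act_mul hfi hf s1
        _ = 0 := by rw [e, act_zero]
    · have h := hp _ hfw (C.fst_lt _)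
      rwa [hA, ← h1] at h
    · have h := hp _ htw (C.th_lt' _)
      rwa [hA, ← h2, L.four] at h
  obtain ⟨hs1, hs2, hs3, hall⟩ := L.sw_perp hr
  have hr16 := (perp_spec hr).1
  have hs16 := (perp_spec hs1).1
  have hA3 : A (A (A r)) = r := by
    have hf2 : (C.pi g * C.pi g) • e0 = e0 := by rw [mul_smul, hf, hf]
    rw [hA, ← act_mul hf hf (act_lt _ _), ← act_mul hf2 hf hr16, ← C.pi_mul hz hz,
      ← C.pi_mul (hz.mul_left hz) hz, show g * g * g = 1 by rw [← h3, pow_succ, pow_two], C.pi_one, act_one hr16]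
  rcases hall _ (hstep hr) with e | e
  · exact e
  exfalso
  rcases hall _ (hstep hs1) with e2 | e2
  · rw [e, e2, e] at hA3; exact hs2 hA3
  · rw [e, e2, e2] at hA3; exact hs2 hA3

theorem Cfg.cube_fix_E {g : G} (hg : g ∈ L.NV) (hz : Commute g z) (h3 : g ^ 3 = 1) {r : ℕ}
    (hr : perpR L.u r = true) {e : G} (he : e ∈ Cfg.E (C := C) r) : Commute g e := by
  have hx := L.cube_fix_x hg hz h3
  obtain ⟨hR, hin⟩ := Cfg.mem_E.1 he
  obtain ⟨hR', h1, h2⟩ := C.conj_fix hz hx hR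
  have hA := L.cube_fix_perp hg hz h3 hr
  have hfix : ∀ a, (a = 0 ∨ a = r) → act (C.pi g) a = a := by
    rintro a (rfl | rfl)
    exacts [act_zero, hA]
  obtain ⟨i, j, hi, hj, e'⟩ := C.xor_div hR hR' (by rw [h1, hfix _ (inE_iff.1 hin).1])
    (by rw [h2, hfix _ (inE_iff.1 hin).2])
  have hcg : Commute g (C.zel i j) := (hz.pow_right i).mul_right (hx.pow_right j)
  set w := C.zel i j
  have hww : w * w = 1 := by
    show C.zel i j * C.zel i j = 1
    rw [C.zel_mul, show (i + i) % 2 = 0 by omega, show (j + j) % 2 = 0 by omega, C.zel_zero]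
  have h4 : g * g * g * e * (g * g * g)⁻¹ = e * w * w * w := by
    have hgw : g * w * g⁻¹ = w := by rw [hcg.eq, mul_inv_cancel_right]
    rw [show g * g * g * e * (g * g * g)⁻¹ = g * (g * (g * e * g⁻¹) * g⁻¹) * g⁻¹ by group, e',
      show g * (e * w) * g⁻¹ = g * e * g⁻¹ * (g * w * g⁻¹) by group, e', hgw,
      show g * (e * w * w) * g⁻¹ = g * e * g⁻¹ * (g * w * g⁻¹) * (g * w * g⁻¹) by group, e', hgw]
  rw [show g * g * g = 1 by rw [← h3, pow_succ, pow_two], one_mul, inv_one, mul_one, mul_assoc (e * w), hww, mul_one] at h4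
  rw [(mul_eq_left.1 h4.symm), mul_one] at e'
  exact mul_inv_eq_iff_eq_mul.1 e'

/-- such an element is trivial on the quotient -/
theorem Cfg.cube_trivial {g : G} (hg : g ∈ L.NV) (hz : Commute g z) (h3 : g ^ 3 = 1) {a : G} (ha : a ∈ L.Hv) :
    a⁻¹ * (g * a * g⁻¹) ∈ L.V := by
  obtain ⟨r, hr⟩ := L.exists_perp
  have hs := (L.sw_perp hr).1
  obtain ⟨hc, -, -⟩ := L.MQ_facts
  have hφ3 : ∀ m, L.phi hg (L.phi hg (L.phi hg m)) = m := by
    intro m
    obtain ⟨b, hb, rfl⟩ := L.bar_surj m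
    rw [L.phi_bar, L.phi_bar, L.phi_bar]
    exact L.bar_congr _ _ (by
      rw [show g * (g * (g * b * g⁻¹) * g⁻¹) * g⁻¹ = (g * g * g) * b * (g * g * g)⁻¹ by group,
        show g * g * g = 1 by rw [← h3, pow_succ, pow_two]]; group)
  have hfix : L.Eb r ≤ Seven.fixSub (L.phi hg) := fun m hm => by
    obtain ⟨e, he, he', rfl⟩ := L.mem_Eb.1 hm
    show L.phi hg (L.bar he) = L.bar he
    rw [L.phi_bar]
    exact L.bar_congr _ _ (by rw [(L.cube_fix_E hg hz h3 hr he').eq, mul_inv_cancel_right])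
  have h := Seven.aut_one hφ3 (L.Eb_sq hr) (L.Eb_cent hr) hfix L.cit hc L.USyl L.card_U (L.Eb_le hr)
    (z0 := L.bar L.z_Hv) (orderOf_two_iff.2 L.z_bar_sq) (fun m => ⟨fun h => L.cent_z h, fun hm => by
      obtain ⟨b, hb, rfl⟩ := L.mem_U.1 hm
      rw [Commute, SemiconjBy, ← L.bar_mul, ← L.bar_mul]
      exact L.bar_congr _ _ (L.mem_S₀.1 hb).1.1.eq⟩)
    (fun m hm => L.invol_conj (orderOf_two_iff.1 hm).1 (orderOf_two_iff.1 hm).2)
    (L.Eb_sq hs) (L.Eb_cent hs) (L.Eb_le hs) (fun w hw hwo => L.bar_invol hr hw hwo) (L.bar ha)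
  rw [L.phi_bar, eq_comm, L.bar_eq] at h
  exact h

end Cfsg.Agent.Spor.SuzT.Rad
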