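import Cfsg.Agent.Lib.Spor.SuzR.SevenCent

/-!
Groups of Suzuki sporadic type: elements of the normaliser of a subgroup of order seven.
-/

set_option autoImplicit false
set_option maxRecDepth 100000
set_option linter.unusedSectionVars false
set_option linter.style.haveILetI false

namespace Cfsg.Agent.Spor.SuzT.Rad

open Chk Dat
open Cfsg.Agent.Solv.CITGroups (CIT orderOf_two_iff)

theorem seven_exp : ∀ i : ℕ, i ^ 63 % 7 = 1 → i % 7 = 1 ∨ i % 7 = 2 ∨ i % 7 = 4 := by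
  intro i h
  have key : ∀ j < 7, j ^ 63 % 7 = 1 → j = 1 ∨ j = 2 ∨ j = 4 := by decide +kernel
  exact key _ (Nat.mod_lt _ (by norm_num)) (by rwa [← Nat.pow_mod])

universe u

variable {G : Type u} [Group G] [Finite G] {z : G} {Q : Subgroup G} {C : Ctx z Q} (L : Cfg C)

/-- the element permutes the involutions of the four-group cyclically -/
def Cfg.Cyc (g : G) : Prop := g * L.t * g⁻¹ = L.v ∧ g * L.v * g⁻¹ = L.t * L.v

theorem Cfg.Cyc.tv {g : G} (h : L.Cyc g) : g * (L.t * L.v) * g⁻¹ = L.t := by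
  rw [show g * (L.t * L.v) * g⁻¹ = g * L.t * g⁻¹ * (g * L.v * g⁻¹) by group, h.1, h.2, ← mul_assoc, L.v_t.eq,
    mul_assoc, L.v_sq, mul_one]

theorem Cfg.Cyc.nv {g : G} (h : L.Cyc g) : g ∈ L.NV := by
  refine Tw.mem_normalizer_of fun w hw => ?_
  rcases hw with e | e | e | e <;> rw [e]
  · rw [mul_one, mul_inv_cancel]; exact one_mem _
  · rw [h.1]; exact L.v_V
  · rw [h.2]; exact mul_mem L.t_V L.v_V
  · rw [h.tv]; exact L.t_V

theorem Cfg.Cyc.div {g k : G} (hg : L.Cyc g) (hk : L.Cyc k) : k⁻¹ * g ∈ L.Hv := by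
  refine L.mem_Hv.2 ⟨mul_inv_eq_iff_eq_mul.1 ?_, mul_inv_eq_iff_eq_mul.1 ?_⟩
  · rw [show k⁻¹ * g * L.t * (k⁻¹ * g)⁻¹ = k⁻¹ * (g * L.t * g⁻¹) * k by group, hg.1, ← hk.1]; group
  · rw [show k⁻¹ * g * L.v * (k⁻¹ * g)⁻¹ = k⁻¹ * (g * L.v * g⁻¹) * k by group, hg.2, ← hk.2]; group

theorem Cfg.Cyc.mul_left {g c : G} (hg : L.Cyc g) (hc : c ∈ L.Hv) : L.Cyc (c * g) := by
  constructor
  · rw [show c * g * L.t * (c * g)⁻¹ = c * (g * L.t * g⁻¹) * c⁻¹ by group, hg.1, (L.mem_Hv.1 hc).2.eq,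
      mul_inv_cancel_right]
  · rw [show c * g * L.v * (c * g)⁻¹ = c * (g * L.v * g⁻¹) * c⁻¹ by group, hg.2,
      ((L.mem_Hv.1 hc).1.mul_right (L.mem_Hv.1 hc).2).eq, mul_inv_cancel_right]

theorem Cfg.Cyc.mul_right {g c : G} (hg : L.Cyc g) (hc : c ∈ L.Hv) : L.Cyc (g * c) := by
  constructor
  · rw [show g * c * L.t * (g * c)⁻¹ = g * (c * L.t * c⁻¹) * g⁻¹ by group, (L.mem_Hv.1 hc).1.eq,
      mul_inv_cancel_right, hg.1]
  · rw [show g * c * L.v * (g * c)⁻¹ = g * (c * L.v * c⁻¹) * g⁻¹ by group, (L.mem_Hv.1 hc).2.eq,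
      mul_inv_cancel_right, hg.2]

theorem Cfg.Cyc.cube {g : G} (hg : L.Cyc g) : g ^ 3 ∈ L.Hv := by
  have e : g ^ 3 = g * g * g := by rw [pow_succ, pow_two]
  rw [e]
  refine L.mem_Hv.2 ⟨mul_inv_eq_iff_eq_mul.1 ?_, mul_inv_eq_iff_eq_mul.1 ?_⟩
  · rw [show g * g * g * L.t * (g * g * g)⁻¹ = g * (g * (g * L.t * g⁻¹) * g⁻¹) * g⁻¹ by group, hg.1, hg.2, hg.tv]
  · rw [show g * g * g * L.v * (g * g * g)⁻¹ = g * (g * (g * L.v * g⁻¹) * g⁻¹) * g⁻¹ by group, hg.2, hg.tv, hg.1]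

theorem Cfg.Cyc.pow {g : G} (hg : L.Cyc g) {n : ℕ} (hn : n % 3 = 1) : L.Cyc (g ^ n) := by
  rw [← Nat.div_add_mod n 3, hn, pow_succ, pow_mul]
  exact hg.mul_left L (pow_mem hg.cube _)

theorem Cfg.Hv_lt : L.Hv < L.H :=
  lt_of_le_not_ge inf_le_left fun h => L.outer_notin L.σ_v (h L.σ_H)

theorem Cfg.card_H : Nat.card L.H = 2 * Nat.card L.Hv := by
  have hi : (L.Hv.subgroupOf L.H).index = 2 := by
    refine Subgroup.index_eq_two_iff'.2 ⟨⟨L.σ, L.σ_H⟩, fun ⟨x, hx⟩ => ?_⟩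
    rcases L.H_split hx with h | h
    · refine Or.inr ⟨h, fun h' => L.outer_notin L.σ_v ?_⟩
      have := L.Hv.mul_mem h' (inv_mem (h : x ∈ L.Hv))
      simpa using this
    · refine Or.inl ⟨?_, L.outer_notin h⟩
      show L.σ * x ∈ L.Hv
      refine L.mem_Hv.2 ⟨L.σ_t.mul_left (L.mem_H.1 hx), mul_inv_eq_iff_eq_mul.1 ?_⟩
      rw [show L.σ * x * L.v * (L.σ * x)⁻¹ = L.σ * (x * L.v * x⁻¹) * L.σ⁻¹ by group, h,
        show L.σ * (L.t * L.v) * L.σ⁻¹ = L.σ * L.t * L.σ⁻¹ * (L.σ * L.v * L.σ⁻¹) by group, L.σ_t.eq,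
        mul_inv_cancel_right, L.σ_v, ← mul_assoc, L.sq, one_mul]
  have h := (L.Hv.subgroupOf L.H).card_mul_index
  rw [hi, Nat.card_congr (Subgroup.subgroupOfEquivOfLe L.Hv_le).toEquiv] at h
  omega

theorem Cfg.exists_cyc : ∃ g, L.Cyc g := by
  have hvz : Commute L.v z := L.v_R.1
  have hv1 : L.v ≠ 1 := fun e => L.t_v_ne (by
    have h := L.σ_v
    rw [e, mul_one, mul_inv_cancel, mul_one] at h
    rw [e, ← h, mul_one])
  obtain ⟨c, -, hct⟩ := C.conj_classC L.tz L.sq (C.pi_four L.mem L.four) hvz L.v_sq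
    (C.classC_of_not hvz L.v_sq hv1 L.v_not_D)
  set Cv := Subgroup.centralizer ({L.v} : Set G) with hCv
  have hcard : Nat.card Cv = 2 * Nat.card L.Hv := by
    rw [← L.card_H]
    refine (Nat.card_congr ?_).symm
    exact
      { toFun := fun a => ⟨c * a * c⁻¹, Subgroup.mem_centralizer_singleton_iff.2 (by
          rw [← hct]; exact ((Commute.conj_iff c).2 (L.mem_H.1 a.2)).eq)⟩
        invFun := fun a => ⟨c⁻¹ * a * c, L.mem_H.2 (by
          have h := (Commute.conj_iff c⁻¹).2 (Subgroup.mem_centralizer_singleton_iff.1 a.2 : Commute (a : G) L.v)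
          rwa [inv_inv, ← hct, show c⁻¹ * (c * L.t * c⁻¹) * c = L.t by group] at h)⟩
        left_inv := fun a => Subtype.ext (by show c⁻¹ * (c * a * c⁻¹) * c = a; group)
        right_inv := fun a => Subtype.ext (by show c * (c⁻¹ * a * c) * c⁻¹ = a; group) }
  have hle : L.Hv ≤ Cv := inf_le_right
  have hi : (L.Hv.subgroupOf Cv).index = 2 := by
    have h := (L.Hv.subgroupOf Cv).card_mul_index
    rw [hcard, Nat.card_congr (Subgroup.subgroupOfEquivOfLe hle).toEquiv, mul_comm 2] at h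
    exact Nat.eq_of_mul_eq_mul_left Nat.card_pos h
  have hn := Subgroup.normal_of_index_eq_two hi
  obtain ⟨g, hg, hgn⟩ : ∃ g ∈ Cv, g ∉ L.Hv := by
    by_contra hno
    have h : Cv ≤ L.Hv := fun g hg => Classical.byContradiction fun h => hno ⟨g, hg, h⟩
    have := Subgroup.card_le_of_le h
    have : 0 < Nat.card L.Hv := Nat.card_pos
    omega
  have hgv : Commute g L.v := Subgroup.mem_centralizer_singleton_iff.1 hg
  have hconj : ∀ a ∈ L.Hv, g * a * g⁻¹ ∈ L.Hv := fun a ha => hn.conj_mem ⟨a, hle ha⟩ ha ⟨g, hg⟩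
  have hconj' : ∀ a ∈ L.Hv, g⁻¹ * a * g ∈ L.Hv := fun a ha => by
    have h : g⁻¹ * a * g⁻¹⁻¹ ∈ L.Hv := hn.conj_mem ⟨a, hle ha⟩ ha ⟨g⁻¹, inv_mem hg⟩
    rwa [inv_inv] at h
  have htH : L.t ∈ L.Hv := L.mem_Hv.2 ⟨Commute.refl _, L.v_t.symm⟩
  have htV : g * L.t * g⁻¹ ∈ L.V := L.Hv_center (hconj _ htH) fun a ha => by
    have := (Commute.conj_iff g).2 (L.Hv_V (hconj' a ha) L.t_V).symm
    rwa [show g * (g⁻¹ * a * g) * g⁻¹ = a by group] at this
  have hgt : g * L.t * g⁻¹ = L.t * L.v := by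
    rcases htV with e | e | e | e
    · exact absurd (conj_eq_one_iff.1 e) L.ne_one
    · exact absurd (L.mem_Hv.2 ⟨mul_inv_eq_iff_eq_mul.1 e, hgv⟩) hgn
    · exfalso
      refine L.t_ne_v ?_
      calc L.t = g⁻¹ * (g * L.t * g⁻¹) * g := by group
        _ = L.v := by rw [e, hgv.inv_left.eq, inv_mul_cancel_right]
    · exact e
  have hgv' : g * L.v * g⁻¹ = L.v := by rw [hgv.eq, mul_inv_cancel_right]
  have hgtv : g * (L.t * L.v) * g⁻¹ = L.t := by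
    rw [show g * (L.t * L.v) * g⁻¹ = g * L.t * g⁻¹ * (g * L.v * g⁻¹) by group, hgt, hgv', mul_assoc, L.v_sq, mul_one]
  have hσt : L.σ * L.t * L.σ⁻¹ = L.t := by rw [L.σ_t.eq, mul_inv_cancel_right]
  -- the inverse of the product
  have h1 : g * L.σ * L.v * (g * L.σ)⁻¹ = L.t := by
    rw [show g * L.σ * L.v * (g * L.σ)⁻¹ = g * (L.σ * L.v * L.σ⁻¹) * g⁻¹ by group, L.σ_v, hgtv]
  have h2 : g * L.σ * (L.t * L.v) * (g * L.σ)⁻¹ = L.v := by
    rw [show g * L.σ * (L.t * L.v) * (g * L.σ)⁻¹ = g * (L.σ * L.t * L.σ⁻¹ * (L.σ * L.v * L.σ⁻¹)) * g⁻¹ by group,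
      L.σ_v, hσt, ← mul_assoc L.t, L.sq, one_mul, hgv']
  refine ⟨(g * L.σ)⁻¹, ?_, ?_⟩
  · nth_rewrite 1 [← h1]; group
  · nth_rewrite 1 [← h2]; group

theorem Cfg.exists_gam : ∃ γ, L.Cyc γ ∧ Commute γ z ∧ γ ^ 3 = 1 := by
  obtain ⟨g, hg⟩ := L.exists_cyc
  have hD : IsConj z (g * z * g⁻¹) := isConj_iff.2 ⟨g, rfl⟩
  obtain ⟨k, hk, e⟩ := L.D_trans_Hv (L.mem_Hv.1 (L.NV_Hv hg.nv L.z_Hv)).1 hD
  set g1 := k⁻¹ * g with hg1
  have h1 : L.Cyc g1 := hg.mul_left L (inv_mem hk)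
  have hz : Commute g1 z := mul_inv_eq_iff_eq_mul.1 (by
    rw [hg1, show k⁻¹ * g * z * (k⁻¹ * g)⁻¹ = k⁻¹ * (g * z * g⁻¹) * k by group, ← e]; group)
  have h3 : g1 ^ 3 ∈ L.S₀ := L.cent_bar h1.cube (by
    rw [Commute, SemiconjBy, ← L.bar_mul, ← L.bar_mul]; exact L.bar_congr _ _ (hz.pow_left 3).eq)
  refine ⟨g1 ^ 256, h1.pow L (by norm_num), hz.pow_left 256, ?_⟩
  rw [← pow_mul, mul_comm, pow_mul, ← L.toLoc.card_S₀]
  exact orderOf_dvd_iff_pow_eq_one.1 (Subgroup.orderOf_dvd_natCard _ h3)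

include L in
/-- an involution of the second class and a conjugate of the central one have a two-group as common centraliser -/
theorem Cfg.mixed {d a c : G} (hd : IsConj z d) (haa : a * a = 1) (ha1 : a ≠ 1) (ha : ¬ IsConj z a)
    (had : Commute a d) (hca : Commute c a) (hcd : Commute c d) : Tw.TwoElt c := by
  obtain ⟨k, hk⟩ := isConj_iff.1 hd
  set a' := k⁻¹ * a * k with ha'
  have hz : Commute a' z := by
    have h := (Commute.conj_iff k⁻¹).2 had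
    rwa [← hk, inv_inv, show k⁻¹ * (k * z * k⁻¹) * k = z by group] at h
  have haa' : a' * a' = 1 := by
    rw [ha', show k⁻¹ * a * k * (k⁻¹ * a * k) = k⁻¹ * (a * a) * k by group, haa]; group
  have ha1' : a' ≠ 1 := fun e => ha1 (by
    calc a = k * a' * k⁻¹ := by rw [ha']; group
      _ = 1 := by rw [e]; group)
  obtain ⟨e, he, het⟩ := C.conj_classC L.tz L.sq (C.pi_four L.mem L.four) hz haa'
    (C.classC_of_not hz haa' ha1' fun h => ha (h.trans (isConj_iff.2 ⟨k, by rw [ha']; group⟩)))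
  have hm : (k * e)⁻¹ * c * (k * e) ∈ L.S := by
    refine L.mem_S.2 ⟨?_, ?_⟩
    · have h := (Commute.conj_iff (k * e)⁻¹).2 hca
      rwa [inv_inv, show (k * e)⁻¹ * a * (k * e) = e⁻¹ * (k⁻¹ * a * k) * e by group, ← ha', ← het,
        show e⁻¹ * (e * L.t * e⁻¹) * e = L.t by group] at h
    · have h := (Commute.conj_iff (k * e)⁻¹).2 hcd
      rwa [inv_inv, show (k * e)⁻¹ * d * (k * e) = e⁻¹ * (k⁻¹ * d * k) * e by group, ← hk,
        show k⁻¹ * (k * z * k⁻¹) * k = z by group, he.inv_left.eq, inv_mul_cancel_right] at h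
  obtain ⟨n, hn⟩ := Tw.twoElt_of_mem L.S_two hm
  refine ⟨n, ?_⟩
  have h := congrArg (fun w => k * e * w * (k * e)⁻¹) hn
  simp only [mul_one, mul_inv_cancel] at h
  rw [← h, ← conj_pow]
  group

variable {L} {b : G} (B : L.Sev b)
include B

theorem Cfg.Sev.pow_eq {i j : ℕ} : b ^ i = b ^ j ↔ i % 7 = j % 7 := by
  rw [pow_eq_pow_iff_modEq, B.ord]; rfl

theorem Cfg.Sev.comp {g h : G} {i j : ℕ} (hg : g * b * g⁻¹ = b ^ i) (hh : h * b * h⁻¹ = b ^ j) :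
    g * h * b * (g * h)⁻¹ = b ^ (i * j) := by
  rw [show g * h * b * (g * h)⁻¹ = g * (h * b * h⁻¹) * g⁻¹ by group, hh, ← conj_pow, hg, pow_mul]

theorem Cfg.Sev.comp_pow {g : G} {i : ℕ} (hg : g * b * g⁻¹ = b ^ i) (n : ℕ) :
    g ^ n * b * (g ^ n)⁻¹ = b ^ (i ^ n) := by
  induction n with
  | zero => simp
  | succ n ih => rw [pow_succ, pow_succ]; exact B.comp ih hg

/-- elements of order seven are conjugate up to powers -/
theorem Cfg.Sev.seven_conj {a : G} (A : L.Sev a) : ∃ k ∈ L.Hv, ∃ i : ℕ, k * a * k⁻¹ = b ^ i := by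
  haveI : Fact (Nat.Prime 7) := ⟨by norm_num⟩
  obtain ⟨hc, -, -⟩ := L.MQ_facts
  have hsyl : ∀ {x : G} (X : L.Sev x), ∃ P : Sylow 7 L.MQ, (P : Subgroup L.MQ) = Subgroup.zpowers (L.bar X.mem) :=
    fun {x} X => ⟨(IsPGroup.of_card (n := 1) (by rw [Nat.card_zpowers, X.bar_ord, pow_one]) :
      IsPGroup 7 (Subgroup.zpowers (L.bar X.mem))).toSylow (by
        intro hd
        have h := (Subgroup.zpowers (L.bar X.mem)).card_mul_index
        rw [Nat.card_zpowers, X.bar_ord, hc] at h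
        obtain ⟨m, hm⟩ := hd
        omega), rfl⟩
  obtain ⟨P, hP⟩ := hsyl A
  obtain ⟨R, hR⟩ := hsyl B
  obtain ⟨q, hq⟩ := MulAction.exists_smul_eq L.MQ P R
  obtain ⟨k, hk, rfl⟩ := L.bar_surj q
  have hm : L.bar hk * L.bar A.mem * (L.bar hk)⁻¹ ∈ Subgroup.zpowers (L.bar B.mem) := by
    rw [← hR, ← hq]
    exact ⟨L.bar A.mem, hP ▸ Subgroup.mem_zpowers _, rfl⟩
  rw [← mem_powers_iff_mem_zpowers] at hm
  obtain ⟨i, hi⟩ := hm
  refine ⟨k, hk, i, L.lift_eq (mul_mem (mul_mem hk A.mem) (inv_mem hk)) (pow_mem B.mem i) (n := 7) (by decide) ?_ ?_ ?_⟩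
  · rw [conj_pow, A.pow7]; group
  · rw [← pow_mul, mul_comm, pow_mul, B.pow7, one_pow]
  · rw [← L.bar_conj A.mem hk, L.bar_pow B.mem]; exact hi.symm

/-- exponents of elements of the normaliser in the centraliser of the four-group -/
theorem Cfg.Sev.exp_Hv {c : G} (hc : c ∈ L.Hv) {i : ℕ} (h : c * b * c⁻¹ = b ^ i) : i ^ 21 % 7 = 1 := by
  have hb : L.bar hc * L.bar B.mem * (L.bar hc)⁻¹ = L.bar B.mem ^ i := by
    rw [L.bar_conj B.mem hc, ← L.bar_pow B.mem]; exact L.bar_congr _ _ h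
  have h21 := B.norm_pow21 hb
  rw [← L.bar_pow hc, L.bar_one_iff] at h21
  have e : b ^ (i ^ 21) = b ^ 1 := by
    rw [← B.comp_pow h 21, ← (L.Hv_V B.mem h21).eq, mul_inv_cancel_right, pow_one]
  exact B.pow_eq.1 e

/-- an element of order three in the normaliser -/
theorem Cfg.Sev.exists_n : ∃ n ∈ L.Hv, ∃ i : ℕ, n * b * n⁻¹ = b ^ i ∧ (i % 7 = 2 ∨ i % 7 = 4) := by
  obtain ⟨hN, hC⟩ := B.norm_M
  set P := Subgroup.zpowers (L.bar B.mem) with hP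
  obtain ⟨m, hm, hmC⟩ : ∃ m ∈ Subgroup.normalizer (P : Set L.MQ), m ∉ Subgroup.centralizer (P : Set L.MQ) := by
    by_contra hno
    have h : Subgroup.normalizer (P : Set L.MQ) ≤ Subgroup.centralizer (P : Set L.MQ) := fun g hg =>
      Classical.byContradiction fun h => hno ⟨g, hg, h⟩
    have := Subgroup.card_le_of_le h
    rw [hN, hC, hP, Nat.card_zpowers, B.bar_ord] at this
    omega
  have hmem := (Subgroup.mem_normalizer_iff.1 hm _).1 (Subgroup.mem_zpowers (L.bar B.mem))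
  rw [hP, ← mem_powers_iff_mem_zpowers] at hmem
  obtain ⟨i, hi⟩ := hmem
  obtain ⟨n, hn, rfl⟩ := L.bar_surj m
  have e : n * b * n⁻¹ = b ^ i := L.lift_eq (mul_mem (mul_mem hn B.mem) (inv_mem hn)) (pow_mem B.mem i) (n := 7)
    (by decide) (by rw [conj_pow, B.pow7]; group) (by rw [← pow_mul, mul_comm, pow_mul, B.pow7, one_pow])
    (by rw [← L.bar_conj B.mem hn, L.bar_pow B.mem]; exact hi.symm)
  refine ⟨n, hn, i, e, ?_⟩
  have h63 : i ^ 63 % 7 = 1 := by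
    rw [show 63 = 21 * 3 from rfl, pow_mul, Nat.pow_mod, B.exp_Hv hn e]
  rcases seven_exp i h63 with h1 | h1 | h1
  · refine absurd ?_ hmC
    have hnb : Commute n b := mul_inv_eq_iff_eq_mul.1 (by rw [e, B.pow_eq.2 (show i % 7 = 1 % 7 by omega), pow_one])
    refine Subgroup.mem_centralizer_iff.2 fun x hx => ?_
    obtain ⟨j, rfl⟩ := hx
    refine (Commute.zpow_right ?_ j).eq.symm
    rw [Commute, SemiconjBy, ← L.bar_mul hn B.mem, ← L.bar_mul B.mem hn]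
    exact L.bar_congr _ _ hnb.eq
  · exact Or.inl h1
  · exact Or.inr h1

/-- an involution inverting the element -/
theorem Cfg.Sev.exists_y : ∃ y ∈ L.H, y * y = 1 ∧ y * L.v * y⁻¹ = L.t * L.v ∧ y * b * y⁻¹ = b⁻¹ ∧
    ¬ IsConj z y := by
  have A : L.Sev (L.σ * b * L.σ⁻¹) := ⟨L.NV_Hv (L.H_NV L.σ_H) B.mem, by
    rw [← MulAut.conj_apply, MulEquiv.orderOf_eq, B.ord]⟩
  obtain ⟨k, hk, i, hi⟩ := B.seven_conj A
  set y0 := k * L.σ with hy0
  have h0H : y0 ∈ L.H := mul_mem (L.Hv_le hk) L.σ_H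
  have h0v : y0 * L.v * y0⁻¹ = L.t * L.v := L.outer_mul hk L.σ_v
  have h0b : y0 * b * y0⁻¹ = b ^ i := by rw [← hi, hy0]; group
  have hsq : y0 ^ 2 ∈ L.Hv := by
    refine (L.H_split (pow_mem h0H 2)).resolve_right fun h => ?_
    rw [pow_two, show y0 * y0 * L.v * (y0 * y0)⁻¹ = y0 * (y0 * L.v * y0⁻¹) * y0⁻¹ by group, h0v,
      show y0 * (L.t * L.v) * y0⁻¹ = y0 * L.t * y0⁻¹ * (y0 * L.v * y0⁻¹) by group, h0v, (L.mem_H.1 h0H).eq,
      mul_inv_cancel_right, ← mul_assoc, L.sq, one_mul] at h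
    exact L.t_v_ne h.symm
  have hb : L.bar hsq * L.bar B.mem * (L.bar hsq)⁻¹ = L.bar B.mem ^ (i ^ 2) := by
    rw [L.bar_conj B.mem hsq, ← L.bar_pow B.mem]; exact L.bar_congr _ _ (B.comp_pow h0b 2)
  have h42 := B.norm_pow21 hb
  rw [← L.bar_pow hsq, L.bar_one_iff] at h42
  set y1 := y0 ^ 21 with hy1
  have h1H : y1 ∈ L.H := pow_mem h0H 21
  have h1v : y1 * L.v * y1⁻¹ = L.t * L.v := L.outer_odd h0H h0v (by decide)
  have h1b : y1 * b * y1⁻¹ = b ^ (i ^ 21) := B.comp_pow h0b 21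
  have h11 : y1 * y1 ∈ L.V := by
    rw [hy1, ← pow_add, show 21 + 21 = 2 * 21 from rfl, pow_mul]; exact h42
  obtain ⟨y, hy, hyy, hyv, hyb⟩ :
      ∃ y ∈ L.H, y * y = 1 ∧ y * L.v * y⁻¹ = L.t * L.v ∧ y * b * y⁻¹ = b ^ (i ^ 21) := by
    have hc : y1 * (y1 * y1) * y1⁻¹ = y1 * y1 := by group
    rcases h11 with e | e | e | e
    · exact ⟨y1, h1H, e, h1v, h1b⟩
    · have hvb : Commute L.v b := (L.mem_Hv.1 B.mem).2.symm
      refine ⟨y1 * L.v, mul_mem h1H (L.Hv_le (L.S₀_le_Hv L.v_S₀)), ?_, ?_, ?_⟩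
      · rw [show y1 * L.v * (y1 * L.v) = y1 * L.v * y1⁻¹ * (y1 * y1) * L.v by group, e, h1v,
          show L.t * L.v * L.t * L.v = L.t * (L.v * L.t) * L.v by group, L.v_t.eq,
          show L.t * (L.t * L.v) * L.v = L.t * L.t * (L.v * L.v) by group, L.sq, L.v_sq, one_mul]
      · rw [show y1 * L.v * L.v * (y1 * L.v)⁻¹ = y1 * (L.v * L.v * L.v⁻¹) * y1⁻¹ by group, mul_inv_cancel_right, h1v]
      · rw [show y1 * L.v * b * (y1 * L.v)⁻¹ = y1 * (L.v * b * L.v⁻¹) * y1⁻¹ by group, hvb.eq, mul_inv_cancel_right,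
          h1b]
    · exfalso
      rw [e, h1v] at hc
      exact L.t_v_ne hc
    · exfalso
      rw [e, show y1 * (L.t * L.v) * y1⁻¹ = y1 * L.t * y1⁻¹ * (y1 * L.v * y1⁻¹) by group, h1v, (L.mem_H.1 h1H).eq,
        mul_inv_cancel_right, ← mul_assoc, L.sq, one_mul] at hc
      exact L.t_v_ne hc.symm
  set j := i ^ 21 with hj
  have hjj : (j * j) % 7 = 1 % 7 := B.pow_eq.1 (by rw [← B.comp hyb hyb, hyy]; simp)
  have hj6 : j % 7 = 6 := by
    have key : ∀ m < 7, (m * m) % 7 = 1 → m = 1 ∨ m = 6 := by decide +kernel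
    rcases key _ (Nat.mod_lt j (by norm_num)) (by rw [← Nat.mul_mod]; exact hjj) with h | h
    · refine absurd (mul_inv_eq_iff_eq_mul.1 ?_) (B.no_outer hy hyv)
      rw [hyb, B.pow_eq.2 (show j % 7 = 1 % 7 by omega), pow_one]
    · exact h
  refine ⟨y, hy, hyy, hyv, ?_, fun hD => ?_⟩
  · rw [hyb, B.pow_eq.2 (show j % 7 = 6 % 7 by omega)]
    exact (inv_eq_of_mul_eq_one_right (by rw [← pow_succ', B.pow7])).symm
  · obtain ⟨c, hc, hcS⟩ := L.S_syl.conj_elt hy ⟨1, by rw [pow_one, pow_two, hyy]⟩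
    refine L.out_not_D hcS (by rw [conj_mul, hyy]; group) (fun h0 => ?_) (Cfg.D_conj hD)
    refine L.outer_notin hyv ?_
    have := L.NV_Hv (inv_mem (L.H_NV hc)) (L.S₀_le_Hv h0)
    rwa [inv_inv, show c⁻¹ * (c * y * c⁻¹) * c = y by group] at this

/-- an element of order three centralising it and permuting the four-group -/
theorem Cfg.Sev.exists_g : ∃ g, L.Cyc g ∧ Commute g b ∧ g ^ 3 = 1 := by
  obtain ⟨g0, hg0⟩ := L.exists_cyc
  have A : L.Sev (g0 * b * g0⁻¹) := ⟨L.NV_Hv hg0.nv B.mem, by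
    rw [← MulAut.conj_apply, MulEquiv.orderOf_eq, B.ord]⟩
  obtain ⟨k, hk, i, hi⟩ := B.seven_conj A
  have hg1 : L.Cyc (k * g0) := hg0.mul_left L hk
  set g1 := k * g0 with hg1'
  have h1b : g1 * b * g1⁻¹ = b ^ i := by rw [← hi, hg1']; group
  have hi3 := B.exp_Hv hg1.cube (B.comp_pow h1b 3)
  rw [← pow_mul, show 3 * 21 = 63 from rfl] at hi3
  obtain ⟨n, hn, i0, hn0, hi0⟩ := B.exists_n
  obtain ⟨e, he⟩ : ∃ e, i * i0 ^ e % 7 = 1 := by
    have key : ∀ a < 7, ∀ c < 7, (a = 1 ∨ a = 2 ∨ a = 4) → (c = 2 ∨ c = 4) → ∃ e < 3, a * c ^ e % 7 = 1 := by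
      decide +kernel
    obtain ⟨e, -, he⟩ := key _ (Nat.mod_lt i (by norm_num)) _ (Nat.mod_lt i0 (by norm_num)) (seven_exp i hi3) hi0
    exact ⟨e, by rw [← he]; simp [Nat.mul_mod, Nat.pow_mod]⟩
  set g2 := g1 * n ^ e with hg2'
  have hg2 : L.Cyc g2 := hg1.mul_right L (pow_mem hn e)
  have h2b : Commute g2 b := mul_inv_eq_iff_eq_mul.1 (by
    rw [B.comp h1b (B.comp_pow hn0 e), B.pow_eq.2 (show i * i0 ^ e % 7 = 1 % 7 by omega), pow_one])
  refine ⟨g2 ^ 28, hg2.pow L (by norm_num), h2b.pow_left 28, ?_⟩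
  obtain ⟨w, hw, j, hj⟩ := B.cent_t (L.mem_Hv.1 hg2.cube).1 (h2b.pow_left 3)
  rw [← pow_mul, mul_comm, pow_mul, hj, (L.Hv_V (pow_mem B.mem j) hw).symm.mul_pow, ← pow_mul,
    show j * 28 = 7 * (4 * j) by ring, pow_mul b, B.pow7, one_pow, mul_one, show 28 = 4 * 7 from rfl, pow_mul,
    show w ^ 4 = (w * w) * (w * w) by rw [← pow_two, ← pow_two, ← pow_mul],
    show w * w = 1 by
      have := L.V_pow_odd hw (n := 3) (by decide)
      rw [pow_succ, pow_two] at this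
      exact mul_eq_right.1 this, one_mul, one_pow]

/-- such elements centralise the central involution -/
theorem Cfg.Sev.three_D {g : G} (hg : L.Cyc g) (hgb : Commute g b) (h3 : g ^ 3 = 1) : Commute g z := by
  obtain ⟨γ, hγ, hγz, hγ3⟩ := L.exists_gam
  have hm : γ⁻¹ * g ∈ L.Hv := hg.div L hγ
  set m := γ⁻¹ * g with hmdef
  have hgm : g = γ * m := by rw [hmdef, mul_inv_cancel_left]
  have hact : ∀ {a : G} (ha : a ∈ L.Hv), L.bar (L.NV_Hv hg.nv ha) = L.bar hm * L.bar ha * (L.bar hm)⁻¹ := by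
    intro a ha
    have hc := mul_mem (mul_mem hm ha) (inv_mem hm)
    rw [L.bar_conj ha hm, eq_comm, L.bar_eq]
    have h := L.cube_trivial hγ.nv hγz hγ3 hc
    rwa [show g * a * g⁻¹ = γ * (m * a * m⁻¹) * γ⁻¹ by rw [hgm]; group]
  have h7 : L.bar hm ^ 7 = 1 := by
    obtain ⟨i, hi⟩ := B.cent_bar7 (m := L.bar hm) (by
      refine mul_inv_eq_iff_eq_mul.1 ?_
      rw [← hact B.mem]
      exact L.bar_congr _ _ (by rw [hgb.eq, mul_inv_cancel_right]))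
    rw [hi, ← pow_mul, mul_comm, pow_mul, ← B.bar_ord, pow_orderOf_eq_one, one_pow]
  have hg3 : g * g * g = 1 := by rw [← h3, pow_succ, pow_two]
  have h33 : L.bar hm * L.bar hm * L.bar hm = 1 := L.MQ_center fun q => by
    obtain ⟨a, ha, rfl⟩ := L.bar_surj q
    refine mul_inv_eq_iff_eq_mul.1 ?_
    rw [show L.bar hm * L.bar hm * L.bar hm * L.bar ha * (L.bar hm * L.bar hm * L.bar hm)⁻¹ =
      L.bar hm * (L.bar hm * (L.bar hm * L.bar ha * (L.bar hm)⁻¹) * (L.bar hm)⁻¹) * (L.bar hm)⁻¹ by group,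
      ← hact ha, ← hact (L.NV_Hv hg.nv ha), ← hact (L.NV_Hv hg.nv (L.NV_Hv hg.nv ha))]
    refine L.bar_congr _ _ ?_
    rw [show g * (g * (g * a * g⁻¹) * g⁻¹) * g⁻¹ = g * g * g * a * (g * g * g)⁻¹ by group, hg3]; group
  have h1 : L.bar hm = 1 := by
    have h3' : L.bar hm ^ 3 = 1 := by rw [pow_succ, pow_two, h33]
    rw [show 7 = 3 * 2 + 1 from rfl, pow_succ, pow_mul, h3', one_pow, one_mul] at h7
    exact h7
  have hz : L.bar (L.NV_Hv hg.nv L.z_Hv) = L.bar L.z_Hv := by rw [hact L.z_Hv, h1, one_mul, inv_one, mul_one]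
  rw [eq_comm, L.bar_eq] at hz
  have e := L.coset_D (IsConj.refl z) L.z_Hv hz (by rw [mul_inv_cancel_left]; exact isConj_iff.2 ⟨g, rfl⟩)
  exact mul_inv_eq_iff_eq_mul.1 (inv_mul_eq_one.1 e).symm

end Cfsg.Agent.Spor.SuzT.Rad
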