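import Cfsg.Agent.Lib.Spor.SuzR.SevenFive

/-!
Groups of Suzuki sporadic type: centraliser and normaliser of a Sylow subgroup for the prime seven.
-/

set_option autoImplicit false
set_option maxRecDepth 100000
set_option linter.unusedSectionVars false
set_option linter.style.haveILetI false

namespace Cfsg.Agent.Spor.SuzT.Rad

open Chk Dat
open Cfsg.Agent.Solv.CITGroups (CIT orderOf_two_iff)

universe u

variable {G : Type u} [Group G] [Finite G] {z : G} {Q : Subgroup G} {C : Ctx z Q}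

theorem Cfg.exists_sev (L : Cfg C) : ∃ b, L.Sev b := by
  haveI : Fact (Nat.Prime 7) := ⟨by norm_num⟩
  obtain ⟨hc, -, -⟩ := L.MQ_facts
  obtain ⟨m, hm⟩ := exists_prime_orderOf_dvd_card' (G := L.MQ) 7 (by rw [hc]; norm_num)
  obtain ⟨a, ha, rfl⟩ := L.bar_surj m
  have h7 : a ^ 7 ∈ L.V := by
    rw [← L.bar_one_iff (pow_mem ha 7), L.bar_pow ha, ← hm, pow_orderOf_eq_one]
  refine ⟨a ^ 8, pow_mem ha 8, orderOf_eq_prime ?_ fun e => ?_⟩
  · rw [← pow_mul, show 8 * 7 = 7 * 2 * 4 from rfl, pow_mul, pow_mul, pow_two, L.V_sq h7, one_pow]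
  · have h : L.bar ha ^ 8 = 1 := by rw [← L.bar_pow ha, L.bar_one_iff, e]; exact one_mem _
    have := orderOf_dvd_of_pow_eq_one h
    rw [hm] at this
    norm_num at this

variable {L : Cfg C} {b : G} (B : L.Sev b) {g : G} (hg : L.Cyc g) (hgb : Commute g b) (h3 : g ^ 3 = 1)
include B hg hgb h3

theorem Cfg.Sev.cX_84 : Nat.card (cX b) = 84 :=
  (B.card_cX hg h3 hgb).resolve_right (B.not_420 hg hgb h3)

theorem Cfg.Sev.cX_NV : cX b ≤ L.NV := by
  have h : L.NV ⊓ cX b = cX b := Subgroup.eq_of_le_of_card_ge inf_le_right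
    (by rw [B.card_P hg hgb h3, B.cX_84 hg hgb h3])
  exact inf_eq_right.1 h

/-- the structure of the centraliser -/
theorem Cfg.Sev.cX_iso : Nonempty (cX b ≃* Multiplicative (ZMod 7) × alternatingGroup (Fin 4)) := by
  classical
  have hX := B.cX_84 hg hgb h3
  set K : Subgroup (cX b) := (Subgroup.centralizer ({g} : Set G)).subgroupOf (cX b) with hK
  have hgbB : ∀ β ∈ Subgroup.zpowers b, Commute g β := by
    rintro _ ⟨i, rfl⟩; exact hgb.zpow_right i
  have hwg : ∀ w ∈ L.V, Commute g w → w = 1 := by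
    intro w hw hc
    have hc' : g * w * g⁻¹ = w := by rw [hc.eq, mul_inv_cancel_right]
    rcases hw with e | e | e | e
    · exact e
    · rw [e, hg.1] at hc'; exact absurd hc'.symm L.t_ne_v
    · rw [e, hg.2] at hc'; exact absurd hc' L.t_v_ne
    · rw [e, hg.tv] at hc'; exact absurd (mul_eq_left.1 hc'.symm) (Cfg.v_ne_one (L := L))
  have hKcases : ∀ x : cX b, x ∈ K → ∃ k : Fin 3, ∃ i : ℕ, (x : G) = g ^ (k : ℕ) * b ^ i := by
    intro x hx
    obtain ⟨k, w, hw, i, e⟩ := B.NV_cases hg hgb (B.cX_NV hg hgb h3 x.2) (mem_cX.1 x.2)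
    have hcx : Commute (x : G) g := Subgroup.mem_centralizer_singleton_iff.1 hx
    have hgk : Commute g (g ^ (k : ℕ)) := (Commute.refl g).pow_right _
    have hcw : Commute g w := by
      have h := (hgk.inv_right.mul_right hcx.symm).mul_right (hgbB _ (Subgroup.npow_mem_zpowers b i)).inv_right
      rwa [e, show (g ^ (k : ℕ))⁻¹ * (g ^ (k : ℕ) * w * b ^ i) * (b ^ i)⁻¹ = w by group] at h
    exact ⟨k, i, by rw [e, hwg w hw hcw, mul_one]⟩
  have hcK : Nat.card K = 21 := by
    have hmem : ∀ (k : Fin 3) (β : Subgroup.zpowers b), g ^ (k : ℕ) * (β : G) ∈ cX b := fun k β => by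
      obtain ⟨i, hi⟩ := β.2
      refine mem_cX.2 ((hgb.pow_left _).mul_left ?_)
      rw [← hi]
      exact Commute.zpow_self b i
    let f : Fin 3 × Subgroup.zpowers b → K := fun p => ⟨⟨_, hmem p.1 p.2⟩,
      Subgroup.mem_centralizer_singleton_iff.2 (((Commute.refl g).pow_left _).mul_left (hgbB _ p.2.2).symm).eq⟩
    have hf : Function.Bijective f := by
      constructor
      · rintro ⟨k, β⟩ ⟨k', β'⟩ e
        have e' : g ^ (k : ℕ) * (β : G) = g ^ (k' : ℕ) * β' := congrArg (fun x : K => ((x : cX b) : G)) e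
        have hh : g ^ (k : ℕ) = g ^ (k' : ℕ) := by
          have h1 : (g ^ (k' : ℕ))⁻¹ * g ^ (k : ℕ) ∈ Subgroup.zpowers b := by
            rw [show (g ^ (k' : ℕ))⁻¹ * g ^ (k : ℕ) = (β' : G) * (β : G)⁻¹ by
              rw [eq_mul_inv_iff_mul_eq, mul_assoc, e', inv_mul_cancel_left]]
            exact mul_mem β'.2 (inv_mem β.2)
          have h7 := B.mem_pow h1
          have hcm : Commute (g ^ (k' : ℕ))⁻¹ (g ^ (k : ℕ)) := ((Commute.refl g).pow_pow _ _).inv_left
          have h33 : ((g ^ (k' : ℕ))⁻¹ * g ^ (k : ℕ)) ^ 3 = 1 := by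
            rw [hcm.mul_pow, inv_pow, ← pow_mul, ← pow_mul, mul_comm, pow_mul, mul_comm _ 3, pow_mul, h3, one_pow,
              one_pow, inv_one, mul_one]
          rw [show 7 = 3 * 2 + 1 from rfl, pow_succ, pow_mul, h33, one_pow, one_mul] at h7
          exact (inv_mul_eq_one.1 h7).symm
        have hk : k = k' := by
          have ho : orderOf g = 3 := by
            haveI : Fact (Nat.Prime 3) := ⟨Nat.prime_three⟩
            exact orderOf_eq_prime h3 fun e => by
              have := hg.1; rw [e, one_mul, inv_one, mul_one] at this; exact L.t_ne_v this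
          exact Fin.ext (pow_injOn_Iio_orderOf (show (k : ℕ) < orderOf g by omega) (show (k' : ℕ) < orderOf g by omega) hh)
        rw [hh] at e'
        exact Prod.ext hk (Subtype.ext (mul_left_cancel e'))
      · rintro ⟨x, hx⟩
        obtain ⟨k, i, e⟩ := hKcases x hx
        exact ⟨(k, ⟨b ^ i, Subgroup.npow_mem_zpowers b i⟩), Subtype.ext (Subtype.ext e.symm)⟩
    rw [← Nat.card_congr (Equiv.ofBijective f hf), Nat.card_prod, Nat.card_fin, Nat.card_zpowers, B.ord]
  have h4 : Nat.card (cX b ⧸ K) = 4 := by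
    have h := Subgroup.card_eq_card_quotient_mul_card_subgroup K
    rw [hX, hcK] at h
    omega
  let e4 : (cX b ⧸ K) ≃ Fin 4 := Finite.equivFinOfCardEq h4
  let f : cX b →* Equiv.Perm (Fin 4) := e4.permCongrHom.toMonoidHom.comp (MulAction.toPermHom (cX b) (cX b ⧸ K))
  have hBc : ∀ x : cX b, (x : G) ∈ Subgroup.zpowers b → ∀ c : cX b, x * c = c * x := by
    intro x hx c
    obtain ⟨i, hi⟩ := hx
    exact Subtype.ext (show (x : G) * c = c * x by rw [← hi]; exact ((mem_cX.1 c.2).zpow_right i).symm.eq)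
  have hkerB : ∀ x : cX b, f x = 1 ↔ (x : G) ∈ Subgroup.zpowers b := by
    intro x
    have hstep : f x = 1 → x ∈ K := fun hx => by
      have h1 : MulAction.toPermHom (cX b) (cX b ⧸ K) x = 1 := e4.permCongrHom.injective (hx.trans (map_one _).symm)
      have h2 := congrArg (fun p : Equiv.Perm (cX b ⧸ K) => p ((1 : cX b) : cX b ⧸ K)) h1
      change ((x * 1 : cX b) : cX b ⧸ K) = ((1 : cX b) : cX b ⧸ K) at h2
      rw [QuotientGroup.eq, mul_one, mul_one, inv_mem_iff] at h2
      exact h2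
    constructor
    · intro hx
      have hxK := hstep hx
      have hcent : ∀ w ∈ L.V, (x : G) * w * (x : G)⁻¹ = w := fun w hw => by
        have hm := mul_mem (L.NV_V (B.cX_NV hg hgb h3 x.2) hw) (inv_mem hw)
        refine mul_inv_eq_one.1 (hwg _ hm ?_)
        have hin : x * ⟨w, B.V_X hw⟩ * x⁻¹ * ⟨w, B.V_X hw⟩⁻¹ ∈ f.ker := by
          rw [MonoidHom.mem_ker, map_mul, map_mul, map_mul, map_inv, map_inv, hx]; group
        have hK' : x * ⟨w, B.V_X hw⟩ * x⁻¹ * ⟨w, B.V_X hw⟩⁻¹ ∈ K := by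
          have h1 : MulAction.toPermHom (cX b) (cX b ⧸ K) (x * ⟨w, B.V_X hw⟩ * x⁻¹ * ⟨w, B.V_X hw⟩⁻¹) = 1 :=
            e4.permCongrHom.injective ((MonoidHom.mem_ker.1 hin).trans (map_one _).symm)
          have h2 := congrArg (fun p : Equiv.Perm (cX b ⧸ K) => p ((1 : cX b) : cX b ⧸ K)) h1
          change ((x * ⟨w, B.V_X hw⟩ * x⁻¹ * ⟨w, B.V_X hw⟩⁻¹ * 1 : cX b) : cX b ⧸ K) =
            ((1 : cX b) : cX b ⧸ K) at h2
          rw [QuotientGroup.eq, mul_one, mul_one, inv_mem_iff] at h2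
          exact h2
        exact (Subgroup.mem_centralizer_singleton_iff.1 hK' : Commute _ g).symm
      obtain ⟨w, hw, i, e⟩ := B.cent_t (mul_inv_eq_iff_eq_mul.1 (hcent _ L.t_V)) (mem_cX.1 x.2)
      obtain ⟨k, j, e'⟩ := hKcases x hxK
      have hwK : Commute g w := by
        have hgx : Commute g (x : G) := (Subgroup.mem_centralizer_singleton_iff.1 hxK).symm
        have h := hgx.mul_right
          (hgbB _ (Subgroup.npow_mem_zpowers b i)).inv_right
        rwa [e, mul_inv_cancel_right] at h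
      rw [e, hwg w hw hwK, one_mul]
      exact Subgroup.npow_mem_zpowers b i
    · intro hx
      refine (map_eq_one_iff _ e4.permCongrHom.injective).2 ?_
      ext m
      induction m using QuotientGroup.induction_on with
      | _ c =>
        show ((x * c : cX b) : cX b ⧸ K) = (c : cX b ⧸ K)
        rw [hBc x hx c, QuotientGroup.eq, mul_inv_rev, mul_assoc, inv_mul_cancel, mul_one, inv_mem_iff]
        exact Subgroup.mem_centralizer_singleton_iff.2 (hgbB _ hx).symm.eq
  have hB : Nat.card (cB b) = 7 := by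
    rw [cB, Nat.card_congr (Subgroup.subgroupOfEquivOfLe (Subgroup.zpowers_le.2 (mem_cX.2 (Commute.refl b)))).toEquiv,
      Nat.card_zpowers, B.ord]
  have hkerC : f.ker = cB b := by ext x; rw [MonoidHom.mem_ker, hkerB, cB, Subgroup.mem_subgroupOf]
  have hrange : f.range = alternatingGroup (Fin 4) := by
    refine Equiv.Perm.eq_alternatingGroup_of_index_eq_two ?_
    have h := f.range.card_mul_index
    have h2 := Subgroup.card_eq_card_quotient_mul_card_subgroup f.ker
    rw [Nat.card_congr (QuotientGroup.quotientKerEquivRange f).toEquiv, hkerC, hB, hX] at h2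
    rw [Nat.card_perm, Nat.card_fin, show Nat.card f.range = 12 by omega, show Nat.factorial 4 = 24 from rfl] at h
    omega
  let f' : cX b →* alternatingGroup (Fin 4) := f.codRestrict _ fun x => by rw [← hrange]; exact ⟨x, rfl⟩
  have hf' : Function.Surjective f' := fun a => by
    obtain ⟨x, hx⟩ : (a : Equiv.Perm (Fin 4)) ∈ f.range := (by rw [hrange]; exact a.2)
    exact ⟨x, Subtype.ext hx⟩
  have hcenter : Subgroup.center (cX b) = cB b := by
    refine le_antisymm (fun x hx => ?_) fun x hx => Subgroup.mem_center_iff.2 fun c => (hBc x hx c).symm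
    rw [cB, Subgroup.mem_subgroupOf]
    refine (hkerB x).1 ?_
    have h : f' x = 1 := Seven.four_center _ fun a => by
      obtain ⟨c, rfl⟩ := hf' a
      rw [← map_mul, ← map_mul, Subgroup.mem_center_iff.1 hx c]
    exact congrArg Subtype.val h
  have hidx : (Subgroup.center (cX b)).index = 12 := by
    have h := (cB b).card_mul_index
    rw [hB, hX] at h
    rw [hcenter]
    omega
  let r : cX b →* cB b :=
    (MulEquiv.subgroupCongr hcenter).toMonoidHom.comp (MonoidHom.transferCenterPow (cX b))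
  have hr : ∀ x, ((r x : cB b) : cX b) = x ^ 12 := fun x => by
    show ((MonoidHom.transferCenterPow (cX b) x : Subgroup.center (cX b)) : cX b) = _
    rw [MonoidHom.transferCenterPow_apply, hidx]
  let ψ : cX b →* cB b × alternatingGroup (Fin 4) := r.prod f'
  have hψ : Function.Bijective ψ := by
    refine (Nat.bijective_iff_injective_and_card ψ).2 ⟨(injective_iff_map_eq_one ψ).2 fun x hx => ?_, ?_⟩
    · obtain ⟨h1, h2⟩ := Prod.ext_iff.1 hx
      have hxB : (x : G) ∈ Subgroup.zpowers b := (hkerB x).1 (congrArg Subtype.val h2)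
      have h12 : (x : G) ^ 12 = 1 := by
        have h : ((r x : cB b) : cX b) = 1 := congrArg Subtype.val h1
        rw [hr] at h
        exact congrArg Subtype.val h
      have h7 := B.mem_pow hxB
      refine Subtype.ext ?_
      rw [show (x : G) = (x : G) ^ 1 from (pow_one _).symm]
      exact pow_gcd_eq_one.2 ⟨h12, h7⟩ ▸ rfl
    · rw [Nat.card_prod, hB, hX, nat_card_alternatingGroup, Nat.card_fin]; rfl
  haveI : IsCyclic (cB b) := by
    haveI : Fact (Nat.Prime 7) := ⟨by norm_num⟩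
    exact isCyclic_of_prime_card hB
  exact ⟨(MulEquiv.ofBijective ψ hψ).trans (MulEquiv.prodCongr
    (mulEquivOfCyclicCardEq (by rw [hB, Nat.card_congr Multiplicative.toAdd, Nat.card_zmod])) (MulEquiv.refl _))⟩

omit hg hgb h3 in
/-- the normaliser has order six times the centraliser -/
theorem Cfg.Sev.card_norm : Nat.card ↥(Subgroup.normalizer (Subgroup.zpowers b : Set G)) = 6 * Nat.card (cX b) := by
  set P := Subgroup.zpowers b with hP
  set N := Subgroup.normalizer (P : Set G) with hN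
  haveI : IsCyclic P := ⟨⟨b, Subgroup.mem_zpowers b⟩, fun x => by
    obtain ⟨i, hi⟩ := x.2
    exact ⟨i, Subtype.ext hi⟩⟩
  let φ := P.normalizerMonoidHom
  have hmemN : ∀ {c : G} {i : ℕ}, c * b * c⁻¹ = b ^ i → c ∈ N := fun {c i} h => Tw.mem_normalizer_of fun x hx => by
    obtain ⟨j, rfl⟩ := hx
    show c * b ^ j * c⁻¹ ∈ _
    rw [← conj_zpow, h]
    exact zpow_mem (pow_mem (Subgroup.mem_zpowers b) i) j
  have hker : ∀ (c : G) (hc : c ∈ N), φ ⟨c, hc⟩ = 1 ↔ Commute c b := by
    intro c hc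
    rw [← MonoidHom.mem_ker, Subgroup.normalizerMonoidHom_ker, Subgroup.mem_subgroupOf]
    constructor
    · exact fun h => (Subgroup.mem_centralizer_iff.1 h b (Subgroup.mem_zpowers b)).symm
    · intro h
      refine Subgroup.mem_centralizer_iff.2 fun x hx => ?_
      obtain ⟨j, rfl⟩ := hx
      exact (h.zpow_right j).eq.symm
  have h6 : Nat.card φ.range = 6 := by
    refine Nat.dvd_antisymm ((φ.range.card_subgroup_dvd_card).trans (dvd_of_eq ?_)) ?_
    · rw [IsCyclic.card_mulAut, hP, Nat.card_zpowers, B.ord]; rfl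
    obtain ⟨y, hyH, hyy, hyv, hyb, -⟩ := B.exists_y
    obtain ⟨n, hn, i, hnb, hi⟩ := B.exists_n
    have hyN : y ∈ N := hmemN (i := 6) (by
      rw [hyb]; exact inv_eq_of_mul_eq_one_right (by rw [← pow_succ', B.pow7]))
    have hnN : n ∈ N := hmemN hnb
    haveI : Fact (Nat.Prime 2) := ⟨Nat.prime_two⟩
    haveI : Fact (Nat.Prime 3) := ⟨Nat.prime_three⟩
    have h2 : orderOf (φ ⟨y, hyN⟩) = 2 := orderOf_eq_prime
      (by rw [← map_pow, show (⟨y, hyN⟩ : N) ^ 2 = 1 from Subtype.ext (by simp [pow_two, hyy]), map_one])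
      fun e => B.no_outer hyH hyv ((hker y hyN).1 e)
    have h33 : orderOf (φ ⟨n, hnN⟩) = 3 := by
      refine orderOf_eq_prime ?_ fun e => ?_
      · rw [← map_pow]
        show φ ⟨n ^ 3, pow_mem hnN 3⟩ = 1
        refine (hker _ _).2 (mul_inv_eq_iff_eq_mul.1 ?_)
        have h1 : i ^ 3 % 7 = 1 % 7 := by rw [Nat.pow_mod]; rcases hi with h | h <;> rw [h]
        rw [B.comp_pow hnb 3, B.pow_eq.2 h1, pow_one]
      · have h := (hker n hnN).1 e
        rw [h.eq, mul_inv_cancel_right] at hnb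
        have := B.pow_eq.1 ((pow_one b).trans hnb)
        omega
    refine Nat.Coprime.mul_dvd_of_dvd_of_dvd (m := 2) (n := 3) (by norm_num) ?_ ?_
    · rw [← h2]; exact Subgroup.orderOf_dvd_natCard _ ⟨_, rfl⟩
    · rw [← h33]; exact Subgroup.orderOf_dvd_natCard _ ⟨_, rfl⟩
  rw [Subgroup.card_eq_card_quotient_mul_card_subgroup φ.ker,
    Nat.card_congr (QuotientGroup.quotientKerEquivRange φ).toEquiv, h6]
  congr 1
  exact Nat.card_congr
    { toFun := fun a => ⟨((a : N) : G), mem_cX.2 ((hker _ (a : N).2).1 a.2)⟩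
      invFun := fun x => ⟨⟨(x : G), hmemN (i := 1) (by rw [pow_one, (mem_cX.1 x.2).eq, mul_inv_cancel_right])⟩,
        (hker _ _).2 (mem_cX.1 x.2)⟩
      left_inv := fun _ => rfl
      right_inv := fun _ => rfl }

omit B hg hgb h3 in
/-- centraliser and normaliser of a Sylow subgroup -/
theorem seven_main (h : Hyp z Q) (P : Sylow 7 G) :
    Nonempty (↥(Subgroup.centralizer ((P : Subgroup G) : Set G)) ≃* Multiplicative (ZMod 7) × alternatingGroup (Fin 4)) ∧
      Nat.card ↥(Subgroup.normalizer ((P : Subgroup G) : Set G)) = 504 := by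
  haveI : Fact (Nat.Prime 7) := ⟨by norm_num⟩
  obtain ⟨C⟩ := exists_ctx h
  obtain ⟨L⟩ := C.exists_cfg
  obtain ⟨b, B⟩ := L.exists_sev
  obtain ⟨g, hg, hgb, h3⟩ := B.exists_g
  set T := Subgroup.zpowers b with hT
  have hTc : Nat.card T = 7 := (Nat.card_zpowers b).trans B.ord
  have hN : Nat.card ↥(Subgroup.normalizer (T : Set G)) = 504 := by
    rw [B.card_norm, B.cX_84 hg hgb h3]
  -- the subgroup is a Sylow subgroup
  obtain ⟨R, hR⟩ := (IsPGroup.of_card (n := 1) (by rw [hTc, pow_one]) : IsPGroup 7 T).exists_le_sylow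
  have hRT : (R : Subgroup G) = T := by
    by_contra hne
    haveI := R.isPGroup'.isNilpotent
    have hlt : T.subgroupOf (R : Subgroup G) < ⊤ := lt_top_iff_ne_top.2 fun e =>
      hne (le_antisymm (Subgroup.subgroupOf_eq_top.1 e) hR)
    obtain ⟨x, hx, hxT⟩ := SetLike.exists_of_lt (normalizerCondition_of_isNilpotent _ hlt)
    have hxN : (x : G) ∈ (R : Subgroup G) ⊓ Subgroup.normalizer (T : Set G) := ⟨x.2, Tw.mem_normalizer_of fun d hd =>
      (Subgroup.mem_normalizer_iff.1 hx ⟨d, hR hd⟩).1 hd⟩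
    obtain ⟨k, hk⟩ := IsPGroup.iff_card.1 (R.isPGroup'.to_le (inf_le_left : (R : Subgroup G) ⊓ Subgroup.normalizer (T : Set G) ≤ R))
    have hd : 7 ^ k ∣ 504 := hk ▸ hN ▸ Subgroup.card_dvd_of_le inf_le_right
    have hk1 : k ≤ 1 := by
      by_contra hk2
      have := (pow_dvd_pow 7 (by omega : 2 ≤ k)).trans hd
      norm_num at this
    have heq : T = (R : Subgroup G) ⊓ Subgroup.normalizer (T : Set G) := by
      refine Subgroup.eq_of_le_of_card_ge (le_inf hR Subgroup.le_normalizer) ?_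
      rw [hk, hTc]
      exact (Nat.pow_le_pow_right (by norm_num) hk1).trans_eq (pow_one 7)
    exact hxT (heq ▸ hxN : (x : G) ∈ T)
  obtain ⟨c, hc⟩ := MulAction.exists_smul_eq G R P
  have hmem : ∀ x, x ∈ (P : Subgroup G) ↔ c⁻¹ * x * c ∈ T := by
    intro x
    rw [← hc, ← hRT]
    constructor
    · rintro ⟨r, hr, rfl⟩
      show c⁻¹ * (c * r * c⁻¹) * c ∈ (R : Subgroup G)
      rwa [show c⁻¹ * (c * r * c⁻¹) * c = r by group]
    · intro hx
      exact ⟨_, hx, show c * (c⁻¹ * x * c) * c⁻¹ = x by group⟩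
  have hcent : ∀ x, x ∈ Subgroup.centralizer ((P : Subgroup G) : Set G) ↔ c⁻¹ * x * c ∈ cX b := by
    intro x
    rw [mem_cX]
    constructor
    · intro hx
      have hb' : c * b * c⁻¹ ∈ (P : Subgroup G) := (hmem _).2 (by
        rw [show c⁻¹ * (c * b * c⁻¹) * c = b by group]; exact Subgroup.mem_zpowers b)
      have h := (Commute.conj_iff c⁻¹).2 (Subgroup.mem_centralizer_iff.1 hx _ hb' : Commute (c * b * c⁻¹) x)
      rw [inv_inv, show c⁻¹ * (c * b * c⁻¹) * c = b by group] at h
      exact h.symm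
    · intro hx
      refine Subgroup.mem_centralizer_iff.2 fun p hp => ?_
      obtain ⟨i, hi⟩ := (hmem p).1 hp
      have h := (Commute.conj_iff c).2 (hx.zpow_right i)
      rw [show c * (c⁻¹ * x * c) * c⁻¹ = x by group, show b ^ i = c⁻¹ * p * c from hi,
        show c * (c⁻¹ * p * c) * c⁻¹ = p by group] at h
      exact h.eq.symm
  have hnorm : ∀ x, x ∈ Subgroup.normalizer ((P : Subgroup G) : Set G) ↔
      c⁻¹ * x * c ∈ Subgroup.normalizer (T : Set G) := by
    intro x
    rw [Subgroup.mem_normalizer_iff, Subgroup.mem_normalizer_iff]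
    constructor
    · intro hx y
      have h := hx (c * y * c⁻¹)
      rw [hmem, hmem, show c⁻¹ * (c * y * c⁻¹) * c = y by group,
        show c⁻¹ * (x * (c * y * c⁻¹) * x⁻¹) * c = c⁻¹ * x * c * y * (c⁻¹ * x * c)⁻¹ by group] at h
      exact h
    · intro hx y
      rw [hmem, hmem]
      have h := hx (c⁻¹ * y * c)
      rwa [show c⁻¹ * x * c * (c⁻¹ * y * c) * (c⁻¹ * x * c)⁻¹ = c⁻¹ * (x * y * x⁻¹) * c by group] at h
  refine ⟨?_, ?_⟩
  · obtain ⟨e⟩ := B.cX_iso hg hgb h3
    refine ⟨MulEquiv.trans ?_ e⟩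
    exact
      { toFun := fun x => ⟨c⁻¹ * x * c, (hcent x).1 x.2⟩
        invFun := fun y => ⟨c * y * c⁻¹, (hcent _).2 (by rw [show c⁻¹ * (c * (y : G) * c⁻¹) * c = y by group]; exact y.2)⟩
        left_inv := fun x => Subtype.ext (by show c * (c⁻¹ * (x : G) * c) * c⁻¹ = x; group)
        right_inv := fun y => Subtype.ext (by show c⁻¹ * (c * (y : G) * c⁻¹) * c = y; group)
        map_mul' := fun x y => Subtype.ext (by
          show c⁻¹ * ((x : G) * y) * c = c⁻¹ * x * c * (c⁻¹ * y * c); group) }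
  · rw [← hN]
    exact Nat.card_congr
      { toFun := fun x => ⟨c⁻¹ * x * c, (hnorm x).1 x.2⟩
        invFun := fun y => ⟨c * y * c⁻¹, (hnorm _).2 (by rw [show c⁻¹ * (c * (y : G) * c⁻¹) * c = y by group]; exact y.2)⟩
        left_inv := fun x => Subtype.ext (by show c * (c⁻¹ * (x : G) * c) * c⁻¹ = x; group)
        right_inv := fun y => Subtype.ext (by show c⁻¹ * (c * (y : G) * c⁻¹) * c = y; group) }

end Cfsg.Agent.Spor.SuzT.Rad
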