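import Cfsg.Agent.Lib.Spor.SuzR.SevenNorm
import Cfsg.Agent.Lib.Char.BSW.Two

/-!
Groups of Suzuki sporadic type: the centraliser of a subgroup of order seven modulo that subgroup.
-/

set_option autoImplicit false
set_option maxRecDepth 100000
set_option linter.unusedSectionVars false
set_option linter.style.haveILetI false

namespace Cfsg.Agent.Spor.SuzT.Rad

open Chk Dat
open Cfsg.Agent.Solv.CITGroups (CIT orderOf_two_iff)

universe u

variable {G : Type u} [Group G] [Finite G] {z : G} {Q : Subgroup G} {C : Ctx z Q} {L : Cfg C}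

/-- the centraliser of the element of order seven -/
def cX (b : G) : Subgroup G := Subgroup.centralizer ({b} : Set G)

theorem mem_cX {b x : G} : x ∈ cX b ↔ Commute x b := Subgroup.mem_centralizer_singleton_iff

/-- the cyclic subgroup inside its centraliser -/
def cB (b : G) : Subgroup (cX b) := (Subgroup.zpowers b).subgroupOf (cX b)

instance cB_normal (b : G) : (cB b).Normal := ⟨fun a ha x => by
  rw [cB, Subgroup.mem_subgroupOf] at ha ⊢
  obtain ⟨i, hi⟩ := ha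
  have h : Commute (x : G) (a : G) := by rw [← hi]; exact (mem_cX.1 x.2).zpow_right i
  show (x : G) * a * (x : G)⁻¹ ∈ Subgroup.zpowers b
  rw [h.eq, mul_inv_cancel_right, ← hi]
  exact ⟨i, rfl⟩⟩

theorem Cfg.V_sq {w : G} (hw : w ∈ L.V) : w * w = 1 := by
  have h := L.V_pow_odd hw (n := 3) (by decide)
  rw [pow_succ, pow_two] at h
  exact mul_eq_right.1 h

theorem Cfg.v_ne_one : L.v ≠ 1 := fun e => by
  have h := L.σ_v
  rw [e, mul_one, mul_inv_cancel, mul_one] at h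
  exact L.ne_one h.symm

theorem Cfg.V_comm {a c : G} (ha : a ∈ L.V) (hc : c ∈ L.V) : Commute a c :=
  L.Hv_V (L.S₀_le_Hv (L.V_le ha)) hc

variable {b : G} (B : L.Sev b)
include B

theorem Cfg.Sev.mem_pow {β : G} (h : β ∈ Subgroup.zpowers b) : β ^ 7 = 1 := by
  obtain ⟨i, rfl⟩ := h
  show (b ^ i) ^ 7 = 1
  rw [← zpow_natCast, ← zpow_mul, mul_comm, zpow_mul, zpow_natCast, B.pow7, one_zpow]

theorem Cfg.Sev.V_b {w : G} (hw : w ∈ L.V) (h : w ∈ Subgroup.zpowers b) : w = 1 := by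
  rw [← L.V_pow_odd hw (n := 7) (by decide)]; exact B.mem_pow h

theorem Cfg.Sev.V_X {w : G} (hw : w ∈ L.V) : w ∈ cX b := mem_cX.2 (L.Hv_V B.mem hw).symm

/-- a central factor is absorbed by a conjugation between involutions -/
theorem Cfg.Sev.absorb {x w w' : G} (hw : w ∈ L.V) (hw' : w' ∈ L.V)
    (h : (x * w * x⁻¹) * w'⁻¹ ∈ Subgroup.zpowers b) : x * w * x⁻¹ = w' := by
  obtain ⟨β, hβ, e⟩ : ∃ β ∈ Subgroup.zpowers b, x * w * x⁻¹ = β * w' := ⟨_, h, by group⟩
  have hc : Commute β w' := by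
    obtain ⟨i, rfl⟩ := hβ
    exact (L.Hv_V B.mem hw').zpow_left i
  have h2 : β * β = 1 := by
    have h3 : (x * w * x⁻¹) * (x * w * x⁻¹) = 1 := by rw [conj_mul, L.V_sq hw]; group
    rw [e, hc.symm.mul_mul_mul_comm, L.V_sq hw', mul_one] at h3
    exact h3
  have h1 : β = 1 := by
    have := B.mem_pow hβ
    rw [show 7 = 2 * 3 + 1 from rfl, pow_succ, pow_mul, pow_two, h2, one_pow, one_mul] at this
    exact this
  rw [e, h1, one_mul]

variable {g : G} (hg : L.Cyc g) (hgb : Commute g b) (h3 : g ^ 3 = 1)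
include hg hgb h3

omit hgb h3 in
/-- elements normalising the four-group -/
theorem Cfg.Sev.NV_cases (hgb : Commute g b) {x : G} (hx : x ∈ L.NV) (hxb : Commute x b) :
    ∃ k : Fin 3, ∃ w ∈ L.V, ∃ i : ℕ, x = g ^ (k : ℕ) * w * b ^ i := by
  obtain ⟨k, hk⟩ : ∃ k : Fin 3, x * L.t * x⁻¹ = g ^ (k : ℕ) * L.t * (g ^ (k : ℕ))⁻¹ := by
    rcases L.NV_V hx L.t_V with e | e | e | e
    · exact absurd (conj_eq_one_iff.1 e) L.ne_one
    · exact ⟨0, by simpa using e⟩
    · exact ⟨1, by rw [show ((1 : Fin 3) : ℕ) = 1 from rfl, pow_one, hg.1, e]⟩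
    · exact ⟨2, by rw [show ((2 : Fin 3) : ℕ) = 2 from rfl, pow_two,
        show g * g * L.t * (g * g)⁻¹ = g * (g * L.t * g⁻¹) * g⁻¹ by group, hg.1, hg.2, e]⟩
  have ht : Commute ((g ^ (k : ℕ))⁻¹ * x) L.t := mul_inv_eq_iff_eq_mul.1 (by
    rw [show (g ^ (k : ℕ))⁻¹ * x * L.t * ((g ^ (k : ℕ))⁻¹ * x)⁻¹ = (g ^ (k : ℕ))⁻¹ * (x * L.t * x⁻¹) * g ^ (k : ℕ) by group,
      hk]
    group)
  obtain ⟨w, hw, i, e⟩ := B.cent_t ht ((hgb.pow_left _).inv_left.mul_left hxb)
  exact ⟨k, w, hw, i, by rw [mul_assoc, ← e, mul_inv_cancel_left]⟩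

omit hgb in
/-- the decomposition is unique in its first factor -/
theorem Cfg.Sev.first_zero {k : Fin 3} {w : G} (hw : w ∈ L.V) {i : ℕ}
    (h : Commute (g ^ (k : ℕ) * w * b ^ i) L.t) : k = 0 := by
  have h1 : Commute (w * b ^ i) L.t :=
    (L.V_comm hw L.t_V).mul_left ((L.mem_Hv.1 B.mem).1.pow_left i)
  have h2 : Commute (g ^ (k : ℕ)) L.t := by
    have := h.mul_left h1.inv_left
    rwa [mul_assoc (g ^ (k : ℕ)), mul_inv_cancel_right] at this
  fin_cases k
  · rfl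
  · exfalso
    simp only [pow_one] at h2
    have := hg.1
    rw [h2.eq, mul_inv_cancel_right] at this
    exact L.t_ne_v this
  · exfalso
    simp only at h2
    rw [pow_two] at h2
    have : g * g * L.t * (g * g)⁻¹ = L.t := by rw [h2.eq, mul_inv_cancel_right]
    rw [show g * g * L.t * (g * g)⁻¹ = g * (g * L.t * g⁻¹) * g⁻¹ by group, hg.1, hg.2, mul_eq_left] at this
    exact Cfg.v_ne_one (L := L) this

omit hgb in
/-- the quotient satisfies the hypotheses with a four-group centraliser -/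
theorem Cfg.Sev.bsw (hgb : Commute g b) :
    ∃ (T S : cX b ⧸ cB b) (K : Subgroup (cX b ⧸ cB b)), Char.BSW.Ctx T S K ∧ Nat.card K = 2 ∧
      Nat.card (Subgroup.centralizer ({T} : Set (cX b ⧸ cB b))) = 4 := by
  haveI : Fact (Nat.Prime 2) := ⟨Nat.prime_two⟩
  let q := QuotientGroup.mk' (cB b)
  have hq : ∀ {x y : cX b}, q x = q y ↔ (x : G)⁻¹ * (y : G) ∈ Subgroup.zpowers b := fun {x y} => QuotientGroup.eq
  let ι : L.V →* cX b ⧸ cB b := q.comp (Subgroup.inclusion fun w hw => B.V_X hw)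
  have hι : Function.Injective ι := by
    rintro ⟨a, ha⟩ ⟨c, hc⟩ e
    exact Subtype.ext (inv_mul_eq_one.1 (B.V_b (mul_mem (inv_mem ha) hc) (hq.1 e)))
  set Vb := ι.range with hVb
  have hconj : ∀ {x : cX b} {w w' : L.V}, q x * ι w * (q x)⁻¹ = ι w' → (x : G) * w * (x : G)⁻¹ = w' := by
    intro x w w' e
    have e' : q (x * Subgroup.inclusion (fun w hw => B.V_X hw) w * x⁻¹) = q (Subgroup.inclusion (fun w hw => B.V_X hw) w') := by
      rw [map_mul, map_mul, map_inv]; exact e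
    refine B.absorb w.2 w'.2 ?_
    have h : ((x : G) * w * (x : G)⁻¹)⁻¹ * (w' : G) ∈ Subgroup.zpowers b := hq.1 e'
    rwa [inv_eq_of_mul_eq_one_right (L.V_sq w'.2),
      ← inv_eq_of_mul_eq_one_right (show (x : G) * w * (x : G)⁻¹ * ((x : G) * w * (x : G)⁻¹) = 1 by
        rw [conj_mul, L.V_sq w.2]; group)]
  set T := ι ⟨L.t, L.t_V⟩ with hT
  set S := ι ⟨L.v, L.v_V⟩ with hS
  have hcent : Subgroup.centralizer ({T} : Set (cX b ⧸ cB b)) = Vb := by
    refine le_antisymm (fun m hm => ?_) ?_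
    · obtain ⟨x, rfl⟩ := QuotientGroup.mk'_surjective (cB b) m
      have e : q x * T * (q x)⁻¹ = T := mul_inv_eq_iff_eq_mul.2 (Subgroup.mem_centralizer_singleton_iff.1 hm)
      obtain ⟨w, hw, i, hi⟩ := B.cent_t (mul_inv_eq_iff_eq_mul.1 (hconj e)) (mem_cX.1 x.2)
      refine ⟨⟨w, hw⟩, hq.2 ?_⟩
      show w⁻¹ * (x : G) ∈ _
      rw [hi, inv_mul_cancel_left]
      exact Subgroup.npow_mem_zpowers b i
    · rintro _ ⟨⟨w, hw⟩, rfl⟩
      refine Subgroup.mem_centralizer_singleton_iff.2 ?_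
      rw [hT, ← map_mul, ← map_mul]
      exact congrArg ι (Subtype.ext (L.V_comm hw L.t_V).eq)
  have hcV : Nat.card Vb = 4 := by
    rw [← L.card_V]; exact (Nat.card_congr (MonoidHom.ofInjective hι).toEquiv).symm
  have hTo : orderOf T = 2 := by
    rw [hT, orderOf_injective ι hι, ← Subgroup.orderOf_coe]; exact orderOf_two_iff.2 ⟨L.sq, L.ne_one⟩
  have hv1 : L.v ≠ 1 := Cfg.v_ne_one (L := L)
  have hSo : orderOf S = 2 := by
    rw [hS, orderOf_injective ι hι, ← Subgroup.orderOf_coe]; exact orderOf_two_iff.2 ⟨L.v_sq, hv1⟩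
  -- the image of the four-group is a Sylow subgroup
  have hsyl : Tw.RelSyl Vb ⊤ := by
    refine Tw.RelSyl.of_normal le_top (IsPGroup.of_card (n := 2) hcV) fun m _ hm2 hn => ?_
    obtain ⟨x, rfl⟩ := QuotientGroup.mk'_surjective (cB b) m
    have hxNV : (x : G) ∈ L.NV := Tw.mem_normalizer_of fun w hw => by
      obtain ⟨w', hw'⟩ := (Subgroup.mem_normalizer_iff.1 hn (ι ⟨w, hw⟩)).1 ⟨_, rfl⟩
      have := hconj (x := x) (w := ⟨w, hw⟩) hw'.symm
      rw [this]; exact w'.2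
    obtain ⟨k, w, hw, i, e⟩ := B.NV_cases hg hgb hxNV (mem_cX.1 x.2)
    obtain ⟨n, hn2⟩ := hm2
    have hpow : ∀ N : ℕ, N % 3 = 1 → 2 ^ n ∣ N → ∀ y : G, L.Cyc y → (∀ h : y ∈ cX b, q ⟨y, h⟩ ^ N ≠ 1) := by
      intro N hN hdvd y hy h e1
      rw [← map_pow] at e1
      have e2 : (⟨y, h⟩ : cX b) ^ N ∈ cB b := (QuotientGroup.eq_one_iff _).1 e1
      obtain ⟨j, hj⟩ : y ^ N ∈ Subgroup.zpowers b := e2
      have hc := (hy.pow L hN).1
      rw [← show b ^ j = y ^ N from hj, (((L.mem_Hv.1 B.mem).1).zpow_left j).eq, mul_inv_cancel_right] at hc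
      exact L.t_ne_v hc
    have h4 : ∀ r : ℕ, (4 ^ r) % 3 = 1 := fun r => by rw [Nat.pow_mod]; norm_num
    have hdv : 2 ^ n ∣ 4 ^ n := by rw [show (4 : ℕ) ^ n = 2 ^ n * 2 ^ n by rw [← mul_pow]; norm_num]; exact Dvd.intro _ rfl
    have hx1 : q x ^ (4 ^ n) = 1 := by
      obtain ⟨r, hr⟩ := hdv
      rw [hr, pow_mul, hn2, one_pow]
    have hwb : w * b ^ i ∈ L.Hv := mul_mem (L.S₀_le_Hv (L.V_le hw)) (pow_mem B.mem i)
    fin_cases k
    · refine ⟨⟨w, hw⟩, hq.2 ?_⟩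
      show w⁻¹ * (x : G) ∈ _
      rw [e]; simp only [pow_zero, one_mul, inv_mul_cancel_left]
      exact Subgroup.npow_mem_zpowers b i
    · exfalso
      simp only [pow_one] at e
      have hy : L.Cyc (x : G) := by rw [e, mul_assoc]; exact hg.mul_right L hwb
      exact hpow _ (h4 n) hdv _ hy x.2 hx1
    · exfalso
      simp only at e
      have hy : L.Cyc ((x * x : cX b) : G) := by
        show L.Cyc ((x : G) * x)
        have hmid : (g * g)⁻¹ * (w * b ^ i) * (g * g) ∈ L.Hv := by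
          have := L.NV_Hv (inv_mem (mul_mem hg.nv hg.nv)) hwb
          rwa [inv_inv] at this
        have key : ∀ a c : G, a * c * (a * c) = a * a * (a⁻¹ * c * a * c) := fun a c => by group
        rw [e, pow_two, mul_assoc (g * g) w, key]
        refine Cfg.Cyc.mul_right L ?_ (mul_mem hmid hwb)
        rw [show g * g * (g * g) = g ^ 4 by rw [← pow_two, ← pow_two, ← pow_mul]]
        exact hg.pow L (by norm_num)
      refine hpow _ (h4 n) hdv _ hy (x * x).2 ?_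
      show q (x * x) ^ (4 ^ n) = 1
      rw [map_mul, ← pow_two, ← pow_mul, mul_comm, pow_mul, hx1, one_pow]
  refine ⟨T, S, Subgroup.zpowers T, ?_, by rw [Nat.card_zpowers, hTo], by rw [hcent, hcV]⟩
  have hTT : ∀ m ∈ Subgroup.zpowers T, m = 1 ∨ m = T := by
    intro m hm
    obtain ⟨j, rfl⟩ := hm
    rcases Int.even_or_odd j with ⟨r, rfl⟩ | ⟨r, rfl⟩
    · left; show T ^ (r + r) = 1
      rw [← two_mul, zpow_mul, zpow_two, (orderOf_two_iff.1 hTo).1, one_zpow]
    · right; show T ^ (2 * r + 1) = T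
      rw [zpow_add_one, zpow_mul, zpow_two, (orderOf_two_iff.1 hTo).1, one_zpow, one_mul]
  have hST : S ∈ Subgroup.centralizer ({T} : Set (cX b ⧸ cB b)) := hcent ▸ ⟨_, rfl⟩
  have hTS : T * S = S * T := (Subgroup.mem_centralizer_singleton_iff.1 hST).symm
  refine ⟨hTo, ?_, ?_, Subgroup.mem_zpowers T, hSo, hST, ?_, ?_, ?_, ?_, ?_, ?_⟩
  · rintro _ ⟨i, rfl⟩ _ ⟨j, rfl⟩
    exact (zpow_mul_comm T i j)
  · exact Subgroup.zpowers_le.2 (Subgroup.mem_centralizer_singleton_iff.2 rfl)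
  · intro h
    rcases hTT _ h with e | e
    · have h0 : (⟨L.v, L.v_V⟩ : L.V) = 1 := hι (e.trans (map_one ι).symm)
      exact hv1 (congrArg Subtype.val h0)
    · exact L.t_ne_v (congrArg Subtype.val (hι e)).symm
  · refine le_antisymm (sup_le (Subgroup.zpowers_le.2 (Subgroup.mem_centralizer_singleton_iff.2 rfl))
      (Subgroup.zpowers_le.2 hST)) ?_
    rw [hcent]
    rintro _ ⟨⟨w, hw⟩, rfl⟩
    have h1 : T ∈ Subgroup.zpowers T ⊔ Subgroup.zpowers S := Subgroup.mem_sup_left (Subgroup.mem_zpowers _)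
    have h2 : S ∈ Subgroup.zpowers T ⊔ Subgroup.zpowers S := Subgroup.mem_sup_right (Subgroup.mem_zpowers _)
    have hw' : w ∈ L.V := hw
    rcases hw with e | e | e | e
    · rw [show (⟨w, hw'⟩ : L.V) = 1 from Subtype.ext e, map_one]; exact one_mem _
    · rw [show (⟨w, hw'⟩ : L.V) = ⟨L.t, L.t_V⟩ from Subtype.ext e]; exact h1
    · rw [show (⟨w, hw'⟩ : L.V) = ⟨L.v, L.v_V⟩ from Subtype.ext e]; exact h2
    · rw [show (⟨w, hw'⟩ : L.V) = ⟨L.t, L.t_V⟩ * ⟨L.v, L.v_V⟩ from Subtype.ext e, map_mul]; exact mul_mem h1 h2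
  · refine inf_eq_left.2 (Subgroup.zpowers_le.2 (Subgroup.mem_centralizer_singleton_iff.2 hTS))
  · intro m hm
    rcases hTT m hm with e | e <;> rw [e]
    · simp
    · rw [← hTS, mul_inv_cancel_right, inv_eq_of_mul_eq_one_right (orderOf_two_iff.1 hTo).1]
  · intro m hm
    refine (Subgroup.eq_bot_iff_forall _).2 fun c hc => ?_
    obtain ⟨hc1, d, hd, hdc⟩ := hc
    change m * d * m⁻¹ = c at hdc
    rcases hTT c hc1 with e | e
    · exact e
    exfalso
    rcases hTT d hd with e' | e'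
    · rw [e', mul_one, mul_inv_cancel] at hdc
      exact (orderOf_two_iff.1 hTo).2 (e.symm.trans hdc.symm)
    · rw [e', e] at hdc
      exact hm (Subgroup.mem_centralizer_singleton_iff.2 (mul_inv_eq_iff_eq_mul.1 hdc))
  · -- all involutions are conjugate
    suffices h : ∀ x, orderOf x = 2 → IsConj T x from fun x y hx hy => (h x hx).symm.trans (h y hy)
    intro x hx
    obtain ⟨c, -, hc⟩ := hsyl.conj_elt (Subgroup.mem_top x) ⟨1, by rw [pow_one, ← hx, pow_orderOf_eq_one]⟩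
    obtain ⟨⟨w, hw⟩, hw'⟩ := hc
    have hne : w ≠ 1 := fun e => by
      rw [show (⟨w, hw⟩ : L.V) = 1 from Subtype.ext e, map_one] at hw'
      exact (orderOf_two_iff.1 hx).2 (conj_eq_one_iff.1 hw'.symm)
    obtain ⟨k, hk⟩ : ∃ k : ℕ, g ^ k * L.t * (g ^ k)⁻¹ = w := by
      rcases hw with e | e | e | e
      · exact absurd e hne
      · exact ⟨0, by simpa using e.symm⟩
      · exact ⟨1, by rw [pow_one, hg.1, e]⟩
      · exact ⟨2, by rw [pow_two, show g * g * L.t * (g * g)⁻¹ = g * (g * L.t * g⁻¹) * g⁻¹ by group, hg.1, hg.2, e]⟩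
    have h1 : IsConj T (ι ⟨w, hw⟩) := isConj_iff.2 ⟨q ⟨g ^ k, mem_cX.2 (hgb.pow_left k)⟩, by
      rw [hT, MonoidHom.comp_apply, MonoidHom.comp_apply, ← map_inv, ← map_mul, ← map_mul]
      exact congrArg q (Subtype.ext hk)⟩
    exact h1.trans (isConj_iff.2 ⟨c⁻¹, by rw [hw']; group⟩)

omit hgb in
/-- the order of the centraliser -/
theorem Cfg.Sev.card_cX (hgb : Commute g b) : Nat.card (cX b) = 84 ∨ Nat.card (cX b) = 420 := by
  classical
  obtain ⟨T, S, K, h, hK, h4⟩ := B.bsw hg h3 hgb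
  haveI : Fintype (cX b ⧸ cB b) := Fintype.ofFinite _
  have hn := Char.BSW.index_three_or_fifteen h hK
  have hq := (Subgroup.centralizer ({T} : Set (cX b ⧸ cB b))).card_mul_index
  rw [h4] at hq
  have hB : Nat.card (cB b) = 7 := by
    rw [cB, Nat.card_congr (Subgroup.subgroupOfEquivOfLe (Subgroup.zpowers_le.2 (mem_cX.2 (Commute.refl b)))).toEquiv,
      Nat.card_zpowers, B.ord]
  rw [Subgroup.card_eq_card_quotient_mul_card_subgroup (cB b), hB, ← hq]
  rcases hn with e | e <;> rw [e] <;> norm_num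

end Cfsg.Agent.Spor.SuzT.Rad
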