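import Cfsg.Agent.Lib.Spor.SuzR.Point

/-!
Groups of Suzuki sporadic type: the two halves of the radical subgroup of two conjugates of the central
involution.
-/

set_option autoImplicit false
set_option maxRecDepth 100000
set_option linter.unusedSectionVars false

namespace Cfsg.Agent.Spor.SuzT.Rad

open Chk Dat

universe u

variable {G : Type u} [Group G] [Finite G]

/-- a pair of conjugates of the central involution with coordinates and a swapping element -/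
structure Ctx (z : G) (Q : Subgroup G) where
  /-- the hypothesis -/
  hy : Hyp z Q
  /-- coordinates -/
  F : Frame z Q
  /-- the second involution -/
  x : G
  base : Base F x
  /-- the swapping element -/
  w : G
  wx : w * x * w⁻¹ = z
  wz : w * z * w⁻¹ = x

variable {z : G} {Q : Subgroup G}

theorem exists_ctx (h : Hyp z Q) : Nonempty (Ctx z Q) := by
  obtain ⟨F⟩ := exists_frame h
  obtain ⟨x, B⟩ := exists_base F h
  obtain ⟨w, hw1, hw2⟩ := exists_swap F h B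
  exact ⟨⟨h, F, x, B, w, hw1, hw2⟩⟩

variable (C : Ctx z Q)

/-- the image of an element of the centraliser -/
noncomputable def Ctx.pi (c : G) : Ga :=
  letI := _root_.Classical.propDecidable (Commute c z)
  if h : Commute c z then C.F.π (cC h) else 1

theorem Ctx.pi_eq {c : G} (h : Commute c z) : C.pi c = C.F.π (cC h) := dif_pos h

theorem Ctx.pi_mul {c d : G} (hc : Commute c z) (hd : Commute d z) : C.pi (c * d) = C.pi c * C.pi d := by
  rw [C.pi_eq hc, C.pi_eq hd, C.pi_eq (hc.mul_left hd), ← map_mul]; rfl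

theorem Ctx.pi_inv {c : G} (hc : Commute c z) : C.pi c⁻¹ = (C.pi c)⁻¹ := by
  rw [C.pi_eq hc, C.pi_eq hc.inv_left, ← map_inv]; rfl

theorem Ctx.pi_one : C.pi 1 = 1 := by rw [C.pi_eq (Commute.one_left z), ← C.F.π.map_one]; rfl

theorem Ctx.pi_core {q : G} (hq : q ∈ Q) : C.pi q = 1 := by rw [C.pi_eq (Qz C.hy hq), π_Q C.F C.hy hq]

theorem Ctx.pi_mem {c : G} (hc : Commute c z) (h : C.pi c = 1) : c ∈ Q :=
  (C.F.π_ker (cC hc)).1 (by rwa [← C.pi_eq hc])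

theorem Ctx.vec_conj {c a : G} (hc : Commute c z) (ha : a ∈ Q) :
    C.F.vec (c * a * c⁻¹) = C.pi c • C.F.vec a := by
  rw [C.pi_eq hc]; exact C.F.vec_conj (cC hc) a ha

theorem Ctx.xz : Commute C.x z := Qz C.hy C.base.mem

theorem Ctx.inQx_iff (b : G) : InQ z Q C.x b ↔ C.w * b * C.w⁻¹ ∈ Q := by
  have e : C.w⁻¹ * z * C.w⁻¹⁻¹ = C.x := by
    have h' := congrArg (fun g => C.w⁻¹ * g * C.w⁻¹⁻¹) C.wx
    rw [← h']; group
  rw [inQ_iff C.hy e, inv_inv]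

theorem Ctx.commute_map {a b : G} (h : Commute a b) : Commute (C.w * a * C.w⁻¹) (C.w * b * C.w⁻¹) :=
  (Commute.conj_iff C.w).2 h

/-- the part in the first extraspecial subgroup -/
def Ctx.A : Subgroup G := Q ⊓ Subgroup.centralizer ({C.x} : Set G)

/-- the part in the second extraspecial subgroup -/
def Ctx.B : Subgroup G := C.A.comap (MulAut.conj C.w).toMonoidHom

theorem Ctx.mem_A {a : G} : a ∈ C.A ↔ a ∈ Q ∧ Commute a C.x := by
  rw [Ctx.A, Subgroup.mem_inf, mem_C]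

theorem Ctx.mem_B {b : G} : b ∈ C.B ↔ C.w * b * C.w⁻¹ ∈ C.A := Iff.rfl

theorem Ctx.B_inQ {b : G} (hb : b ∈ C.B) : InQ z Q C.x b := (C.inQx_iff b).2 (C.mem_A.1 (C.mem_B.1 hb)).1

theorem Ctx.B_x {b : G} (hb : b ∈ C.B) : Commute b C.x := (C.B_inQ hb).commute C.hy

theorem Ctx.B_z {b : G} (hb : b ∈ C.B) : Commute b z := by
  have h := (C.mem_A.1 (C.mem_B.1 hb)).2
  rw [← C.wz] at h
  exact (Commute.conj_iff C.w).1 h

theorem Ctx.mem_B_iff {b : G} : b ∈ C.B ↔ InQ z Q C.x b ∧ Commute b z := by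
  refine ⟨fun h => ⟨C.B_inQ h, C.B_z h⟩, fun h => C.mem_B.2 (C.mem_A.2 ⟨(C.inQx_iff b).1 h.1, ?_⟩)⟩
  rw [← C.wz]; exact C.commute_map h.2

theorem Ctx.A_z {a : G} (ha : a ∈ C.A) : Commute a z := Qz C.hy (C.mem_A.1 ha).1

theorem Ctx.A_x {a : G} (ha : a ∈ C.A) : Commute a C.x := (C.mem_A.1 ha).2

theorem Ctx.zA : z ∈ C.A := C.mem_A.2 ⟨zQ C.hy, C.xz.symm⟩

theorem Ctx.xA : C.x ∈ C.A := C.mem_A.2 ⟨C.base.mem, Commute.refl _⟩

theorem Ctx.zB : z ∈ C.B := by rw [C.mem_B, C.wz]; exact C.xA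

theorem Ctx.xB : C.x ∈ C.B := by rw [C.mem_B, C.wx]; exact C.zA

theorem Ctx.conj_w2 {a : G} (ha : a ∈ C.A) : C.w * a * C.w⁻¹ ∈ C.B := by
  rw [C.mem_B, show C.w * (C.w * a * C.w⁻¹) * C.w⁻¹ = C.w * C.w * a * (C.w * C.w)⁻¹ by group]
  have h2z : Commute (C.w * C.w) z := by
    refine mul_inv_eq_iff_eq_mul.1 ?_
    rw [show C.w * C.w * z * (C.w * C.w)⁻¹ = C.w * (C.w * z * C.w⁻¹) * C.w⁻¹ by group, C.wz, C.wx]
  refine C.mem_A.2 ⟨C.hy.norm _ h2z a (C.mem_A.1 ha).1, ?_⟩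
  have := (Commute.conj_iff (C.w * C.w)).2 (C.A_x ha)
  rwa [show C.w * C.w * C.x * (C.w * C.w)⁻¹ = C.w * (C.w * C.x * C.w⁻¹) * C.w⁻¹ by group, C.wx, C.wz] at this

/-- the product of powers of the two involutions -/
def Ctx.zel (i j : ℕ) : G := z ^ i * C.x ^ j

theorem Ctx.zel_inj {i j k l : ℕ} (hi : i < 2) (hj : j < 2) (hk : k < 2) (hl : l < 2)
    (e : C.zel i j = C.zel k l) : i = k ∧ j = l := by
  have h1 := z_ne C.hy
  have h2 := C.base.ne1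
  have h3 := C.base.nez
  have hzz := zz C.hy
  have hzx : z * C.x ≠ 1 := fun e' => h3 (by
    rw [← inv_eq_of_mul_eq_one_right e', inv_eq_of_mul_eq_one_right hzz])
  interval_cases i <;> interval_cases j <;> interval_cases k <;> interval_cases l <;>
    simp only [Ctx.zel, pow_zero, pow_one, one_mul, mul_one] at e <;>
    first
      | exact ⟨rfl, rfl⟩
      | exact absurd e h1 | exact absurd e.symm h1 | exact absurd e h2 | exact absurd e.symm h2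
      | exact absurd e h3 | exact absurd e.symm h3 | exact absurd e hzx | exact absurd e.symm hzx
      | exact absurd (mul_eq_left.1 e) h2 | exact absurd (left_eq_mul.1 e) h2
      | exact absurd (mul_eq_right.1 e) h1 | exact absurd (right_eq_mul.1 e) h1

theorem Ctx.zel_mem (i j : ℕ) : C.zel i j ∈ C.A ∧ C.zel i j ∈ C.B :=
  ⟨mul_mem (pow_mem C.zA i) (pow_mem C.xA j), mul_mem (pow_mem C.zB i) (pow_mem C.xB j)⟩

theorem Ctx.inter {a : G} (ha : a ∈ C.A) (hb : a ∈ C.B) : ∃ i j, i < 2 ∧ j < 2 ∧ a = C.zel i j := by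
  rcases sect C.F C.hy C.base (C.mem_A.1 ha).1 (C.B_inQ hb) with e | e | e | e
  · exact ⟨0, 0, by omega, by omega, by simp [Ctx.zel, e]⟩
  · exact ⟨1, 0, by omega, by omega, by simp [Ctx.zel, e]⟩
  · exact ⟨0, 1, by omega, by omega, by simp [Ctx.zel, e]⟩
  · exact ⟨1, 1, by omega, by omega, by simp [Ctx.zel, e, C.xz.eq]⟩

/-- coordinate of the first part -/
noncomputable def Ctx.co (a : G) : ℕ := nv (C.F.vec a)

theorem Ctx.hyp_A {a : G} (ha : a ∈ C.A) : Hyp0 (C.F.vec a) := by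
  rw [Hyp0, ← C.base.vec]
  exact (C.F.comm_iff C.x C.base.mem a (C.mem_A.1 ha).1).1 (C.A_x ha).symm

theorem Ctx.co_mul {a b : G} (ha : a ∈ C.A) (hb : b ∈ C.A) : C.co (a * b) = Nat.xor (C.co a) (C.co b) := by
  rw [Ctx.co, C.F.vec_mul a (C.mem_A.1 ha).1 b (C.mem_A.1 hb).1, nv_add]; rfl

theorem Ctx.co_zero {a : G} (ha : a ∈ C.A) : C.co a = 0 ↔ ∃ i j, i < 2 ∧ j < 2 ∧ a = C.zel i j := by
  constructor
  · intro h
    have hQ := (C.mem_A.1 ha).1
    rcases nv_eq_zero (C.hyp_A ha) h with e | e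
    · rcases (C.F.vec_zero a hQ).1 e with e | e
      · exact ⟨0, 0, by omega, by omega, by simp [Ctx.zel, e]⟩
      · exact ⟨1, 0, by omega, by omega, by simp [Ctx.zel, e]⟩
    · rcases vec_eq C.F hQ C.base.mem C.hy (e.trans C.base.vec.symm) with e | e
      · exact ⟨0, 1, by omega, by omega, by simp [Ctx.zel, e]⟩
      · exact ⟨1, 1, by omega, by omega, by simp [Ctx.zel, e, C.xz.eq]⟩
  · rintro ⟨i, j, hi, hj, rfl⟩
    have hz0 : C.co z = 0 := by rw [Ctx.co, (C.F.vec_zero z (zQ C.hy)).2 (Or.inr rfl), nv_zero]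
    have hx0 : C.co C.x = 0 := by rw [Ctx.co, C.base.vec, nv_e0]
    have h10 : C.co 1 = 0 := by rw [Ctx.co, vec_one C.F C.hy, nv_zero]
    rw [Ctx.zel, C.co_mul (pow_mem C.zA i) (pow_mem C.xA j)]
    interval_cases i <;> interval_cases j <;> simp only [pow_zero, pow_one, hz0, hx0, h10] <;> rfl

theorem Ctx.co_lt (a : G) : C.co a < 16 := nv_lt _

theorem Ctx.exists_co {u : ℕ} (hu : u < 16) : ∃ a ∈ C.A, C.co a = u := by
  obtain ⟨c, hc, hb, e⟩ : ∃ c < 64, bit c 2 = 0 ∧ n4 c = u := by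
    revert u
    decide +kernel
  obtain ⟨a, ha, hv⟩ := C.F.vec_surj (vec c)
  refine ⟨a, C.mem_A.2 ⟨ha, ?_⟩, by rw [Ctx.co, hv, nv, enc_vec c hc, e]⟩
  refine ((C.F.comm_iff C.x C.base.mem a ha).2 ?_).symm
  rw [C.base.vec, hv]
  exact (hyp0_iff _).2 (by rw [enc_vec c hc]; exact hb)

theorem Ctx.sq_A {a : G} (ha : a ∈ C.A) : a * a = C.zel (q4 (C.co a)) 0 := by
  have hQ := (C.mem_A.1 ha).1
  have hq : q4 (C.co a) < 2 := Nat.mod_lt _ (by norm_num)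
  have h := qm_nv (C.hyp_A ha)
  change qm (C.F.vec a) = (q4 (C.co a) : ZMod 2) at h
  have hs := C.F.sq_iff a hQ
  rw [h] at hs
  interval_cases q4 (C.co a)
  · simp [Ctx.zel, hs.2 (by simp)]
  · rcases C.F.sq_or a hQ with e | e
    · exact absurd (hs.1 e) (by simp)
    · simp [Ctx.zel, e]

/-- coordinate of the second part -/
noncomputable def Ctx.th (c : G) : ℕ := Rad.th (C.pi c)

/-- the radical subgroup -/
def Ctx.R : Subgroup G where
  carrier := {c | Commute c z ∧ Commute c C.x ∧ RadAt (C.pi c)}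
  one_mem' := ⟨Commute.one_left _, Commute.one_left _, by rw [C.pi_one]; exact rad_one⟩
  mul_mem' {a b} ha hb := ⟨ha.1.mul_left hb.1, ha.2.1.mul_left hb.2.1, by
    rw [C.pi_mul ha.1 hb.1]; exact rad_mul ha.2.2 hb.2.2⟩
  inv_mem' {a} ha := ⟨ha.1.inv_left, ha.2.1.inv_left, by
    rw [C.pi_inv ha.1]
    refine ⟨inv_smul_eq_iff.2 ha.2.2.1.symm, fun v hv => ?_⟩
    rcases ha.2.2.2 v hv with e | e
    · exact Or.inl (inv_smul_eq_iff.2 e.symm)
    · exact Or.inr (inv_smul_eq_iff.2 (by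
        rw [smul_add', ha.2.2.1, e, add_assoc, ZModModule.add_self, add_zero]))⟩

theorem Ctx.A_le : C.A ≤ C.R := fun a ha =>
  ⟨C.A_z ha, C.A_x ha, by rw [C.pi_core (C.mem_A.1 ha).1]; exact rad_one⟩

theorem Ctx.B_le : C.B ≤ C.R := fun b hb => ⟨C.B_z hb, C.B_x hb, by
  rw [C.pi_eq (C.B_z hb)]; exact radAt C.F C.hy C.base (C.B_inQ hb)⟩

theorem Ctx.th_A {a : G} (ha : a ∈ C.A) : C.th a = 0 := by
  rw [Ctx.th, C.pi_core (C.mem_A.1 ha).1, th_one]

theorem Ctx.th_mul {a b : G} (ha : a ∈ C.R) (hb : b ∈ C.R) : C.th (a * b) = Nat.xor (C.th a) (C.th b) := by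
  rw [Ctx.th, C.pi_mul ha.1 hb.1]; exact Rad.th_mul ha.2.2 hb.2.2

theorem Ctx.exists_B {r : Ga} (hr : RadAt r) : ∃ b ∈ C.B, C.pi b = r := by
  obtain ⟨m, hm, e⟩ := rad_surj C.F C.hy C.base hr
  exact ⟨m, C.mem_B_iff.2 ⟨hm, mem_C.1 m.2⟩, by rw [C.pi_eq (mem_C.1 m.2)]; exact e⟩

theorem Ctx.decomp {c : G} (hc : c ∈ C.R) : ∃ a ∈ C.A, ∃ b ∈ C.B, c = a * b := by
  obtain ⟨b, hb, e⟩ := C.exists_B hc.2.2
  refine ⟨c * b⁻¹, C.mem_A.2 ⟨C.pi_mem (hc.1.mul_left (C.B_z hb).inv_left) ?_, hc.2.1.mul_left (C.B_x hb).inv_left⟩,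
    b, hb, by group⟩
  rw [C.pi_mul hc.1 (C.B_z hb).inv_left, C.pi_inv (C.B_z hb), e, mul_inv_cancel]

theorem Ctx.th_B_zero {b : G} (hb : b ∈ C.B) (h : C.th b = 0) : b ∈ C.A :=
  C.mem_A.2 ⟨C.pi_mem (C.B_z hb) ((rad_spec (C.B_le hb).2.2).2.1.1 h), C.B_x hb⟩

/-- commutation of the two parts -/
theorem Ctx.comm_AB {a b : G} (ha : a ∈ C.A) (hb : b ∈ C.B) :
    ∃ i < 2, b * a * b⁻¹ = a * C.zel i (p4 (C.co a) (C.th b)) := by
  have hQ := (C.mem_A.1 ha).1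
  have hc : b * a * b⁻¹ ∈ Q := C.hy.norm b (C.B_z hb) a hQ
  have hcA : b * a * b⁻¹ ∈ C.A := C.mem_A.2 ⟨hc, (((C.B_x hb).mul_left (C.A_x ha)).mul_left (C.B_x hb).inv_left)⟩
  have hk : a⁻¹ * (b * a * b⁻¹) ∈ C.A := mul_mem (inv_mem ha) hcA
  have hrad := (C.B_le hb).2.2
  have hv : C.F.vec (a⁻¹ * (b * a * b⁻¹)) = C.F.vec a + C.pi b • C.F.vec a := by
    rw [C.F.vec_mul _ (inv_mem hQ) _ hc, vec_inv C.F C.hy hQ, C.vec_conj (C.B_z hb) hQ]
  have he := (rad_spec hrad).2.2.2.1 _ (C.hyp_A ha)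
  have hp : p4 (C.co a) (C.th b) < 2 := Nat.mod_lt _ (by norm_num)
  have hv' : C.F.vec (a⁻¹ * (b * a * b⁻¹)) = if p4 (C.co a) (C.th b) = 0 then 0 else e0 := by
    rw [hv]
    apply enc_injective
    rw [enc_add, he]
    show Nat.xor (enc (C.F.vec a)) (Nat.xor (enc (C.F.vec a)) (p4 (C.co a) (C.th b))) = _
    interval_cases p4 (C.co a) (C.th b) <;>
      simp [enc_zero, e0_facts.2.2]
  have key : ∀ i, a⁻¹ * (b * a * b⁻¹) = C.zel i (p4 (C.co a) (C.th b)) →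
      b * a * b⁻¹ = a * C.zel i (p4 (C.co a) (C.th b)) := fun i e => by rw [← e]; group
  interval_cases p4 (C.co a) (C.th b)
  · rcases (C.F.vec_zero _ (mul_mem (inv_mem hQ) hc)).1 (by simpa using hv') with e | e
    · exact ⟨0, by omega, key 0 (by simp [Ctx.zel, e])⟩
    · exact ⟨1, by omega, key 1 (by simp [Ctx.zel, e])⟩
  · rcases vec_eq C.F (mul_mem (inv_mem hQ) hc) C.base.mem C.hy
        ((show C.F.vec (a⁻¹ * (b * a * b⁻¹)) = e0 by simpa using hv').trans C.base.vec.symm) with e | e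
    · exact ⟨0, by omega, key 0 (by simp [Ctx.zel, e])⟩
    · exact ⟨1, by omega, key 1 (by simp [Ctx.zel, e, C.xz.eq])⟩

theorem Ctx.conj_zel (i j : ℕ) : C.w * C.zel i j * C.w⁻¹ = C.zel j i := by
  rw [Ctx.zel, Ctx.zel, show C.w * (z ^ i * C.x ^ j) * C.w⁻¹ = C.w * z ^ i * C.w⁻¹ * (C.w * C.x ^ j * C.w⁻¹) by group,
    ← conj_pow, ← conj_pow, C.wz, C.wx, (C.xz.pow_pow i j).eq]

theorem Ctx.zel_inv (i j : ℕ) : (C.zel i j)⁻¹ = C.zel i j := by
  refine inv_eq_of_mul_eq_one_right ?_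
  rw [Ctx.zel, show z ^ i * C.x ^ j * (z ^ i * C.x ^ j) = z ^ i * (C.x ^ j * z ^ i) * C.x ^ j by group,
    (C.xz.pow_pow j i).eq, show z ^ i * (z ^ i * C.x ^ j) * C.x ^ j = z ^ i * z ^ i * (C.x ^ j * C.x ^ j) by group,
    ← (Commute.refl z).mul_pow, ← (Commute.refl C.x).mul_pow, zz C.hy, C.base.sq, one_pow, one_pow, one_mul]

end Cfsg.Agent.Spor.SuzT.Rad
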