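import Cfsg.Agent.Lib.Spor.SuzR.Bar
import Cfsg.Agent.Lib.Solv.CIT.Main
import Cfsg.Agent.Lib.Lie.FPFTop.CNAlmost
import Cfsg.Agent.Lib.Spor.PlaneAut

/-!
Groups of Suzuki sporadic type: the centraliser of the four-group modulo the four-group is simple of order 20160.
-/

set_option autoImplicit false
set_option maxRecDepth 100000
set_option linter.unusedSectionVars false
set_option linter.style.haveILetI false

namespace Cfsg.Agent.Spor.SuzT.Rad

open Chk Dat

/-- every code is a product from the two elementary subgroups -/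
def genOK' : Bool :=
  (List.range 16).all fun u => !(sixB u) || (List.range 16).all fun r => !(perpR u r) ||
    (List.range 16).all fun s => !(perpR u s) || Nat.beq r s || (List.range 256).all fun n =>
      !(cmB u 4 (n / 16) (n % 16)) ||
        [(0, 0), (s, 0), (0, s), (s, s)].any fun p => inW' u r (Nat.xor (n / 16) p.1) (Nat.xor (n % 16) p.2)

theorem gen_ok' : genOK' = true := by decide +kernel

theorem two_part {a b o o' : ℕ} (ho : Odd o) (ho' : Odd o') (e : 2 ^ a * o = 2 ^ b * o') : a = b := by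
  have h1 : ∀ {a b o o' : ℕ}, Odd o' → 2 ^ a * o = 2 ^ b * o' → a ≤ b := fun {a b o o'} ho' e =>
    (Nat.pow_dvd_pow_iff_le_right (by norm_num)).1
      ((Nat.Coprime.dvd_of_dvd_mul_right (Nat.Coprime.pow_left a (Nat.coprime_two_left.2 ho')) ⟨o, e.symm⟩))
  exact le_antisymm (h1 ho' e) (h1 ho e.symm)

universe u

variable {G : Type u} [Group G] [Finite G] {z : G} {Q : Subgroup G} {C : Ctx z Q} (L : Cfg C)

open Cfsg.Agent.Solv.CITGroups (CIT orderOf_two_iff)

theorem Cfg.normal_invol {N : Subgroup L.MQ} (hN : N.Normal) {m : L.MQ} (hm : m ∈ N) (h2 : m * m = 1) (h1 : m ≠ 1) :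
    ∀ n : L.MQ, n * n = 1 → n ∈ N := by
  intro n hn
  by_cases hn1 : n = 1
  · rw [hn1]; exact one_mem _
  obtain ⟨q, rfl⟩ := L.invol_conj hn hn1
  obtain ⟨p, hp⟩ := L.invol_conj h2 h1
  have hz : L.bar L.z_Hv ∈ N := by
    rw [show L.bar L.z_Hv = p⁻¹ * m * p by rw [← hp]; group]
    simpa using hN.conj_mem m hm p⁻¹
  exact hN.conj_mem _ hz q

theorem Cfg.even_MQ : 2 ∣ Nat.card L.MQ :=
  (by norm_num : 2 ∣ 64).trans (L.card_U ▸ L.U.card_subgroup_dvd_card)

theorem Cfg.normal_two {N : Subgroup L.MQ} (hN : N.Normal) (h2 : IsPGroup 2 N) : N = ⊥ := by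
  by_contra hne
  obtain ⟨m, hm, hmo⟩ := Cfsg.Agent.Solv.CITGroups.exists_invol_mem h2 hne
  obtain ⟨hm2, hm1⟩ := orderOf_two_iff.1 hmo
  have hall := L.normal_invol hN hm hm2 hm1
  haveI : Fact (Nat.Prime 2) := ⟨Nat.prime_two⟩
  obtain ⟨P, hP⟩ := h2.exists_le_sylow
  obtain ⟨g, hg⟩ := MulAction.exists_smul_eq L.MQ P L.USyl
  have hNU : ∀ n ∈ N, n ∈ L.U := fun n hn => by
    have h1 : g⁻¹ * n * g ∈ N := by simpa using hN.conj_mem n hn g⁻¹
    have h3 : g * (g⁻¹ * n * g) * g⁻¹ ∈ (L.USyl : Subgroup L.MQ) := by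
      rw [← hg]; exact ⟨_, hP h1, rfl⟩
    rwa [show g * (g⁻¹ * n * g) * g⁻¹ = n by group] at h3
  refine L.not_all_comm fun a b ha hb => ?_
  by_cases ha1 : a = 1
  · rw [ha1]; exact Commute.one_left b
  obtain ⟨q, rfl⟩ := L.invol_conj ha ha1
  obtain ⟨hz2, hz1⟩ := L.z_bar_sq
  have hbN := hall b hb
  have hb' : q⁻¹ * b * q ∈ N := by simpa using hN.conj_mem b hbN q⁻¹
  have hc : Commute (L.bar L.z_Hv) (q⁻¹ * b * q) := by
    obtain ⟨g', hg', e⟩ := L.mem_U.1 (hNU _ hb')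
    rw [← e]
    show L.bar L.z_Hv * L.bar (L.S₀_le_Hv hg') = L.bar (L.S₀_le_Hv hg') * L.bar L.z_Hv
    rw [← L.bar_mul, ← L.bar_mul]
    exact L.bar_congr _ _ (L.mem_S₀.1 hg').1.1.symm.eq
  have := (Commute.conj_iff q).2 hc
  rwa [show q * (q⁻¹ * b * q) * q⁻¹ = b by group] at this

theorem Cfg.normal_odd {N : Subgroup L.MQ} (hN : N.Normal) (hodd : Odd (Nat.card N)) : N = ⊥ := by
  have hf : ∀ (a : G) (ha : a ∈ L.Hv), a * a = 1 → IsConj z a → ∀ k ∈ N, Commute (L.bar ha) k → k = 1 := by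
    intro a ha haa hD k hk hc
    exact L.cit.eq_one_of_commute (orderOf_two_iff.2 ⟨by rw [← L.bar_mul, L.bar_one_iff, haa]; exact one_mem _,
      fun e => L.V_not_D ((L.bar_one_iff _).1 e) hD⟩) (hodd.of_dvd_nat (Subgroup.orderOf_dvd_natCard N hk)) hc.symm
  have hx : C.x ∈ L.Hv := L.S₀_le_Hv L.x_S₀
  refine Tw.odd_bot (a := L.bar hx) (b := L.bar L.z_Hv) hN hodd ?_ L.z_bar_sq.1 ?_
    (hf _ hx C.base.sq C.base.conj) (hf _ L.z_Hv (zz C.hy) (IsConj.refl z)) ?_
  · rw [← L.bar_mul, L.bar_one_iff, C.base.sq]; exact one_mem _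
  · rw [← L.bar_mul, ← L.bar_mul]; exact L.bar_congr _ _ C.xz.eq
  · rw [← L.bar_mul]
    have h := L.four_D (a := C.x * z) (Or.inr (Or.inr rfl))
    exact hf _ _ C.zxzx h.1

theorem Cfg.pCore_bot : Cfsg.pCore 2 L.MQ = ⊥ := by
  haveI : Fact (Nat.Prime 2) := ⟨Nat.prime_two⟩
  exact L.normal_two (Solv.pCore_normal 2) (Solv.pCore_isPGroup 2)

theorem Cfg.not_solvable : ¬ Group.IsSolvable L.MQ := by
  intro hs
  haveI := hs
  haveI : Fact (Nat.Prime 2) := ⟨Nat.prime_two⟩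
  haveI : Nontrivial L.MQ := ⟨⟨_, 1, L.z_bar_sq.2⟩⟩
  obtain ⟨N, hN, hN1, hmin⟩ := Solv.exists_minimal_normal (G := L.MQ)
  haveI := hN
  obtain ⟨-, p, hp, -, hpN⟩ := Solv.minimal_normal_elementaryAbelian N inferInstance hN1 hmin
  by_cases hp2 : p = 2
  · exact hN1 (L.normal_two hN (hp2 ▸ hpN))
  · refine hN1 (L.normal_odd hN ?_)
    haveI := Fact.mk hp
    obtain ⟨k, hk⟩ := IsPGroup.iff_card.1 hpN
    rw [hk]
    exact (hp.odd_of_ne_two hp2).pow

theorem Cfg.card_Z : ¬ ∀ a ∈ L.U, ∀ b ∈ L.U, Commute a b := by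
  intro hall
  have h4 : Nat.card L.U ≤ Nat.card (Fin 2 × Fin 2) := by
    refine Nat.card_le_card_of_surjective (fun p : Fin 2 × Fin 2 =>
      (⟨L.bar (L.S₀_le_Hv (L.zel_S₀ p.1 p.2)), L.mem_U.2 ⟨_, L.zel_S₀ p.1 p.2, rfl⟩⟩ : L.U)) ?_
    rintro ⟨m, hm⟩
    obtain ⟨i, j, hi, hj, e⟩ := L.center_U hm (hall m hm)
    exact ⟨(⟨i, hi⟩, ⟨j, hj⟩), Subtype.ext e.symm⟩
  rw [L.card_U, Nat.card_prod, Nat.card_fin] at h4
  omega

theorem Cfg.seven_fix {k : L.MQ} (hk : k ^ 7 = 1) (hU : ∀ m ∈ L.U, k * m * k⁻¹ ∈ L.U)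
    (hU' : ∀ m ∈ L.U, k⁻¹ * m * k ∈ L.U) : Commute k (L.bar L.z_Hv) := by
  classical
  let ZS : Set L.MQ := {m | m ∈ L.U ∧ m ≠ 1 ∧ ∀ n ∈ L.U, Commute m n}
  have hmap : ∀ m ∈ ZS, k * m * k⁻¹ ∈ ZS := fun m ⟨h1, h2, h3⟩ =>
    ⟨hU m h1, fun e => h2 (conj_eq_one_iff.1 e), fun n hn => by
      have := (Commute.conj_iff k).2 (h3 _ (hU' n hn))
      rwa [show k * (k⁻¹ * n * k) * k⁻¹ = n by group] at this⟩
  have hz0 : L.bar L.z_Hv ∈ ZS := ⟨L.z_U, L.z_bar_sq.2, fun n hn => by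
    obtain ⟨g, hg, rfl⟩ := L.mem_U.1 hn
    show L.bar L.z_Hv * L.bar (L.S₀_le_Hv hg) = L.bar (L.S₀_le_Hv hg) * L.bar L.z_Hv
    rw [← L.bar_mul, ← L.bar_mul]
    exact L.bar_congr _ _ (L.mem_S₀.1 hg).1.1.symm.eq⟩
  have hcard : Nat.card ZS ≤ 3 := by
    have h3 : Nat.card {p : Fin 2 × Fin 2 // p ≠ (0, 0)} = 3 := by
      rw [Nat.card_eq_fintype_card]; rfl
    rw [← h3]
    refine Nat.card_le_card_of_injective (fun m : ZS =>
      ⟨(⟨(L.center_U m.2.1 m.2.2.2).choose, (L.center_U m.2.1 m.2.2.2).choose_spec.choose_spec.1⟩,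
        ⟨(L.center_U m.2.1 m.2.2.2).choose_spec.choose, (L.center_U m.2.1 m.2.2.2).choose_spec.choose_spec.2.1⟩),
        fun e => ?_⟩) ?_
    · have e1 := congrArg (fun p : Fin 2 × Fin 2 => (p.1 : ℕ)) e
      have e2 := congrArg (fun p : Fin 2 × Fin 2 => (p.2 : ℕ)) e
      simp only [Fin.val_zero] at e1 e2
      refine m.2.2.1 ((L.center_U m.2.1 m.2.2.2).choose_spec.choose_spec.2.2.trans ((L.bar_one_iff _).2 ?_))
      rw [e2, e1, C.zel_zero]
      exact one_mem _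
    · intro a b e
      have e' := congrArg Subtype.val e
      have e1 := congrArg (fun p : Fin 2 × Fin 2 => (p.1 : ℕ)) e'
      have e2 := congrArg (fun p : Fin 2 × Fin 2 => (p.2 : ℕ)) e'
      simp only at e1 e2
      refine Subtype.ext ((L.center_U a.2.1 a.2.2.2).choose_spec.choose_spec.2.2.trans
        (Eq.trans (L.bar_congr _ _ ?_) (L.center_U b.2.1 b.2.2.2).choose_spec.choose_spec.2.2.symm))
      rw [e2, e1]
  -- a permutation of at most three points with order dividing seven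
  let φ : Equiv.Perm ZS := Equiv.ofBijective (fun m => ⟨k * m.1 * k⁻¹, hmap _ m.2⟩)
    (Finite.injective_iff_bijective.1 fun a b e =>
      Subtype.ext (mul_left_cancel (mul_right_cancel (congrArg Subtype.val e))))
  have hpow : ∀ n : ℕ, ∀ m : ZS, ((φ ^ n) m).1 = k ^ n * m.1 * (k ^ n)⁻¹ := by
    intro n
    induction n with
    | zero => intro m; simp
    | succ n ih =>
      intro m
      rw [pow_succ, Equiv.Perm.mul_apply, ih]
      show k ^ n * (k * m.1 * k⁻¹) * (k ^ n)⁻¹ = _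
      rw [pow_succ]; group
  have h7 : φ ^ 7 = 1 := by
    ext m
    rw [hpow, hk]; simp
  have hφ : φ = 1 := by
    have h1 : orderOf φ ∣ 7 := orderOf_dvd_of_pow_eq_one h7
    have h2 : orderOf φ ∣ (Nat.card ZS).factorial := by
      rw [← Nat.card_perm]; exact orderOf_dvd_natCard φ
    have h3 : (Nat.card ZS).factorial ∣ 6 := (Nat.factorial_dvd_factorial hcard)
    exact orderOf_eq_one_iff.1 (Nat.eq_one_of_dvd_coprimes (by norm_num : Nat.Coprime 7 6) h1 (h2.trans h3))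
  have := congrArg (fun p : Equiv.Perm ZS => (p ⟨_, hz0⟩).1) hφ
  exact mul_inv_eq_iff_eq_mul.1 this

theorem Cfg.U_le {N : Subgroup L.MQ} (hall : ∀ n : L.MQ, n * n = 1 → n ∈ N) : L.U ≤ N := by
  intro m hm
  obtain ⟨g, hg, rfl⟩ := L.mem_U.1 hm
  obtain ⟨hR, hgt⟩ := L.mem_S₀.1 hg
  obtain ⟨r, hr⟩ := L.exists_perp
  obtain ⟨hs, hne, -, -⟩ := L.sw_perp hr
  have h := List.all_eq_true.mp gen_ok' L.u (List.mem_range.mpr L.u_lt)
  rw [L.six, Bool.not_true, Bool.false_or] at h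
  have h1 := List.all_eq_true.mp h r (List.mem_range.mpr (perp_spec hr).1)
  rw [hr, Bool.not_true, Bool.false_or] at h1
  have h2 := List.all_eq_true.mp h1 (L.sw r) (List.mem_range.mpr (perp_spec hs).1)
  have hne' : Nat.beq r (L.sw r) = false := (Bool.not_eq_true _).mp fun e => hne (Nat.eq_of_beq_eq_true e).symm
  rw [hs, hne', Bool.not_true, Bool.false_or, Bool.false_or] at h2
  have hu := C.fst_lt g
  have hv := C.th_lt' g
  have h3 := List.all_eq_true.mp h2 (16 * C.fst g + C.th g) (List.mem_range.mpr (by omega))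
  rw [show (16 * C.fst g + C.th g) / 16 = C.fst g by omega, show (16 * C.fst g + C.th g) % 16 = C.th g by omega,
    (L.comm_t hR).1 hgt, Bool.not_true, Bool.false_or, List.any_eq_true] at h3
  obtain ⟨⟨p, q⟩, hpq, hin⟩ := h3
  have hE : inE (L.sw r) p q = true ∧ p < 16 ∧ q < 16 := by
    have h0 := (perp_spec hs).1
    simp only [List.mem_cons, Prod.mk.injEq, List.not_mem_nil, or_false] at hpq
    rcases hpq with ⟨rfl, rfl⟩ | ⟨rfl, rfl⟩ | ⟨rfl, rfl⟩ | ⟨rfl, rfl⟩ <;>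
      exact ⟨inE_iff.2 ⟨by tauto, by tauto⟩, by omega, by omega⟩
  obtain ⟨e1, a1, a2⟩ := C.rep_coords (u := p) (v := q) (i := 0) (j := 0) hE.2.1 hE.2.2 (by norm_num) (by norm_num)
  obtain ⟨e, he0⟩ : ∃ e, e = C.ra p * C.rb q * C.zel 0 0 := ⟨_, rfl⟩
  rw [← he0] at e1 a1 a2
  have he : e ∈ L.W (L.sw r) := L.E_le_W hs (Cfg.mem_E.2 ⟨e1, by rw [a1, a2]; exact hE.1⟩)
  have hw : g * e⁻¹ ∈ L.W r := (L.mem_W hr).2 ⟨mul_mem hR (inv_mem e1), by
    rw [C.fst_hom hR (inv_mem e1), C.th_mul hR (inv_mem e1), (C.coords_inv e1).1, (C.coords_inv e1).2, a1, a2]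
    exact hin⟩
  have heH := L.S₀_le_Hv (L.W_le hs he)
  have hwH := L.S₀_le_Hv (L.W_le hr hw)
  have e2 : L.bar (L.S₀_le_Hv hg) = L.bar hwH * L.bar heH := by
    rw [← L.bar_mul]; exact L.bar_congr _ _ (by group)
  rw [e2]
  exact mul_mem (hall _ (by rw [← L.bar_mul, L.bar_one_iff, L.W_sq hr hw]; exact one_mem _))
    (hall _ (by rw [← L.bar_mul, L.bar_one_iff, L.W_sq hs he]; exact one_mem _))

/-- the quotient is simple of order 20160 -/
theorem Cfg.MQ_facts : Nat.card L.MQ = 20160 ∧ IsSimpleGroup L.MQ ∧ ∃ a b : L.MQ, a * b ≠ b * a := by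
  classical
  haveI : Fact (Nat.Prime 2) := ⟨Nat.prime_two⟩
  haveI : Nontrivial L.MQ := ⟨⟨_, 1, L.z_bar_sq.2⟩⟩
  obtain ⟨N, hN, hN1, hmin⟩ := Solv.exists_minimal_normal (G := L.MQ)
  haveI := hN
  obtain ⟨hs, hna, hN2, hcen⟩ := L.cit.minimal_simple L.not_solvable L.even_MQ L.pCore_bot hN1
    fun M hM hM1 hle => (hmin M hM hle).resolve_left hM1
  haveI := hs
  obtain ⟨⟨t, htN⟩, hto⟩ := exists_prime_orderOf_dvd_card' 2 hN2
  rw [Subgroup.orderOf_mk] at hto
  obtain ⟨ht2, ht1⟩ := orderOf_two_iff.1 hto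
  have hUN := L.U_le (L.normal_invol hN htN ht2 ht1)
  have hodd : Odd N.index := by
    have h1 : N.index ∣ L.U.index := Subgroup.index_dvd_of_le hUN
    refine (Nat.not_even_iff_odd.1 fun e => L.USyl.not_dvd_index ?_).of_dvd_nat h1
    exact even_iff_two_dvd.1 e
  have hcardN : ∃ o, Odd o ∧ Nat.card N = 64 * o := by
    refine ⟨(L.U.subgroupOf N).index, ?_, ?_⟩
    · refine (Nat.not_even_iff_odd.1 fun e => L.USyl.not_dvd_index (even_iff_two_dvd.1 e) :
        Odd L.U.index).of_dvd_nat ?_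
      exact Dvd.intro _ (Subgroup.relIndex_mul_index hUN)
    · rw [← (L.U.subgroupOf N).card_mul_index, Nat.card_congr (Subgroup.subgroupOfEquivOfLe hUN).toEquiv, L.card_U]
  obtain ⟨o, ho, hcN⟩ := hcardN
  rcases Cfsg.Agent.Solv.CITGroups.classify hna (L.cit.subgroup N) hN2 (Cfsg.Agent.Solv.CITGroups.below_all _)
    with ⟨n, T, hT⟩ | ⟨F, i1, i2, hF, ⟨e⟩⟩ | ⟨-, F, i1, i2, hq, ⟨e⟩⟩
  · exfalso
    have hn := hT.two_le
    have hpm : Odd (2 ^ n - 1) :=
      Nat.Even.sub_odd Nat.one_le_two_pow ((Nat.even_pow' (by omega)).2 even_two) odd_one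
    have h2n : 4 ≤ 2 ^ n := (show (4 : ℕ) = 2 ^ 2 by norm_num) ▸ Nat.pow_le_pow_right (by norm_num) hn
    obtain ⟨i, hi⟩ := IsPGroup.iff_card.1 hT.T2
    have hi0 : i ≠ 0 := fun e0 => by
      rw [e0, pow_zero] at hi
      rcases hT.kind with ⟨hk, -⟩ | ⟨hk, -⟩
      · omega
      · rw [hi] at hk
        have := Nat.le_self_pow (show (2 : ℕ) ≠ 0 by norm_num) (2 ^ n)
        omega
    have hti : Odd (2 ^ i + 1) := ((Nat.even_pow' hi0).2 even_two).add_one
    have hc := hT.cardG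
    rw [hcN, hi, show (2 ^ i + 1) * (2 ^ i * (2 ^ n - 1)) = 2 ^ i * ((2 ^ i + 1) * (2 ^ n - 1)) by ring,
      show (64 : ℕ) = 2 ^ 6 from rfl] at hc
    have hi6 := two_part ho (hti.mul hpm) hc
    subst hi6
    have hTidx : ¬ 2 ∣ T.index := by
      have h := T.card_mul_index
      rw [hcN, hi] at h
      rw [show T.index = o by omega]
      exact fun h2 => Nat.not_even_iff_odd.2 ho (even_iff_two_dvd.2 h2)
    obtain ⟨g, hg⟩ := MulAction.exists_smul_eq N (hT.T2.toSylow hTidx) (L.USyl.subtype hUN)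
    have hTU : ∀ m : N, m ∈ T ↔ ((g * m * g⁻¹ : N) : L.MQ) ∈ L.U := by
      intro m
      have h : g * m * g⁻¹ ∈ ((L.USyl.subtype hUN : Sylow 2 N) : Subgroup N) ↔ m ∈ T := by
        rw [← hg]
        constructor
        · rintro ⟨w, hw, e'⟩
          rwa [← mul_left_cancel (mul_right_cancel (show g * w * g⁻¹ = g * m * g⁻¹ from e'))]
        · exact fun h => ⟨m, h, rfl⟩
      exact h.symm
    rcases hT.kind with ⟨-, hsq, -⟩ | ⟨hk, -, -, -⟩
    · refine L.card_Z fun a ha b hb => ?_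
      have key : ∀ x : L.MQ, x ∈ L.U → x * x = 1 := fun x hx => by
        have h1 : g⁻¹ * ⟨x, hUN hx⟩ * g ∈ T := (hTU _).2 (by
          rw [show g * (g⁻¹ * (⟨x, hUN hx⟩ : N) * g) * g⁻¹ = ⟨x, hUN hx⟩ by group]; exact hx)
        have h2 := congrArg (fun m : N => ((g * m * g⁻¹ : N) : L.MQ)) (hsq _ h1)
        simp only [mul_one, mul_inv_cancel, OneMemClass.coe_one] at h2
        rw [show g * (g⁻¹ * (⟨x, hUN hx⟩ : N) * g * (g⁻¹ * ⟨x, hUN hx⟩ * g)) * g⁻¹ = ⟨x, hUN hx⟩ * ⟨x, hUN hx⟩ by group]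
          at h2
        exact h2
      have h3 := key _ (mul_mem ha hb)
      show a * b = b * a
      calc a * b = (a * b)⁻¹ := (inv_eq_of_mul_eq_one_right h3).symm
        _ = b * a := by rw [mul_inv_rev, inv_eq_of_mul_eq_one_right (key a ha), inv_eq_of_mul_eq_one_right (key b hb)]
    · have hn3 : n = 3 := by
        rw [hi, ← pow_mul] at hk
        have := Nat.pow_right_injective le_rfl hk
        omega
      obtain ⟨k, hkN, hko⟩ := hT.gen
      rw [hn3, show 2 ^ 3 - 1 = 7 by norm_num] at hko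
      set k' : N := g * k * g⁻¹ with hk'
      have hk7 : (k' : L.MQ) ^ 7 = 1 := by
        rw [← SubmonoidClass.coe_pow, hk', conj_pow, ← hko, pow_orderOf_eq_one]
        simp
      have hmove : ∀ (j : N), j ∈ Subgroup.normalizer (T : Set N) → ∀ m ∈ L.U,
          ((g * j * g⁻¹ : N) : L.MQ) * m * ((g * j * g⁻¹ : N) : L.MQ)⁻¹ ∈ L.U := fun j hj m hm => by
        have h1 : g⁻¹ * ⟨m, hUN hm⟩ * g ∈ T := (hTU _).2 (by
          rw [show g * (g⁻¹ * (⟨m, hUN hm⟩ : N) * g) * g⁻¹ = ⟨m, hUN hm⟩ by group]; exact hm)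
        have h2 := (hTU _).1 ((Subgroup.mem_normalizer_iff.1 hj _).1 h1)
        rw [show g * (j * (g⁻¹ * (⟨m, hUN hm⟩ : N) * g) * j⁻¹) * g⁻¹ =
          (g * j * g⁻¹) * ⟨m, hUN hm⟩ * (g * j * g⁻¹)⁻¹ by group] at h2
        exact h2
      have hcom := L.seven_fix hk7 (hmove k hkN) fun m hm => by
        have := hmove k⁻¹ (inv_mem hkN) m hm
        rwa [show (g * k⁻¹ * g⁻¹ : N) = k'⁻¹ by rw [hk']; group, Subgroup.coe_inv, inv_inv] at this
      have hk1 : (k' : L.MQ) = 1 := L.cit.eq_one_of_commute (orderOf_two_iff.2 L.z_bar_sq)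
        ((show Odd 7 from ⟨3, rfl⟩).of_dvd_nat (orderOf_dvd_of_pow_eq_one hk7)) hcom
      have : k = 1 := conj_eq_one_iff.1 (Subtype.ext hk1 : k' = 1)
      rw [this, orderOf_one] at hko
      omega
  · have hcard : Nat.card N = 20160 := (Nat.card_congr e.toEquiv).trans (Spor.PlaneAut.card_psl34 hF)
    have h1 : N.index = 1 := by
      rcases (Nat.dvd_prime Nat.prime_two).1 (Lie.CNTop.index_dvd_two L.cit (m := 4032) (by rw [hcard])
        (by norm_num) (by norm_num)) with h | h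
      · exact h
      · rw [h] at hodd
        exact absurd hodd (by decide)
    have htop := Subgroup.index_eq_one.1 h1
    subst htop
    obtain ⟨a, b, hab⟩ := hna
    exact ⟨(Nat.card_congr Subgroup.topEquiv.toEquiv).symm.trans hcard, (Subgroup.topEquiv).symm.isSimpleGroup,
      a, b, fun e' => hab (Subtype.ext e')⟩
  · exfalso
    have hcp := Classical.Dickson.card_psl F
    rw [← Nat.card_congr e.toEquiv, hcN] at hcp
    generalize Fintype.card F = q at hq hcp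
    have hqodd : Odd q → False := by
      intro hqo
      rw [Nat.gcd_eq_left (by obtain ⟨j, hj⟩ := hqo; omega), mul_right_comm, show 64 * 2 = 2 ^ 7 from rfl] at hcp
      rcases hq with rfl | ⟨hp, k, hk⟩
      · have : 2 ^ 7 ∣ 9 * (9 ^ 2 - 1) := ⟨o, hcp.symm⟩
        norm_num at this
      · have hk2 : 2 ≤ k := by
          rcases k with _ | _ | k
          · rcases hk with h | h <;> simp at h
            · subst h; exact absurd hqo (by decide)
            · subst h; exact absurd hp Nat.not_prime_zero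
          · exfalso
            rcases hk with h | h <;> simp at h <;> subst h
            · have : 2 ^ 7 ∣ 3 * (3 ^ 2 - 1) := ⟨o, hcp.symm⟩
              norm_num at this
            · exact Nat.not_prime_one hp
          · omega
        have hhalf : ∀ {w : ℕ}, 2 ≤ w → 2 ^ w = 2 * 2 ^ (w - 1) ∧ Even (2 ^ (w - 1)) := fun {w} hw =>
          ⟨by rw [← pow_succ']; congr 1; omega, (Nat.even_pow' (by omega)).2 even_two⟩
        obtain ⟨hh, hev⟩ := hhalf hk2
        have hpos : 0 < 2 ^ (k - 1) := Nat.two_pow_pos _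
        rcases hk with h | h
        · have e1 : q * (q ^ 2 - 1) = 2 ^ (k + 1) * (q * (2 ^ (k - 1) + 1)) := by
            have : q ^ 2 - 1 = 2 ^ (k + 1) * (2 ^ (k - 1) + 1) := by
              rw [show q ^ 2 - 1 = (q + 1) * (q - 1) by simpa using Nat.sq_sub_sq q 1, h, pow_succ, hh,
                Nat.add_sub_cancel]
              ring
            rw [this]; ring
          rw [e1] at hcp
          have := two_part ho (hqo.mul hev.add_one) hcp
          rw [show k = 6 by omega] at h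
          norm_num at h
          rw [h] at hp
          norm_num at hp
        · have e1 : q * (q ^ 2 - 1) = 2 ^ (k + 1) * (q * (2 ^ (k - 1) - 1)) := by
            have : q ^ 2 - 1 = 2 ^ (k + 1) * (2 ^ (k - 1) - 1) := by
              rw [show q ^ 2 - 1 = (q + 1) * (q - 1) by simpa using Nat.sq_sub_sq q 1, h, pow_succ,
                show q - 1 = 2 * (2 ^ (k - 1) - 1) by omega]
              ring
            rw [this]; ring
          rw [e1] at hcp
          have := two_part ho (hqo.mul (Nat.Even.sub_odd (by omega) hev odd_one)) hcp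
          rw [show k = 6 by omega] at h
          norm_num at h
          rw [show q = 63 by omega] at hp
          norm_num at hp
    refine hqodd ?_
    rcases hq with rfl | ⟨hp, k, hk⟩
    · decide
    · refine hp.odd_of_ne_two fun h2 => ?_
      subst h2
      norm_num at hcp
      omega

end Cfsg.Agent.Spor.SuzT.Rad
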